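import Cfsg.Agent.H68.ShortPlus.PairTau
import Cfsg.Agent.H99.CTDMono
import Cfsg.Agent.H99.SLBounded

/-!
Blocks `SL(2)` of a special linear group on two coordinates.
-/

set_option autoImplicit false
set_option linter.unusedSimpArgs false

namespace Cfsg.Agent.H68.ShortPlus

open Matrix Equiv Cfsg.Agent.H68.ShortSL
open Cfsg.Agent.H99.CT (dflip dflip_coe hom_ext_transvection eq_emb emb_transvection)
open Cfsg.Agent.H99.CTD (el el_coe el_add el_zero el_self el_neg el_comm Mono wEl elGroup el_mem)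
open Cfsg.Agent.H99.BoundedPres (muA muA_tv)

variable {F : Type*} [Field F] {n : ℕ}

local notation "SL2" => Matrix.SpecialLinearGroup (Fin 2) F
local notation "SLn" => Matrix.SpecialLinearGroup (Fin n) F

theorem el_eq {ι : Type*} [Fintype ι] [DecidableEq ι] {a b : ι} (h : a ≠ b) (t : F) :
    el a b t = Matrix.SpecialLinearGroup.transvection h t := dif_pos h

/-- Homomorphisms of `SL(2)` are determined on both root groups. -/
theorem hom_ext_ul {H : Type*} [Group H] {f g : SL2 →* H} (hu : ∀ t, f (up t) = g (up t))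
    (hl : ∀ t, f (lo t) = g (lo t)) : f = g :=
  hom_ext_transvection fun i j hij t => by
    fin_cases i <;> fin_cases j <;> first
      | exact absurd rfl hij
      | exact (transvection_up hij t).symm ▸ hu t
      | exact (transvection_lo hij t).symm ▸ hl t

/-- A property of products of root elements holds in `SL(2)`. -/
theorem ul_induction {p : SL2 → Prop} (h1 : p 1) (hu : ∀ t, p (up t)) (hl : ∀ t, p (lo t))
    (hm : ∀ x y, p x → p y → p (x * y)) (y : SL2) : p y :=
  Cfsg.Agent.Linear.transvection_induction h1 (fun i j hij t => by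
    fin_cases i <;> fin_cases j <;> first
      | exact absurd rfl hij
      | exact (transvection_up hij t).symm ▸ hu t
      | exact (transvection_lo hij t).symm ▸ hl t) hm y

/-- The block on an ordered pair of coordinates. -/
noncomputable def blk (a b : Fin n) : SL2 →* SLn :=
  if h : a ≠ b then Cfsg.Agent.H99.CT.emb ⟨![a, b], by
    intro i j
    fin_cases i <;> fin_cases j <;> simp [h, h.symm]⟩ else 1

theorem blk_up {a b : Fin n} (h : a ≠ b) (t : F) : blk a b (up t) = el a b t := by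
  rw [blk, dif_pos h, ← transvection_up (by decide) t, emb_transvection, el_eq h]
  rfl

theorem blk_lo {a b : Fin n} (h : a ≠ b) (t : F) : blk a b (lo t) = el b a t := by
  rw [blk, dif_pos h, ← transvection_lo (by decide) t, emb_transvection, el_eq h.symm]
  rfl

theorem blk_swap {a b : Fin n} (h : a ≠ b) (y : SL2) : blk b a y = blk a b (sw y) := by
  have e : (blk b a : SL2 →* SLn) = (blk a b).comp sw := hom_ext_ul
    (fun t => by rw [MonoidHom.comp_apply, sw_up, blk_up h.symm, blk_lo h])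
    (fun t => by
      rw [MonoidHom.comp_apply, ← sw_up, sw_sw, sw_up, blk_lo h.symm, blk_up h])
  exact DFunLike.congr_fun e y

theorem muA_el (g : alternatingGroup (Fin n)) (a b : Fin n) (t : F) :
    muA g * el a b t * (muA g)⁻¹ = el ((g : Perm (Fin n)) a) ((g : Perm (Fin n)) b) t := by
  by_cases h : a = b
  · subst h; rw [el_self, el_self, mul_one, mul_inv_cancel]
  · rw [el_eq h, el_eq ((g : Perm (Fin n)).injective.ne h)]
    exact muA_tv g h t

theorem muA_blk' (g : alternatingGroup (Fin n)) {a b : Fin n} (h : a ≠ b) (y : SL2) :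
    muA g * blk a b y * (muA g)⁻¹
      = blk ((g : Perm (Fin n)) a) ((g : Perm (Fin n)) b) y := by
  have h' := (g : Perm (Fin n)).injective.ne h
  have e : (MulAut.conj (muA g : SLn)).toMonoidHom.comp (blk a b)
      = blk ((g : Perm (Fin n)) a) ((g : Perm (Fin n)) b) := hom_ext_ul
    (fun t => by
      show muA g * _ * (muA g)⁻¹ = _
      rw [blk_up h, blk_up h', muA_el])
    (fun t => by
      show muA g * _ * (muA g)⁻¹ = _
      rw [blk_lo h, blk_lo h', muA_el])
  exact DFunLike.congr_fun e y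

theorem blk_comm {a b c d : Fin n} (hab : a ≠ b) (hcd : c ≠ d) (hac : a ≠ c) (had : a ≠ d)
    (hbc : b ≠ c) (hbd : b ≠ d) (y z : SL2) :
    Commute (blk a b y) (blk c d z : SLn) := by
  refine ul_induction (p := fun y => Commute (blk a b y) (blk c d z : SLn)) ?_ ?_ ?_
    (fun x y hx hy => by rw [map_mul]; exact hx.mul_left hy) y
  · rw [map_one]; exact Commute.one_left _
  · intro t
    refine ul_induction (p := fun z => Commute _ (blk c d z : SLn)) ?_ ?_ ?_
      (fun x y hx hy => by rw [map_mul]; exact hx.mul_right hy) z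
    · rw [map_one]; exact Commute.one_right _
    · intro u; rw [blk_up hab, blk_up hcd]; exact el_comm had hbc t u
    · intro u; rw [blk_up hab, blk_lo hcd]; exact el_comm hac hbd t u
  · intro t
    refine ul_induction (p := fun z => Commute _ (blk c d z : SLn)) ?_ ?_ ?_
      (fun x y hx hy => by rw [map_mul]; exact hx.mul_right hy) z
    · rw [map_one]; exact Commute.one_right _
    · intro u; rw [blk_lo hab, blk_up hcd]; exact el_comm hbd hac t u
    · intro u; rw [blk_lo hab, blk_lo hcd]; exact el_comm hbc had t u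

theorem blk_el_comm {a b c d : Fin n} (hab : a ≠ b) (hac : a ≠ c) (had : a ≠ d)
    (hbc : b ≠ c) (hbd : b ≠ d) (y : SL2) (t : F) :
    Commute (blk a b y) (el c d t : SLn) := by
  by_cases h : c = d
  · subst h; rw [el_self]; exact Commute.one_right _
  · rw [← blk_up h]; exact blk_comm hab h hac had hbc hbd y _

theorem blk_dg_coe {a b : Fin n} (h : a ≠ b) (v : Fˣ) :
    ((blk a b (dg v) : SLn) : Matrix (Fin n) (Fin n) F) = Matrix.diagonal fun i =>
      if i = a then (v : F) else if i = b then ((v⁻¹ : Fˣ) : F) else 1 := by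
  classical
  let e : Fin 2 ↪ Fin n := ⟨![a, b], by
    intro i j
    fin_cases i <;> fin_cases j <;> simp [h, h.symm]⟩
  let g : SLn := ⟨Matrix.diagonal fun i =>
      if i = a then (v : F) else if i = b then ((v⁻¹ : Fˣ) : F) else 1, by
    rw [Matrix.det_diagonal, ← Finset.mul_prod_erase Finset.univ _ (Finset.mem_univ a),
      ← Finset.mul_prod_erase (Finset.univ.erase a) _
        (Finset.mem_erase.mpr ⟨h.symm, Finset.mem_univ b⟩), Finset.prod_eq_one]
    · simp [h.symm]
    · intro i hi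
      simp only [Finset.mem_erase] at hi
      simp [hi.1, hi.2.1]⟩
  have hg : blk a b (dg v) = g := by
    rw [blk, dif_pos h]
    refine (eq_emb e _ g (fun i j => ?_) (fun y hy j => ?_) (fun y hy i => ?_)).symm
    · show Matrix.diagonal _ (![a, b] i) (![a, b] j) = _
      fin_cases i <;> fin_cases j <;> simp [e, dg, h, h.symm]
    · have h1 : y ≠ a := fun e' => hy ⟨0, e'.symm⟩
      have h2 : y ≠ b := fun e' => hy ⟨1, e'.symm⟩
      show Matrix.diagonal _ y j = _
      by_cases hj : y = j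
      · subst hj; simp [h1, h2]
      · simp [hj]
    · have h1 : y ≠ a := fun e' => hy ⟨0, e'.symm⟩
      have h2 : y ≠ b := fun e' => hy ⟨1, e'.symm⟩
      show Matrix.diagonal _ i y = _
      by_cases hi : i = y
      · subst hi; simp [h1, h2]
      · simp [hi]
  rw [hg]

theorem diag_conj_el {D : SLn} {f : Fin n → F}
    (hD : (D : Matrix (Fin n) (Fin n) F) = Matrix.diagonal f) {a b : Fin n} (h : a ≠ b) {t u : F}
    (hu : f a * t = u * f b) : D * el a b t * D⁻¹ = el a b u := by
  rw [mul_inv_eq_iff_eq_mul]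
  refine Subtype.ext (Matrix.ext fun i j => ?_)
  simp only [Matrix.SpecialLinearGroup.coe_mul, hD, Matrix.diagonal_mul, Matrix.mul_diagonal,
    el_coe h, Matrix.add_apply, Matrix.one_apply, Matrix.single_apply]
  by_cases hij : a = i ∧ b = j
  · obtain ⟨rfl, rfl⟩ := hij
    simp [h, hu]
  · simp only [if_neg hij, add_zero]
    split_ifs with e
    · rw [e]; ring
    · ring

/-- The Weyl element of `SL(2)`. -/
def wi : SL2 := ⟨!![0, 1; -1, 0], by simp [Matrix.det_fin_two]⟩

theorem wi_eq : (wi : SL2) = up 1 * lo (-1) * up 1 := by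
  refine Subtype.ext ?_
  show _ = (!![1, 1; 0, 1] : Matrix (Fin 2) (Fin 2) F) * !![1, 0; -1, 1] * !![1, 1; 0, 1]
  simp [Matrix.mul_fin_two, wi]

theorem wi_mul_wi : (wi : SL2) * wi = dg (-1) := by
  refine Subtype.ext ?_
  show (!![0, 1; -1, 0] : Matrix (Fin 2) (Fin 2) F) * !![0, 1; -1, 0] = _
  simp [Matrix.mul_fin_two, dg]

theorem tq_wi : tq (wi : SL2) = wi := by
  refine Subtype.ext ?_
  rw [tq_apply]
  simp [wi]

theorem tq_eq_conj (g : SL2) : tq g = wi * g * wi⁻¹ := by
  have hu : ∀ t : F, (wi : SL2) * up t = lo (-t) * wi := fun t => by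
    refine Subtype.ext ?_
    show (!![0, 1; -1, 0] : Matrix (Fin 2) (Fin 2) F) * !![1, t; 0, 1]
      = !![1, 0; -t, 1] * !![0, 1; -1, 0]
    simp [Matrix.mul_fin_two]
  have hl : ∀ t : F, (wi : SL2) * lo t = up (-t) * wi := fun t => by
    refine Subtype.ext ?_
    show (!![0, 1; -1, 0] : Matrix (Fin 2) (Fin 2) F) * !![1, 0; t, 1]
      = !![1, -t; 0, 1] * !![0, 1; -1, 0]
    simp [Matrix.mul_fin_two]
  have e : (tq : SL2 →* SL2) = (MulAut.conj (wi : SL2)).toMonoidHom := hom_ext_ul
    (fun t => by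
      show _ = wi * up t * wi⁻¹
      rw [tq_up, hu, mul_inv_cancel_right])
    (fun t => by
      show _ = wi * lo t * wi⁻¹
      rw [tq_lo, hl, mul_inv_cancel_right])
  exact DFunLike.congr_fun e g

theorem dflip_up (t : F) : dflip (up t) = up (-t) := by rw [← tq_sw, sw_up, tq_lo]

theorem dflip_lo (t : F) : dflip (lo t) = lo (-t) := by
  rw [← sw_up, ← tq_sw, sw_sw, tq_up]

theorem dflip_dg (a : Fˣ) : dflip (dg a) = dg a := by rw [← tq_sw, sw_dg, tq_dg, inv_inv]

theorem dflip_dflip (g : SL2) : dflip (dflip g) = g := by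
  have e : (dflip.comp dflip : SL2 →* SL2) = MonoidHom.id _ := hom_ext_ul
    (fun t => by simp [dflip_up]) (fun t => by simp [dflip_lo])
  exact DFunLike.congr_fun e g

theorem blk_neg_one_conj {a b c : Fin n} (hab : a ≠ b) (hac : a ≠ c) (hbc : b ≠ c) (y : SL2) :
    blk b c (dg (-1)) * blk a b y * (blk b c (dg (-1)))⁻¹ = blk a b (dflip y) := by
  have hD := blk_dg_coe (F := F) hbc (-1)
  have e : (MulAut.conj (blk b c (dg (-1)) : SLn)).toMonoidHom.comp (blk a b)
      = (blk a b).comp dflip := hom_ext_ul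
    (fun t => by
      show _ * _ * _ = blk a b (dflip (up t))
      rw [dflip_up, blk_up hab, blk_up hab]
      exact diag_conj_el hD hab (by simp [hab, hac, hbc]))
    (fun t => by
      show _ * _ * _ = blk a b (dflip (lo t))
      rw [dflip_lo, blk_lo hab, blk_lo hab]
      exact diag_conj_el hD hab.symm (by simp [hab, hac, hbc]))
  exact DFunLike.congr_fun e y

/-- The lift of a transposition. -/
noncomputable def wt2 (a b : Fin n) : SLn := blk a b wi

theorem wt2_mono {a b : Fin n} (h : a ≠ b) : Mono (wt2 a b : SLn) (swap a b) := by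
  have e : (wt2 a b : SLn) = wEl a b 1 := by
    rw [wt2, wi_eq, map_mul, map_mul, blk_up h, blk_lo h, wEl, inv_one]
  rw [e]
  exact Mono.wEl h one_ne_zero

theorem wt2_conj_el {a b : Fin n} (h : a ≠ b) (x y : Fin n) (t : F) :
    ∃ u, (wt2 a b)⁻¹ * el x y t * wt2 a b = (el (swap a b x) (swap a b y) u : SLn) := by
  have hm : Mono ((wt2 a b)⁻¹ : SLn) (swap a b) := by
    have e : ((wt2 a b)⁻¹ : SLn) = wEl a b (-1) := by
      rw [← Cfsg.Agent.H99.CTD.wEl_inv, wt2, wi_eq, map_mul, map_mul, blk_up h, blk_lo h, wEl,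
        inv_one]
    rw [e]
    exact Mono.wEl h (neg_ne_zero.mpr one_ne_zero)
  have hmem : (MulAut.conj ((wt2 a b)⁻¹ : SLn)).toMonoidHom (el x y t)
      ∈ elGroup F (swap a b x) (swap a b y) :=
    hm.conj_el x y ▸ ⟨_, el_mem x y t, rfl⟩
  obtain ⟨u, hu⟩ := hmem
  refine ⟨u, ?_⟩
  rw [hu, MulEquiv.coe_toMonoidHom, MulAut.conj_apply, inv_inv]

theorem emb_blk' (e : Fin 3 ↪ Fin n) {i j : Fin 3} (h : i ≠ j) (y : SL2) :
    Cfsg.Agent.H99.CT.emb e (blk i j y) = blk (e i) (e j) y := by
  have h' := e.injective.ne h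
  have he : ∀ (p q : Fin 3), p ≠ q → ∀ t : F,
      Cfsg.Agent.H99.CT.emb e (el p q t) = el (e p) (e q) t := fun p q hpq t => by
    rw [el_eq hpq, el_eq (e.injective.ne hpq), emb_transvection]
  have hh : (Cfsg.Agent.H99.CT.emb e).comp (blk i j : SL2 →* _) = blk (e i) (e j) := hom_ext_ul
    (fun t => by rw [MonoidHom.comp_apply, blk_up h, blk_up h', he _ _ h])
    (fun t => by rw [MonoidHom.comp_apply, blk_lo h, blk_lo h', he _ _ h.symm])
  exact DFunLike.congr_fun hh y

theorem wt2_three :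
    ((wt2 (0 : Fin 3) 1 : Matrix.SpecialLinearGroup (Fin 3) F) : Matrix (Fin 3) (Fin 3) F)
      = !![0, 1, 0; -1, 0, 0; 0, 0, 1] ∧
    ((wt2 (1 : Fin 3) 2 : Matrix.SpecialLinearGroup (Fin 3) F) : Matrix (Fin 3) (Fin 3) F)
      = !![1, 0, 0; 0, 0, 1; 0, -1, 0] ∧
    ((wt2 (0 : Fin 3) 2 : Matrix.SpecialLinearGroup (Fin 3) F) : Matrix (Fin 3) (Fin 3) F)
      = !![0, 0, 1; 0, 1, 0; -1, 0, 0] := by
  refine ⟨?_, ?_, ?_⟩
  all_goals
    rw [wt2, wi_eq, map_mul, map_mul, blk_up (by decide), blk_lo (by decide),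
      Matrix.SpecialLinearGroup.coe_mul, Matrix.SpecialLinearGroup.coe_mul, el_coe (by decide),
      el_coe (by decide)]
    ext i j
    fin_cases i <;> fin_cases j <;>
      simp [Matrix.mul_apply, Fin.sum_univ_three, Matrix.single_apply, Matrix.one_apply]

/-- The relations between the lifts on three coordinates. -/
theorem wt2_rules {a b c : Fin n} (hab : a ≠ b) (hbc : b ≠ c) (hac : a ≠ c) :
    (wt2 a b)⁻¹ * wt2 b c * wt2 a b = ((wt2 a c)⁻¹ : SLn) ∧
    wt2 b c * wt2 a c * (wt2 b c)⁻¹ = (wt2 a b : SLn) ∧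
    wt2 b c * wt2 a b * (wt2 b c)⁻¹ = ((wt2 a c)⁻¹ : SLn) := by
  let e : Fin 3 ↪ Fin n := ⟨![a, b, c], by
    intro i j
    fin_cases i <;> fin_cases j <;> simp [hab, hbc, hac, hab.symm, hbc.symm, hac.symm]⟩
  obtain ⟨h01, h12, h02⟩ := wt2_three (F := F)
  have r1 : wt2 (1 : Fin 3) 2 * wt2 0 1 * wt2 0 2
      = (wt2 0 1 : Matrix.SpecialLinearGroup (Fin 3) F) * 1 := by
    refine Subtype.ext ?_
    simp only [Matrix.SpecialLinearGroup.coe_mul, Matrix.SpecialLinearGroup.coe_one, h01, h12, h02,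
      Matrix.mul_one]
    ext i j
    fin_cases i <;> fin_cases j <;> simp [Matrix.mul_apply, Fin.sum_univ_three]
  have r2 : wt2 (1 : Fin 3) 2 * wt2 0 2
      = (wt2 0 1 : Matrix.SpecialLinearGroup (Fin 3) F) * wt2 1 2 := by
    refine Subtype.ext ?_
    simp only [Matrix.SpecialLinearGroup.coe_mul, Matrix.SpecialLinearGroup.coe_one, h01, h12, h02,
      Matrix.mul_one]
    ext i j
    fin_cases i <;> fin_cases j <;> simp [Matrix.mul_apply, Fin.sum_univ_three]
  have r3 : wt2 (0 : Fin 3) 2 * (wt2 1 2 * wt2 0 1)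
      = (wt2 1 2 : Matrix.SpecialLinearGroup (Fin 3) F) * 1 := by
    refine Subtype.ext ?_
    simp only [Matrix.SpecialLinearGroup.coe_mul, Matrix.SpecialLinearGroup.coe_one, h01, h12, h02,
      Matrix.mul_one]
    ext i j
    fin_cases i <;> fin_cases j <;> simp [Matrix.mul_apply, Fin.sum_univ_three]
  have H := fun (x y : Matrix.SpecialLinearGroup (Fin 3) F) (h : x = y) =>
    congrArg (Cfsg.Agent.H99.CT.emb e) h
  have R1 := H _ _ r1
  have R2 := H _ _ r2
  have R3 := H _ _ r3
  simp only [map_mul, map_one, mul_one, wt2, emb_blk' e (show (0 : Fin 3) ≠ 1 by decide),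
    emb_blk' e (show (1 : Fin 3) ≠ 2 by decide), emb_blk' e (show (0 : Fin 3) ≠ 2 by decide)]
    at R1 R2 R3
  change wt2 b c * wt2 a b * wt2 a c = (wt2 a b : SLn) at R1
  change wt2 b c * wt2 a c = (wt2 a b * wt2 b c : SLn) at R2
  change wt2 a c * (wt2 b c * wt2 a b) = (wt2 b c : SLn) at R3
  refine ⟨?_, ?_, ?_⟩
  · -- `r⁻¹ = u⁻¹ v u`
    refine eq_inv_of_mul_eq_one_left ?_
    calc (wt2 a b)⁻¹ * wt2 b c * wt2 a b * wt2 a c
        = (wt2 a b)⁻¹ * (wt2 b c * wt2 a b * wt2 a c) := by simp only [mul_assoc]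
      _ = 1 := by rw [R1, inv_mul_cancel]
  · rw [R2, mul_inv_cancel_right]
  · refine eq_inv_of_mul_eq_one_right ?_
    calc wt2 a c * (wt2 b c * wt2 a b * (wt2 b c)⁻¹)
        = wt2 a c * (wt2 b c * wt2 a b) * (wt2 b c)⁻¹ := by simp only [mul_assoc]
      _ = 1 := by rw [R3, mul_inv_cancel]

end Cfsg.Agent.H68.ShortPlus
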