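import Cfsg.Agent.H99.CTDBruhat
import Cfsg.Agent.H99.CTDRecog

/-!
Cells with middle factor in a prescribed group of monomial elements.
-/

set_option autoImplicit false
set_option linter.unusedSimpArgs false

namespace Cfsg.Agent.H68.ShortPlus

open Matrix Equiv Cfsg.Agent.H99.CTD


variable {F : Type*} [Field F] {n : ℕ} {H : Type*} [Group H] (D : Glue F n H)
  {N : Subgroup (H × Perm (Fin n ⊕ Fin n))}

/-- The union of the cells with middle factor in `N`. -/
def cellsIn (N : Subgroup (H × Perm (Fin n ⊕ Fin n))) : Set H :=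
  {g | ∃ u ∈ D.U 1, ∃ x ∈ N, ∃ u' ∈ D.U 1, g = u * x.1 * u'}

/-- Elements keeping these cells by right multiplication. -/
noncomputable def keepIn (N : Subgroup (H × Perm (Fin n ⊕ Fin n))) : Subgroup H where
  carrier := {h | ∀ g ∈ cellsIn D N, g * h ∈ cellsIn D N ∧ g * h⁻¹ ∈ cellsIn D N}
  one_mem' g hg := by simpa using hg
  mul_mem' {a b} ha hb g hg := by
    refine ⟨?_, ?_⟩
    · rw [← mul_assoc]; exact (hb _ (ha g hg).1).1
    · rw [_root_.mul_inv_rev, ← mul_assoc]; exact (ha _ (hb g hg).2).2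
  inv_mem' {a} ha g hg := ⟨(ha g hg).2, by rw [inv_inv]; exact (ha g hg).1⟩

theorem U_le_keepIn : D.U 1 ≤ keepIn D N := by
  rintro h hh g ⟨u, hu, x, hx, u', hu', rfl⟩
  exact ⟨⟨u, hu, x, hx, u' * h, mul_mem hu' hh, by rw [mul_assoc]⟩,
    ⟨u, hu, x, hx, u' * h⁻¹, mul_mem hu' (inv_mem hh), by rw [mul_assoc]⟩⟩

theorem wEl_keepIn (hN : N ≤ D.Acts)
    (hW : ∀ i j : Fin n, j.val = i.val + 1 → ∀ v : F, v ≠ 0 → (D.A (wEl i j v), pm (swap i j)) ∈ N)
    {i j : Fin n} (hij : j.val = i.val + 1) {v : F} (hv : v ≠ 0) :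
    D.A (wEl i j v) ∈ keepIn D N := by
  have hne : i ≠ j := fun e => by simp [e] at hij
  suffices key : ∀ v : F, v ≠ 0 → ∀ g ∈ cellsIn D N, g * D.A (wEl i j v) ∈ cellsIn D N from
    fun g hg => ⟨key v hv g hg, by rw [← map_inv, wEl_inv]; exact key _ (neg_ne_zero.mpr hv) g hg⟩
  intro v hv g hg
  obtain ⟨u, hu, x, hxN, u', hu', rfl⟩ := hg
  have hx := hN hxN
  obtain ⟨p, hp, t, htq⟩ := D.decomp hij (u := u'⁻¹) (inv_mem hu')
  have hq : D.A (el i j (-t)) * p⁻¹ = u' := by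
    rw [← el_neg, map_inv, ← _root_.mul_inv_rev, ← htq, inv_inv]
  set w := D.A (wEl i j v) with hw
  have hp' : w⁻¹ * p⁻¹ * w ∈ D.U 1 := by
    have := D.w_conj_U' hij (neg_ne_zero.mpr hv) (inv_mem hp)
    rwa [← wEl_inv, map_inv, inv_inv] at this
  have hmw : (w, pm (swap i j)) ∈ N := hW i j hij v hv
  have hY : ∀ s, D.A (el i j s) ∈ D.Y (.inl i) (.inr j) := fun s => ⟨_, el_mem i j s, rfl⟩
  have hv1 : Glue.ix (Sum.inl i : Fin n ⊕ Fin n) ≠ Glue.ix (Sum.inr j) := hne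
  have push : ∀ (y : H × Perm (Fin n ⊕ Fin n)), y ∈ D.Acts → Pos (y.2 (.inl i)) (y.2 (.inr j)) →
      ∀ s, y.1 * D.A (el i j s) * y.1⁻¹ ∈ D.U 1 := by
    intro y hy hpos s
    refine D.Y_le_U hpos.1 (by have := hpos.2; omega) ?_
    rw [← hy.2 _ _ hv1]
    exact ⟨_, hY s, rfl⟩
  rw [← hq]
  by_cases hcase : Pos (x.2 (.inl i)) (x.2 (.inr j))
  · refine ⟨u * (x.1 * D.A (el i j (-t)) * x.1⁻¹), mul_mem hu (push x hx hcase _), x * (w, pm (swap i j)),
      mul_mem hxN hmw, w⁻¹ * p⁻¹ * w, hp', ?_⟩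
    show _ = _ * (x.1 * w) * _
    group
  by_cases ht : t = 0
  · subst ht
    refine ⟨u, hu, x * (w, pm (swap i j)), mul_mem hxN hmw, w⁻¹ * p⁻¹ * w, hp', ?_⟩
    show _ = _ * (x.1 * w) * _
    rw [neg_zero, el_zero, map_one]
    group
  obtain ⟨s, hs⟩ : ∃ s, el j i s = (wEl i j v)⁻¹ * el i j (-t) * wEl i j v := by
    have h := (Mono.wEl hne (neg_ne_zero.mpr hv) : Mono (wEl i j (-v)) (swap i j)).conj_el i j
    rw [swap_apply_left, swap_apply_right] at h
    have hmem : (MulAut.conj (wEl i j (-v))).toMonoidHom (el i j (-t)) ∈ elGroup F j i :=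
      h ▸ ⟨_, el_mem i j (-t), rfl⟩
    obtain ⟨s, hs⟩ := hmem
    refine ⟨s, ?_⟩
    rw [hs, MulEquiv.coe_toMonoidHom, MulAut.conj_apply, ← wEl_inv, inv_inv]
  have hs0 : s ≠ 0 := by
    rintro rfl
    rw [el_zero] at hs
    have : el i j (-t) = (1 : Matrix.SpecialLinearGroup (Fin n) F) := by
      have := congrArg (fun z => wEl i j v * z * (wEl i j v)⁻¹) hs.symm
      simpa [mul_assoc] using this
    have h2 := congrFun (congrFun (congrArg (fun z : Matrix.SpecialLinearGroup (Fin n) F =>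
      (z : Matrix (Fin n) (Fin n) F)) this) i) j
    simp [el_coe hne, Matrix.one_apply_ne hne] at h2
    exact ht h2
  have hsplit : el j i s = el i j s⁻¹ * wEl i j (-s⁻¹) * el i j s⁻¹ := by
    simp only [wEl, inv_neg, inv_inv, neg_neg]
    simp only [← mul_assoc, el_add, add_neg_cancel, el_zero, one_mul]
    rw [mul_assoc, el_add, neg_add_cancel, el_zero, mul_one]
  set y := x * (w, pm (swap i j)) with hy
  have hyN : y ∈ N := mul_mem hxN hmw
  have hyA : y ∈ D.Acts := hN hyN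
  have hpos : Pos (y.2 (.inl i)) (y.2 (.inr j)) := by
    show Pos (x.2 (pm (swap i j) (.inl i))) (x.2 (pm (swap i j) (.inr j)))
    simp only [pm_apply, Sum.map_inl, Sum.map_inr, swap_apply_left, swap_apply_right]
    rw [show (Sum.inl j : Fin n ⊕ Fin n) = (Sum.inr j).swap from rfl,
      show (Sum.inr i : Fin n ⊕ Fin n) = (Sum.inl i).swap from rfl, hx.1, hx.1]
    have hix : Glue.ix (x.2 (.inr j)) ≠ Glue.ix (x.2 (.inl i)) := by
      rw [Ne, ix_eq_iff, ← hx.1]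
      rintro (h | h) <;> have := x.2.injective h <;> simp [hne.symm] at this
    refine pos_swap hix fun h => hcase ⟨h.1.symm, ?_⟩
    have := h.2
    omega
  have hm2 : (D.A (wEl i j (-s⁻¹)), pm (swap i j)) ∈ N :=
    hW i j hij _ (neg_ne_zero.mpr (inv_ne_zero hs0))
  refine ⟨u * (y.1 * D.A (el i j s⁻¹) * y.1⁻¹), mul_mem hu (push y hyA hpos _),
    y * (D.A (wEl i j (-s⁻¹)), pm (swap i j)), mul_mem hyN hm2,
    D.A (el i j s⁻¹) * (w⁻¹ * p⁻¹ * w), mul_mem (D.el_mem_U hij _) hp', ?_⟩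
  have e : w⁻¹ * D.A (el i j (-t)) * w = D.A (el i j s⁻¹) * D.A (wEl i j (-s⁻¹)) * D.A (el i j s⁻¹) := by
    rw [hw, ← map_inv, ← map_mul, ← map_mul, ← map_mul, ← map_mul, ← hs, hsplit]
  calc u * x.1 * (D.A (el i j (-t)) * p⁻¹) * w
      = u * (x.1 * w) * (w⁻¹ * D.A (el i j (-t)) * w) * (w⁻¹ * p⁻¹ * w) := by group
    _ = _ := by
      rw [e]
      show _ = u * (x.1 * w * D.A (el i j s⁻¹) * (x.1 * w)⁻¹) * (x.1 * w * D.A (wEl i j (-s⁻¹))) * _
      group

theorem rangeA_le_keepIn (hN : N ≤ D.Acts)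
    (hW : ∀ i j : Fin n, j.val = i.val + 1 → ∀ v : F, v ≠ 0 → (D.A (wEl i j v), pm (swap i j)) ∈ N) :
    D.A.range ≤ keepIn D N := by
  have key : ∀ i j : Fin n, j.val = i.val + 1 → j.val < n → ∀ t : F,
      el i j t ∈ (keepIn D N).comap D.A ∧ el j i t ∈ (keepIn D N).comap D.A := by
    intro i j hij _ t
    refine ⟨U_le_keepIn D (D.el_mem_U hij t), ?_⟩
    by_cases ht : t = 0
    · rw [ht, el_zero]; exact one_mem _
    have hsplit : el j i t = el i j t⁻¹ * wEl i j (-t⁻¹) * el i j t⁻¹ := by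
      simp only [wEl, inv_neg, inv_inv, neg_neg]
      simp only [← mul_assoc, el_add, add_neg_cancel, el_zero, one_mul]
      rw [mul_assoc, el_add, neg_add_cancel, el_zero, mul_one]
    rw [hsplit]
    exact mul_mem (mul_mem (U_le_keepIn D (D.el_mem_U hij _))
      (wEl_keepIn D hN hW hij (neg_ne_zero.mpr (inv_ne_zero ht)))) (U_le_keepIn D (D.el_mem_U hij _))
  rw [MonoidHom.range_eq_map, Subgroup.map_le_iff_le_comap, top_le_iff]
  refine Cfsg.Agent.Linear.eq_top_of_transvection_mem fun a b hab t => ?_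
  have : el a b t = Matrix.SpecialLinearGroup.transvection hab t := dif_pos hab
  rw [← this]
  exact el_mem_of_adj _ n key a.isLt b.isLt t

/-- Change of the roles of the two groups on pairs. -/
def flipPairs : (H × Perm (Fin n ⊕ Fin n)) →* (H × Perm (Fin n ⊕ Fin n)) :=
  (MonoidHom.id H).prodMap (MulAut.conj D.fl).toMonoidHom

theorem fl_inv : D.fl⁻¹ = D.fl := Equiv.swap_inv _ _

theorem fl_mul_self : D.fl * D.fl = 1 := Equiv.swap_mul_self _ _

theorem flipPairs_apply (x : H × Perm (Fin n ⊕ Fin n)) :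
    flipPairs D x = (x.1, D.fl * x.2 * D.fl) := by
  simp [flipPairs, Prod.map, fl_inv]

theorem flipPairs_flipPairs (x : H × Perm (Fin n ⊕ Fin n)) : flipPairs D (flipPairs D x) = x := by
  rw [flipPairs_apply, flipPairs_apply]
  ext1
  · rfl
  · show D.fl * (D.fl * x.2 * D.fl) * D.fl = x.2
    rw [show D.fl * (D.fl * x.2 * D.fl) * D.fl = (D.fl * D.fl) * x.2 * (D.fl * D.fl) by
      simp only [mul_assoc], fl_mul_self, one_mul, mul_one]

theorem cellsIn_flip : cellsIn D.flip (N.comap (flipPairs D)) = cellsIn D N := by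
  ext g
  constructor
  · rintro ⟨u, hu, x, hx, u', hu', rfl⟩
    exact ⟨u, D.U_flip 1 ▸ hu, flipPairs D x, hx, u', D.U_flip 1 ▸ hu', by rw [flipPairs_apply]⟩
  · rintro ⟨u, hu, x, hx, u', hu', rfl⟩
    refine ⟨u, (D.U_flip 1).symm ▸ hu, flipPairs D x, ?_, u', (D.U_flip 1).symm ▸ hu', ?_⟩
    · rw [Subgroup.mem_comap, flipPairs_flipPairs]; exact hx
    · rw [flipPairs_apply]

theorem mem_cellsIn (hgen : D.A.range ⊔ D.B.range = ⊤) (hN : N ≤ D.Acts)
    (hA : ∀ i j : Fin n, j.val = i.val + 1 → ∀ v : F, v ≠ 0 → (D.A (wEl i j v), pm (swap i j)) ∈ N)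
    (hB : ∀ i j : Fin n, j.val = i.val + 1 → ∀ v : F, v ≠ 0 →
      (D.B (wEl i j v), D.fl * pm (swap i j) * D.fl) ∈ N) (g : H) : g ∈ cellsIn D N := by
  have hB' : D.B.range ≤ keepIn D N := by
    have hN' : N.comap (flipPairs D) ≤ D.flip.Acts := fun x hx => by
      have h := D.acts_flip (hN hx)
      rw [← flipPairs_apply, flipPairs_flipPairs] at h
      exact h
    have hW' : ∀ i j : Fin n, j.val = i.val + 1 → ∀ v : F, v ≠ 0 →
        (D.flip.A (wEl i j v), pm (swap i j)) ∈ N.comap (flipPairs D) := fun i j hij v hv => by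
      rw [Subgroup.mem_comap, flipPairs_apply]
      exact hB i j hij v hv
    intro h hh g hg
    have := rangeA_le_keepIn D.flip hN' hW' hh g ((cellsIn_flip D (N := N)).symm ▸ hg)
    rwa [cellsIn_flip] at this
  have : g ∈ keepIn D N :=
    (hgen ▸ sup_le (rangeA_le_keepIn D hN hA) hB' : (⊤ : Subgroup H) ≤ keepIn D N) trivial
  have h1 : (1 : H) ∈ cellsIn D N := ⟨1, one_mem _, 1, one_mem _, 1, one_mem _, by simp⟩
  simpa using (this 1 h1).1

end Cfsg.Agent.H68.ShortPlus
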