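import Cfsg.Agent.H68.ShortPlus.Rels

/-!
The second `SL(n)` inside the group of the relations, the double exchange as a product of Weyl
elements, and the vanishing of the extra central element.
-/

set_option autoImplicit false
set_option linter.unusedSimpArgs false
set_option linter.unusedSectionVars false

namespace Cfsg.Agent.H68.ShortPlus

open Matrix Equiv Cfsg.Agent.H68.ShortSL
open Cfsg.Agent.H99.CT (exists_hom_of_stRels)
open Cfsg.Agent.H99.CTD (el el_coe el_add el_zero el_self el_neg el_comm el_mul la pe Glue pe_ne_la)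
open Cfsg.Agent.H99.BoundedPres (muA exists_alt_pair q4)

variable {F : Type*} [Field F] {k : ℕ} {G : Type*} [Group G]

local notation "SL2" => Matrix.SpecialLinearGroup (Fin 2) F

/-- Four coordinates at least. -/
theorem hn4 (k : ℕ) : 4 ≤ k + 4 := Nat.le_add_left 4 k

variable {A : Matrix.SpecialLinearGroup (Fin (k + 4)) F →* G} {s : G}
  {P : Matrix.SpecialLinearGroup (Fin 2) F} (R : Rels A s P)

/-- The root elements of the second copy. -/
noncomputable def rootB (A : Matrix.SpecialLinearGroup (Fin (k + 4)) F →* G) (s : G)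
    (a b : Fin (k + 4)) (t : F) : G :=
  S A s (la (hn4 k)) (exists_ne_three a b (la (hn4 k))).choose * A (el a b t) *
    S A s (la (hn4 k)) (exists_ne_three a b (la (hn4 k))).choose

include R in
theorem rootB_eq {a b x : Fin (k + 4)} (hxa : x ≠ a) (hxb : x ≠ b) (hxl : x ≠ la (hn4 k)) (t : F) :
    rootB A s a b t = S A s (la (hn4 k)) x * A (el a b t) * S A s (la (hn4 k)) x := by
  set l := la (hn4 k)
  obtain ⟨hya, hyb, hyl⟩ := (exists_ne_three a b l).choose_spec
  rw [rootB]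
  generalize (exists_ne_three a b l).choose = y at hya hyb hyl ⊢
  by_cases h : x = y
  · rw [h]
  rw [← S_triple R hxl.symm h hyl.symm]
  calc S A s l x * S A s x y * A (el a b t) * (S A s l x * S A s x y)
      = S A s l x * (S A s x y * A (el a b t) * S A s x y) * S A s l x := by
        rw [(S_commute R l x x y).eq]
        conv_lhs => arg 1; arg 1; rw [← (S_commute R l x x y).eq]
        simp only [mul_assoc]
    _ = _ := by rw [S_fix_el R hxa hxb hya hyb]

include R in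
theorem rootB_far {a b : Fin (k + 4)} (ha : a ≠ la (hn4 k)) (hb : b ≠ la (hn4 k)) (t : F) :
    rootB A s a b t = A (el a b t) := by
  obtain ⟨x, hxa, hxb, hxl⟩ := exists_ne_three a b (la (hn4 k))
  rw [rootB_eq R hxa hxb hxl, S_fix_el R ha.symm hb.symm hxa hxb]

theorem conj_self_mul {G : Type*} [Group G] {σ : G} (h : σ * σ = 1) (x y : G) :
    σ * x * σ * (σ * y * σ) = σ * (x * y) * σ := by
  calc σ * x * σ * (σ * y * σ) = σ * x * (σ * σ) * y * σ := by simp only [mul_assoc]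
    _ = _ := by rw [h, mul_one]; simp only [mul_assoc]

include R in
theorem Bk_el {a b x : Fin (k + 4)} (h : a ≠ b) (t : F) :
    Bk A s a b x (up t) = S A s b x * A (el a b t) * S A s b x ∧
      Bk A s a b x (lo t) = S A s b x * A (el b a t) * S A s b x := by
  rw [Bk, Bk, blk_up h, blk_lo h]
  exact ⟨rfl, rfl⟩

include R in
theorem stRels_rootB : Cfsg.Agent.H54.Presentation.StRels (rootB A s) where
  diag i t := by rw [rootB, el_self, map_one, mul_one, S_sq R]
  add i j t u := by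
    obtain ⟨x, hxi, hxj, hxl⟩ := exists_ne_three i j (la (hn4 k))
    rw [rootB_eq R hxi hxj hxl, rootB_eq R hxi hxj hxl, rootB_eq R hxi hxj hxl,
      conj_self_mul (S_sq R _ _), ← map_mul, el_add]
  mul i j l t u hij hjl hil := by
    by_cases hm : i ≠ la (hn4 k) ∧ j ≠ la (hn4 k) ∧ l ≠ la (hn4 k)
    · obtain ⟨hi, hj, hl⟩ := hm
      rw [rootB_far R hi hj, rootB_far R hj hl, rootB_far R hi hl, ← map_mul, ← map_mul, ← map_mul,
        el_mul hij hjl hil]
    · obtain ⟨x, hxi, hxj, hxl⟩ := exists_ne_three i j l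
      have hx : x ≠ la (hn4 k) := by
        intro e
        exact hm ⟨e ▸ hxi.symm, e ▸ hxj.symm, e ▸ hxl.symm⟩
      rw [rootB_eq R hxi hxj hx, rootB_eq R hxj hxl hx, rootB_eq R hxi hxl hx,
        conj_self_mul (S_sq R _ _), conj_self_mul (S_sq R _ _), conj_self_mul (S_sq R _ _),
        ← map_mul, ← map_mul, ← map_mul, el_mul hij hjl hil]
  comm i j a b t u hib hja := by
    classical
    set l := la (hn4 k)
    by_cases hij : i = j
    · subst hij
      rw [show rootB A s i i t = 1 by rw [rootB, el_self, map_one, mul_one, S_sq R]]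
      exact Commute.one_left _
    by_cases hab : a = b
    · subst hab
      rw [show rootB A s a a u = 1 by rw [rootB, el_self, map_one, mul_one, S_sq R]]
      exact Commute.one_right _
    by_cases hout : ∃ x, x ≠ i ∧ x ≠ j ∧ x ≠ a ∧ x ≠ b ∧ x ≠ l
    · obtain ⟨x, hxi, hxj, hxa, hxb, hxl⟩ := hout
      show _ = _
      rw [rootB_eq R hxi hxj hxl, rootB_eq R hxa hxb hxl, conj_self_mul (S_sq R _ _),
        conj_self_mul (S_sq R _ _), ← map_mul, ← map_mul, el_comm hib hja]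
    by_cases hfar : i ≠ l ∧ j ≠ l ∧ a ≠ l ∧ b ≠ l
    · obtain ⟨hi, hj, ha, hb⟩ := hfar
      show _ = _
      rw [rootB_far R hi hj, rootB_far R ha hb, ← map_mul, ← map_mul, el_comm hib hja]
    -- four distinct coordinates, one of them the last one
    have h4 : 4 ≤ ({i, j, a, b} : Finset (Fin (k + 4))).card := by
      by_contra h3
      obtain ⟨x, -, hx⟩ := Finset.exists_mem_notMem_of_card_lt_card
        (s := ({i, j, a, b} : Finset (Fin (k + 4)))) (t := Finset.univ)
        (by simp only [Finset.card_univ, Fintype.card_fin]; omega)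
      simp only [Finset.mem_insert, Finset.mem_singleton, not_or] at hx
      refine hout ⟨x, hx.1, hx.2.1, hx.2.2.1, hx.2.2.2, ?_⟩
      rintro rfl
      exact hfar ⟨Ne.symm hx.1, Ne.symm hx.2.1, Ne.symm hx.2.2.1, Ne.symm hx.2.2.2⟩
    have hia : i ≠ a := by
      rintro rfl
      have := h4.trans (Finset.card_le_card (show ({i, j, i, b} : Finset (Fin (k + 4))) ⊆ {i, j, b}
        by intro y; simp; tauto))
      have := this.trans Finset.card_le_three
      omega
    have hjb : j ≠ b := by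
      rintro rfl
      have := h4.trans (Finset.card_le_card (show ({i, j, a, j} : Finset (Fin (k + 4))) ⊆ {i, j, a}
        by intro y; simp; tauto))
      have := this.trans Finset.card_le_three
      omega
    have key : ∀ (p q c d : Fin (k + 4)) (w v : F), p ≠ q → c ≠ d → p ≠ c → p ≠ d → q ≠ c →
        q ≠ d → (c = l ∨ d = l) → Commute (rootB A s p q w) (rootB A s c d v) := by
      intro p q c d w v hpq hcd hpc hpd hqc hqd hl
      rcases hl with hl | hl <;> subst hl
      · obtain ⟨x, hxd, hxl, -⟩ := exists_ne_three d l l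
        rw [rootB_far R hpc hqc, rootB_eq R hxl hxd hxl, ← blk_up hpq, ← blk_lo hcd.symm]
        exact cross R hpq hcd.symm hpd hpc hqd hqc hxd hxl (up w) (lo v)
      · obtain ⟨x, hxc, hxl, -⟩ := exists_ne_three c l l
        rw [rootB_far R hpd hqd, rootB_eq R hxc hxl hxl, ← blk_up hpq, ← blk_up hcd]
        exact cross R hpq hcd hpc hpd hqc hqd hxc hxl (up w) (up v)
    simp only [not_and_or, not_ne_iff] at hfar
    rcases hfar with h | h | h | h
    · exact (key a b i j u t hab hij hia.symm hja.symm hib.symm hjb.symm (Or.inl h)).symm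
    · exact (key a b i j u t hab hij hia.symm hja.symm hib.symm hjb.symm (Or.inr h)).symm
    · exact key i j a b t u hij hab hia hib hja hjb (Or.inl h)
    · exact key i j a b t u hij hab hia hib hja hjb (Or.inr h)

include R in
/-- The second copy, glued to the first. -/
theorem exists_glue [Finite F] : ∃ D : Glue F (k + 4) G, D.A = A ∧
    ∀ (a b : Fin (k + 4)), a ≠ b → ∀ t : F, D.B (el a b t) = rootB A s a b t := by
  obtain ⟨B, hB⟩ := exists_hom_of_stRels (by omega) (stRels_rootB R)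
  have hB' : ∀ (a b : Fin (k + 4)), a ≠ b → ∀ t : F, B (el a b t) = rootB A s a b t :=
    fun a b h t => by rw [el_eq h]; exact hB a b h t
  have hp : pe (hn4 k) ≠ la (hn4 k) := pe_ne_la _
  obtain ⟨x, hxp, hxl, -⟩ := exists_ne_three (pe (hn4 k)) (la (hn4 k)) (la (hn4 k))
  refine ⟨{ hn := hn4 k, A := A, B := B, agree := ?_, comm := ?_ }, rfl, hB'⟩
  · intro a b ha hb t
    by_cases h : a = b
    · subst h; rw [el_self, map_one, map_one]
    · rw [hB' a b h, rootB_far R ha hb]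
  · intro a b c d h1 h2 t u
    obtain ⟨y, hy⟩ : ∃ y : SL2, A (el a b t) = A (blk (pe (hn4 k)) (la (hn4 k)) y) := by
      rcases h1 with ⟨rfl, rfl⟩ | ⟨rfl, rfl⟩
      · exact ⟨up t, by rw [blk_up hp]⟩
      · exact ⟨lo t, by rw [blk_lo hp]⟩
    obtain ⟨z, hz⟩ : ∃ z : SL2, B (el c d u) = Bk A s (pe (hn4 k)) (la (hn4 k)) x z := by
      rcases h2 with ⟨rfl, rfl⟩ | ⟨rfl, rfl⟩
      · exact ⟨up u, by rw [hB' _ _ hp, rootB_eq R hxp hxl hxl, (Bk_el R hp u).1]⟩
      · exact ⟨lo u, by rw [hB' _ _ hp.symm, rootB_eq R hxl hxp hxl, (Bk_el R hp u).2]⟩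
    rw [hy, hz]
    exact mixed_all R hp hxp hxl y z

include R in
theorem glue_blk [Finite F] (D : Glue F (k + 4) G) (hA : D.A = A)
    (hB : ∀ (a b : Fin (k + 4)), a ≠ b → ∀ t : F, D.B (el a b t) = rootB A s a b t)
    {a x : Fin (k + 4)} (ha : a ≠ la (hn4 k)) (hxa : x ≠ a) (hxl : x ≠ la (hn4 k)) (y : SL2) :
    D.B (blk a (la (hn4 k)) y) = Bk A s a (la (hn4 k)) x y := by
  have e : D.B.comp (blk a (la (hn4 k))) = BkHom R a (la (hn4 k)) x := hom_ext_ul
    (fun t => by
      show D.B (blk a _ (up t)) = Bk A s a _ x (up t)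
      rw [blk_up ha, hB _ _ ha, rootB_eq R hxa hxl hxl, (Bk_el R ha t).1])
    (fun t => by
      show D.B (blk a _ (lo t)) = Bk A s a _ x (lo t)
      rw [blk_lo ha, hB _ _ ha.symm, rootB_eq R hxl hxa hxl, (Bk_el R ha t).2])
  exact DFunLike.congr_fun e y

/-- The candidate for the double exchange. -/
noncomputable def W (A : Matrix.SpecialLinearGroup (Fin (k + 4)) F →* G) (s : G)
    (a b x : Fin (k + 4)) : G :=
  (A (wt2 a b))⁻¹ * Bk A s a b x wi

include R in
theorem W_mem [Finite F] (D : Glue F (k + 4) G) (hA : D.A = A)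
    (hB : ∀ (a b : Fin (k + 4)), a ≠ b → ∀ t : F, D.B (el a b t) = rootB A s a b t)
    {a b x : Fin (k + 4)} (hab : a ≠ b) (hxa : x ≠ a) (hxb : x ≠ b) :
    W A s a b x ∈ D.A.range ⊔ D.B.range := by
  have hp : pe (hn4 k) ≠ la (hn4 k) := pe_ne_la _
  obtain ⟨y, hyp, hyl, -⟩ := exists_ne_three (pe (hn4 k)) (la (hn4 k)) (la (hn4 k))
  have hmu : ∀ g, mu A g ∈ D.A.range ⊔ D.B.range := fun g =>
    Subgroup.mem_sup_left (hA ▸ ⟨muA g, rfl⟩)
  refine mul_mem (inv_mem (Subgroup.mem_sup_left (hA ▸ ⟨_, rfl⟩))) ?_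
  obtain ⟨g₁, g10, g11⟩ := exists_alt_pair (k := k) hp
  obtain ⟨g₂, g20, g21⟩ := exists_alt_pair (k := k) hab
  set g := g₂ * g₁⁻¹ with hg
  have e0 : (g : Perm (Fin (k + 4))) (pe (hn4 k)) = a := by
    rw [hg, Subgroup.coe_mul, Perm.mul_apply, Subgroup.coe_inv, ← g10]
    simp [g20]
  have e1 : (g : Perm (Fin (k + 4))) (la (hn4 k)) = b := by
    rw [hg, Subgroup.coe_mul, Perm.mul_apply, Subgroup.coe_inv, ← g11]
    simp [g21]
  have hgy : ∀ z, z ≠ y → (g : Perm (Fin (k + 4))) y ≠ (g : Perm (Fin (k + 4))) z := fun z hz =>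
    (g : Perm _).injective.ne hz.symm
  have := Bk_conj R g hp y (wi : SL2)
  rw [e0, e1, Bk_indep R hab (e0 ▸ hgy _ hyp.symm) (e1 ▸ hgy _ hyl.symm) hxa hxb] at this
  rw [← this, ← glue_blk R D hA hB hp hyp hyl]
  exact mul_mem (mul_mem (hmu g) (Subgroup.mem_sup_right ⟨_, rfl⟩)) (inv_mem (hmu g))

include R in
theorem A_wt2_S {a b : Fin (k + 4)} (hab : a ≠ b) :
    Commute (A (wt2 a b)) (S A s a b) := by
  have h := S_act R hab (wi : SL2)
  rw [tq_wi] at h
  calc A (wt2 a b) * S A s a b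
      = S A s a b * A (blk a b wi) * S A s a b * S A s a b := by rw [h]; rfl
    _ = _ := by rw [mul_assoc _ (S A s a b) (S A s a b), S_sq R, mul_one]; rfl

include R in
theorem W_commute {a b x : Fin (k + 4)} (hab : a ≠ b) (hxa : x ≠ a) (hxb : x ≠ b) :
    Commute (A (wt2 a b)) (Bk A s a b x wi) := mixed_all R hab hxa hxb wi wi

include R in
theorem base_conj {x : Fin (k + 4)} (hx0 : x ≠ q4 k 0) (hx1 : x ≠ q4 k 1) {p q : Fin (k + 4)}
    (hpq : p ≠ q) (t : F) :
    W A s (q4 k 0) (q4 k 1) x * A (el p q t) * (W A s (q4 k 0) (q4 k 1) x)⁻¹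
      = s * A (el p q t) * s := by
  have h01 : q4 k 0 ≠ q4 k 1 := q4_ne (by decide)
  have hW := W_commute R h01 hx0 hx1
  -- the last step: one endpoint in the pair
  have one : ∀ a j c : Fin (k + 4), a ≠ j → c ≠ a → c ≠ j →
      ((a = q4 k 0 ∧ j = q4 k 1) ∨ (a = q4 k 1 ∧ j = q4 k 0)) →
      ((p = a ∧ q = c) ∨ (p = c ∧ q = a)) →
      W A s (q4 k 0) (q4 k 1) x * A (el p q t) * (W A s (q4 k 0) (q4 k 1) x)⁻¹
        = s * A (el p q t) * s := by
    intro a j c haj hca hcj hor hpqc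
    obtain ⟨y, hya, hyj, hyc⟩ := exists_ne_three a j c
    have hy0 : y ≠ q4 k 0 := by rcases hor with ⟨rfl, rfl⟩ | ⟨rfl, rfl⟩ <;> assumption
    have hy1 : y ≠ q4 k 1 := by rcases hor with ⟨rfl, rfl⟩ | ⟨rfl, rfl⟩ <;> assumption
    have eW : Bk A s (q4 k 0) (q4 k 1) x wi
        = S A s a y * A (wt2 (q4 k 0) (q4 k 1)) * S A s a y := by
      rw [Bk_indep R h01 hx0 hx1 hy0 hy1]
      rcases hor with ⟨rfl, rfl⟩ | ⟨rfl, rfl⟩
      · rw [wt2, Bk_left R h01 hy0 hy1, tq_wi]
      · rw [Bk, wt2]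
    have hsj : s = S A s a y * S A s y j := by
      rw [S_triple R hya.symm hyj haj]
      rcases hor with ⟨rfl, rfl⟩ | ⟨rfl, rfl⟩
      · rw [S_base R]
      · rw [S_comm R, S_base R]
    set w : Matrix.SpecialLinearGroup (Fin (k + 4)) F := wt2 (q4 k 0) (q4 k 1) with hw
    obtain ⟨v, hv⟩ := wt2_conj_el (F := F) h01 p q t
    have hsa : swap (q4 k 0) (q4 k 1) a = j := by
      rcases hor with ⟨rfl, rfl⟩ | ⟨rfl, rfl⟩ <;> simp
    have hsc : swap (q4 k 0) (q4 k 1) c = c := by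
      apply swap_apply_of_ne_of_ne <;>
        rcases hor with ⟨rfl, rfl⟩ | ⟨rfl, rfl⟩ <;> assumption
    have hfix : ∀ σ, σ = S A s a y → σ * A (el (swap (q4 k 0) (q4 k 1) p)
        (swap (q4 k 0) (q4 k 1) q) v) * σ = A (el (swap (q4 k 0) (q4 k 1) p)
        (swap (q4 k 0) (q4 k 1) q) v) := by
      rintro σ rfl
      rcases hpqc with ⟨rfl, rfl⟩ | ⟨rfl, rfl⟩ <;> rw [hsa, hsc]
      · exact S_fix_el R haj hca.symm hyj hyc v
      · exact S_fix_el R hca.symm haj hyc hyj v
    have hfix2 : S A s y j * A (el p q t) * S A s y j = A (el p q t) := by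
      rcases hpqc with ⟨rfl, rfl⟩ | ⟨rfl, rfl⟩
      · exact S_fix_el R hya hyc haj.symm hcj.symm t
      · exact S_fix_el R hyc hya hcj.symm haj.symm t
    have hWi : (Bk A s (q4 k 0) (q4 k 1) x wi)⁻¹ = S A s a y * (A w)⁻¹ * S A s a y := by
      rw [eW, _root_.mul_inv_rev, _root_.mul_inv_rev, S_inv R, mul_assoc]
    rw [W, hW.inv_left.eq, _root_.mul_inv_rev, inv_inv]
    calc Bk A s (q4 k 0) (q4 k 1) x wi * (A w)⁻¹ * A (el p q t) *
          (A w * (Bk A s (q4 k 0) (q4 k 1) x wi)⁻¹)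
        = Bk A s (q4 k 0) (q4 k 1) x wi * A (w⁻¹ * el p q t * w) *
            (Bk A s (q4 k 0) (q4 k 1) x wi)⁻¹ := by
          rw [map_mul, map_mul, map_inv]; simp only [mul_assoc]
      _ = S A s a y * A w * (S A s a y * A (w⁻¹ * el p q t * w) * S A s a y) * (A w)⁻¹ *
            S A s a y := by rw [hWi, eW]; simp only [mul_assoc]
      _ = S A s a y * A (el p q t) * S A s a y := by
          rw [hv, hfix _ rfl, ← hv, ← hw, map_mul, map_mul, map_inv]
          group
      _ = S A s a y * (S A s y j * A (el p q t) * S A s y j) * S A s a y := by rw [hfix2]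
      _ = s * A (el p q t) * s := by
          conv_rhs => rw [hsj]
          conv_rhs => arg 2; rw [(S_commute R a y y j).eq]
          simp only [mul_assoc]
  by_cases hp : p = q4 k 0 ∨ p = q4 k 1
  · by_cases hq : q = q4 k 0 ∨ q = q4 k 1
    · -- both in the pair
      obtain ⟨y, hy⟩ : ∃ y : SL2, el p q t = blk (q4 k 0) (q4 k 1) y := by
        rcases hp with rfl | rfl <;> rcases hq with rfl | rfl
        · exact absurd rfl hpq
        · exact ⟨up t, (blk_up h01 t).symm⟩
        · exact ⟨lo t, (blk_lo h01 t).symm⟩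
        · exact absurd rfl hpq
      rw [hy]
      have hs := S_act R h01 y
      rw [S_base R] at hs
      rw [hs, W]
      have hB : Commute (Bk A s (q4 k 0) (q4 k 1) x wi) (A (blk (q4 k 0) (q4 k 1) y)) :=
        (mixed_all R h01 hx0 hx1 y wi).symm
      rw [mul_assoc (A (wt2 (q4 k 0) (q4 k 1)))⁻¹, hB.eq, _root_.mul_inv_rev, inv_inv]
      have e : tq y = (wi : SL2)⁻¹ * y * wi := by
        calc tq y = (wi : SL2)⁻¹ * (wi * tq y * wi⁻¹) * wi := by group
          _ = _ := by rw [← tq_eq_conj, tq_tq]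
      rw [e, map_mul, map_mul, map_mul, map_mul, map_inv, map_inv]
      simp only [mul_assoc, mul_inv_cancel_left, wt2]
    · push Not at hq
      rcases hp with rfl | rfl
      · exact one _ _ q h01 hq.1 hq.2 (Or.inl ⟨rfl, rfl⟩) (Or.inl ⟨rfl, rfl⟩)
      · exact one _ _ q h01.symm hq.2 hq.1 (Or.inr ⟨rfl, rfl⟩) (Or.inl ⟨rfl, rfl⟩)
  · push Not at hp
    by_cases hq : q = q4 k 0 ∨ q = q4 k 1
    · rcases hq with rfl | rfl
      · exact one _ _ p h01 hp.1 hp.2 (Or.inl ⟨rfl, rfl⟩) (Or.inr ⟨rfl, rfl⟩)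
      · exact one _ _ p h01.symm hp.2 hp.1 (Or.inr ⟨rfl, rfl⟩) (Or.inr ⟨rfl, rfl⟩)
    · push Not at hq
      have hs := S_fix_el R hp.1.symm hq.1.symm hp.2.symm hq.2.symm t
      rw [S_base R] at hs
      rw [hs, mul_inv_eq_iff_eq_mul]
      refine Commute.mul_left ?_ ?_
      · exact (((blk_el_comm h01 hp.1.symm hq.1.symm hp.2.symm hq.2.symm wi t).map A).inv_left :)
      · rw [← blk_up hpq]
        exact (cross R hpq h01 hp.1 hp.2 hq.1 hq.2 hx0 hx1 (up t) wi).symm

include R in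
theorem central_aux {x : Fin (k + 4)} (hx0 : x ≠ q4 k 0) (hx1 : x ≠ q4 k 1) (y : G) :
    Commute y ((W A s (q4 k 0) (q4 k 1) x)⁻¹ * s) := by
  have h01 : q4 k 0 ≠ q4 k 1 := q4_ne (by decide)
  set Wb := W A s (q4 k 0) (q4 k 1) x with hWb
  have hA : ∀ g, Commute (A g) (Wb⁻¹ * s) := by
    intro g
    refine Cfsg.Agent.Linear.transvection_induction (P := fun g => Commute (A g) (Wb⁻¹ * s))
      (by rw [map_one]; exact Commute.one_left _) (fun p q hpq t => ?_)
      (fun a b ha hb => by rw [map_mul]; exact ha.mul_left hb) g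
    rw [← el_eq hpq]
    refine (mul_inv_eq_iff_eq_mul.mp ?_ : _ = _).symm
    rw [_root_.mul_inv_rev, inv_inv, inv_eq_of_mul_eq_one_right R.sq]
    calc Wb⁻¹ * s * A (el p q t) * (s * Wb) = Wb⁻¹ * (s * A (el p q t) * s) * Wb := by
          simp only [mul_assoc]
      _ = Wb⁻¹ * (Wb * A (el p q t) * Wb⁻¹) * Wb := by rw [← base_conj R hx0 hx1 hpq]
      _ = A (el p q t) := by group
  have hs : Commute s (Wb⁻¹ * s) := by
    refine (Commute.inv_right ?_).mul_right (Commute.refl s)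
    refine (Commute.inv_right ?_).mul_right ?_
    · have := A_wt2_S R h01
      rw [S_base R] at this
      exact this.symm
    · have h := S_act R h01 (wi : SL2)
      rw [tq_wi, S_base R] at h
      have hc : Commute s (A (blk (q4 k 0) (q4 k 1) wi)) := by
        show _ = _
        calc s * A (blk (q4 k 0) (q4 k 1) wi) = s * A (blk (q4 k 0) (q4 k 1) wi) * (s * s) := by
              rw [R.sq, mul_one]
          _ = _ := by rw [← mul_assoc, h]
      have hc2 : Commute s (S A s (q4 k 1) x) := by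
        have := S_commute R (q4 k 0) (q4 k 1) (q4 k 1) x
        rwa [S_base R] at this
      exact (hc2.mul_right hc).mul_right hc2
  have hy : y ∈ A.range ⊔ Subgroup.zpowers s := by rw [R.gen]; trivial
  have hle : A.range ⊔ Subgroup.zpowers s ≤ Subgroup.centralizer ({Wb⁻¹ * s} : Set G) := by
    rw [sup_le_iff, Subgroup.zpowers_le]
    refine ⟨?_, Subgroup.mem_centralizer_singleton_iff.mpr hs.eq⟩
    rintro _ ⟨g, rfl⟩
    exact Subgroup.mem_centralizer_singleton_iff.mpr (hA g).eq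
  exact Subgroup.mem_centralizer_singleton_iff.mp (hle hy)

theorem wt2_sq_eq (a b : Fin (k + 4)) :
    (wt2 a b * wt2 a b : Matrix.SpecialLinearGroup (Fin (k + 4)) F) = blk a b (dg (-1)) := by
  rw [wt2, ← map_mul, wi_mul_wi]

theorem neg_one_prod {a b c : Fin (k + 4)} (hab : a ≠ b) (hbc : b ≠ c) (hac : a ≠ c) :
    (blk b c (dg (-1)) * blk a b (dg (-1)) : Matrix.SpecialLinearGroup (Fin (k + 4)) F)
      = blk a c (dg (-1)) := by
  refine Subtype.ext ?_
  rw [Matrix.SpecialLinearGroup.coe_mul, blk_dg_coe hbc, blk_dg_coe hab, blk_dg_coe hac,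
    Matrix.diagonal_mul_diagonal]
  congr 1
  funext i
  by_cases ha : i = a
  · subst ha; simp [hab, hac]
  by_cases hb : i = b
  · subst hb; simp [hbc, hab.symm]
  by_cases hc : i = c
  · subst hc; simp [hac.symm, hbc.symm]
  simp [ha, hb, hc]

theorem dg_neg_one_sq : (dg (-1) * dg (-1) : SL2) = 1 := by
  rw [← dg_mul, neg_mul_neg, one_mul, dg_one]

include R in
/-- The double exchanges are products of Weyl elements. -/
theorem S_eq_W {a b x : Fin (k + 4)} (hab : a ≠ b) (hxa : x ≠ a) (hxb : x ≠ b) :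
    S A s a b = W A s a b x ∧ Bk A s a b x (dg (-1)) = A (blk a b (dg (-1))) := by
  have hq : ∀ x y : Fin 4, x ≠ y → q4 k x ≠ q4 k y := fun _ _ => q4_ne
  set a0 := q4 k 0
  set a1 := q4 k 1
  set a2 := q4 k 2
  set a3 := q4 k 3
  have h01 : a0 ≠ a1 := hq 0 1 (by decide)
  have h02 : a0 ≠ a2 := hq 0 2 (by decide)
  have h03 : a0 ≠ a3 := hq 0 3 (by decide)
  have h12 : a1 ≠ a2 := hq 1 2 (by decide)
  have h13 : a1 ≠ a3 := hq 1 3 (by decide)
  have h23 : a2 ≠ a3 := hq 2 3 (by decide)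
  set κ := (W A s a0 a1 a2)⁻¹ * s with hκ
  have hz : ∀ y, Commute y κ := central_aux R h02.symm h12.symm
  have hS : ∀ (p q y : Fin (k + 4)), p ≠ q → y ≠ p → y ≠ q →
      S A s p q = W A s p q y * κ := by
    intro p q y hpq hyp hyq
    obtain ⟨g, rfl, rfl⟩ := exists_alt_pair hpq
    have hg : ∀ i : Fin 4, i ≠ 2 → (g : Perm _) a2 ≠ (g : Perm _) (q4 k i) := fun i hi =>
      (g : Perm _).injective.ne (hq 2 i (Ne.symm hi))
    have eB := Bk_conj R g h01 a2 (wi : SL2)
    rw [Bk_indep R hpq (hg 0 (by decide)) (hg 1 (by decide)) hyp hyq] at eB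
    have ew : mu A g * A (wt2 a0 a1) * (mu A g)⁻¹
        = A (wt2 ((g : Perm _) a0) ((g : Perm _) a1)) := by
      rw [wt2, wt2, ← muA_blk' g h01, map_mul, map_mul, map_inv]; rfl
    rw [S_eq R g, W, ← eB, ← ew]
    calc mu A g * s * (mu A g)⁻¹ = mu A g * (W A s a0 a1 a2 * κ) * (mu A g)⁻¹ := by
          rw [hκ, mul_inv_cancel_left]
      _ = mu A g * W A s a0 a1 a2 * (mu A g)⁻¹ * κ := by
          rw [← mul_assoc, mul_assoc (mu A g * W A s a0 a1 a2), ← (hz (mu A g)⁻¹).eq,
            ← mul_assoc]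
      _ = _ := by
          congr 1
          rw [W]
          group
  set u := A (wt2 a0 a1) with hu
  set v := A (wt2 a1 a2) with hv
  set r := A (wt2 a0 a2) with hr
  set u' := Bk A s a0 a1 a2 wi with hu'
  set v' := Bk A s a1 a2 a3 wi with hv'
  set r' := Bk A s a0 a2 a1 wi with hr'
  obtain ⟨k1, k2, k3⟩ := wt2_rules (F := F) h01 h12 h02
  have K1 : u⁻¹ * v * u = r⁻¹ := by
    rw [hu, hv, hr, ← map_inv, ← map_mul, ← map_mul, k1, map_inv]
  have K2 : v * r * v⁻¹ = u := by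
    rw [hu, hv, hr, ← map_inv, ← map_mul, ← map_mul, k2]
  have K3 : v * u * v⁻¹ = r⁻¹ := by
    rw [hu, hv, hr, ← map_inv, ← map_mul, ← map_mul, k3, map_inv]
  set σ := S A s a2 a3 with hσ
  have hσσ : σ * σ = 1 := S_sq R _ _
  have eu : σ * u * σ = u := by
    rw [hu, wt2, (S_far R h23 h02.symm h12.symm h03.symm h13.symm h01 wi).eq, mul_assoc, hσσ,
      mul_one]
  have ev : σ * v * σ = v' := by rw [hv', Bk, hv, wt2]
  have er : σ * r * σ = r' := by
    rw [hr', Bk_indep R h02 h01.symm h12 h03.symm h23.symm, Bk, hr, wt2]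
  have hinv : σ⁻¹ = σ := inv_eq_of_mul_eq_one_right hσσ
  have L1 : u⁻¹ * v' * u = r'⁻¹ := by
    have h := congrArg (MulAut.conj σ) K1
    simp only [map_mul, map_inv, MulAut.conj_apply, hinv, eu, ev, er] at h
    exact h
  have L3 : v' * u * v'⁻¹ = r'⁻¹ := by
    have h := congrArg (MulAut.conj σ) K3
    simp only [map_mul, map_inv, MulAut.conj_apply, hinv, eu, ev, er] at h
    exact h
  have L2 : v * r' * v⁻¹ = u' := by
    have hc : Commute v (S A s a2 a1) := by
      rw [hv, S_comm R]; exact A_wt2_S R h12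
    rw [hr', Bk, show A (blk a0 a2 wi) = r from rfl,
      show v * (S A s a2 a1 * r * S A s a2 a1) * v⁻¹
        = (v * S A s a2 a1) * r * (S A s a2 a1 * v⁻¹) by simp only [mul_assoc],
      hc.eq, ← hc.inv_left.eq,
      show S A s a2 a1 * v * r * (v⁻¹ * S A s a2 a1)
        = S A s a2 a1 * (v * r * v⁻¹) * S A s a2 a1 by simp only [mul_assoc],
      K2, hu', Bk, S_comm R a1 a2]
    rfl
  have hvv : Commute v v' := by
    rw [hv', hv]; exact W_commute R h12 h13.symm h23.symm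
  have hrr : Commute r r' := by rw [hr', hr]; exact W_commute R h02 h01.symm h12
  have huu : Commute u u' := by rw [hu', hu]; exact W_commute R h01 h02.symm h12.symm
  have hWW : W A s a0 a1 a2 * W A s a1 a2 a3 = r⁻¹ * r'⁻¹ * (u⁻¹ * u⁻¹) * (v⁻¹ * v⁻¹) := by
    show u⁻¹ * u' * (v⁻¹ * v') = _
    have L3' : r' * v' = v' * u⁻¹ := by
      rw [← inv_inv r', ← L3]
      group
    have hvc : v⁻¹ * v⁻¹ * v' = v' * (v⁻¹ * v⁻¹) :=
      ((hvv.inv_left).mul_left hvv.inv_left).eq
    calc u⁻¹ * u' * (v⁻¹ * v') = u⁻¹ * v * r' * (v⁻¹ * v⁻¹ * v') := by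
          rw [← L2]; simp only [mul_assoc]
      _ = u⁻¹ * v * (r' * v') * (v⁻¹ * v⁻¹) := by rw [hvc]; simp only [mul_assoc]
      _ = (u⁻¹ * v * u) * (u⁻¹ * v' * u) * (u⁻¹ * u⁻¹) * (v⁻¹ * v⁻¹) := by rw [L3']; group
      _ = _ := by rw [K1, L1]
  have hκ1 : κ = (r * r) * (r' * r') := by
    have h := S_triple R (A := A) (s := s) h01 h12 h02
    rw [hS a0 a1 a2 h01 h02.symm h12.symm, hS a1 a2 a3 h12 h13.symm h23.symm,
      hS a0 a2 a1 h02 h01.symm h12] at h
    have h' : W A s a0 a1 a2 * W A s a1 a2 a3 * κ = W A s a0 a2 a1 := by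
      apply mul_right_cancel (b := κ)
      rw [← h]
      calc W A s a0 a1 a2 * W A s a1 a2 a3 * κ * κ
          = W A s a0 a1 a2 * (W A s a1 a2 a3 * κ) * κ := by simp only [mul_assoc]
        _ = W A s a0 a1 a2 * (κ * W A s a1 a2 a3) * κ := by rw [(hz (W A s a1 a2 a3)).eq]
        _ = _ := by simp only [mul_assoc]
    have e2 : v * v * (u * u) = r * r := by
      simp only [hu, hv, hr, ← map_mul, wt2_sq_eq, neg_one_prod h01 h12 h02]
    have h'' : κ = (W A s a0 a1 a2 * W A s a1 a2 a3)⁻¹ * W A s a0 a2 a1 :=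
      eq_inv_mul_of_mul_eq h'
    rw [h'', hWW, show W A s a0 a2 a1 = r⁻¹ * r' from rfl,
      show (r⁻¹ * r'⁻¹ * (u⁻¹ * u⁻¹) * (v⁻¹ * v⁻¹))⁻¹ * (r⁻¹ * r')
        = v * v * (u * u) * (r' * r * (r⁻¹ * r')) by
        simp only [_root_.mul_inv_rev, inv_inv, mul_assoc], e2, mul_assoc r' r,
      mul_inv_cancel_left]
  have hr4 : r * r * (r * r) = 1 := by
    simp only [hr, ← map_mul, wt2_sq_eq, dg_neg_one_sq, map_one]
  have hu4 : u⁻¹ * u⁻¹ = u * u := by
    refine ((eq_inv_of_mul_eq_one_left (a := u * u) (b := u * u) ?_).trans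
      (_root_.mul_inv_rev u u)).symm
    simp only [hu, ← map_mul, wt2_sq_eq, dg_neg_one_sq, map_one]
  have hr4' : r' * r' * (r' * r') = 1 := by
    let B0 := BkHom R a0 a2 a1
    show B0 wi * B0 wi * (B0 wi * B0 wi) = 1
    rw [← map_mul B0, ← map_mul B0, wi_mul_wi, dg_neg_one_sq, map_one B0]
  have hκκ : κ * κ = 1 := by
    have hc : Commute (r' * r') (r * r) :=
      ((hrr.symm.mul_right hrr.symm).mul_left (hrr.symm.mul_right hrr.symm))
    rw [hκ1, show r * r * (r' * r') * (r * r * (r' * r')) = r * r * (r' * r' * (r * r)) * (r' * r')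
        by simp only [mul_assoc], hc.eq, ← mul_assoc (r * r), hr4, one_mul, hr4']
  have hz01 : u * u * (u' * u') = 1 := by
    have hsW : s = u⁻¹ * u' * κ := by
      show s = W A s a0 a1 a2 * κ
      rw [hκ, mul_inv_cancel_left]
    have h := R.sq
    rw [hsW] at h
    rw [← h]
    calc u * u * (u' * u') = u⁻¹ * u⁻¹ * (u' * u') * 1 := by rw [hu4, mul_one]
      _ = u⁻¹ * (u⁻¹ * u') * u' * (κ * κ) := by rw [hκκ]; simp only [mul_assoc]
      _ = u⁻¹ * (u' * u⁻¹) * u' * (κ * κ) := by rw [huu.inv_left.eq]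
      _ = u⁻¹ * u' * (u⁻¹ * u' * κ) * κ := by simp only [mul_assoc]
      _ = u⁻¹ * u' * (κ * (u⁻¹ * u')) * κ := by rw [(hz (u⁻¹ * u')).eq]
      _ = _ := by simp only [mul_assoc]
  have hzall : ∀ (p q y : Fin (k + 4)), p ≠ q → y ≠ p → y ≠ q →
      A (blk p q (dg (-1))) * Bk A s p q y (dg (-1)) = 1 := by
    intro p q y hpq hyp hyq
    obtain ⟨g, rfl, rfl⟩ := exists_alt_pair hpq
    have hg : ∀ i : Fin 4, i ≠ 2 → (g : Perm _) a2 ≠ (g : Perm _) (q4 k i) := fun i hi =>
      (g : Perm _).injective.ne (hq 2 i (Ne.symm hi))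
    have eB := Bk_conj R g h01 a2 (dg (-1) : SL2)
    rw [Bk_indep R hpq (hg 0 (by decide)) (hg 1 (by decide)) hyp hyq] at eB
    have ew : mu A g * A (blk a0 a1 (dg (-1))) * (mu A g)⁻¹
        = A (blk ((g : Perm _) a0) ((g : Perm _) a1) (dg (-1))) := by
      rw [← muA_blk' g h01, map_mul, map_mul, map_inv]; rfl
    rw [← eB, ← ew, conj_mul]
    have e0 : A (blk a0 a1 (dg (-1))) * Bk A s a0 a1 a2 (dg (-1)) = 1 := by
      rw [← hz01]
      let B0 := BkHom R a0 a1 a2
      show _ * B0 (dg (-1)) = u * u * (B0 wi * B0 wi)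
      rw [← map_mul B0, wi_mul_wi, hu, ← map_mul, wt2_sq_eq]
    rw [e0, mul_one, mul_inv_cancel]
  have hneg : ∀ (p q : Fin (k + 4)),
      A (blk p q (dg (-1))) * A (blk p q (dg (-1))) = (1 : G) := fun p q => by
    rw [← map_mul, ← map_mul, dg_neg_one_sq, map_one, map_one]
  have hκone : κ = 1 := by
    rw [hκ1]
    let B0 := BkHom R a0 a2 a1
    show r * r * (B0 wi * B0 wi) = 1
    rw [← map_mul B0, wi_mul_wi, hr, ← map_mul, wt2_sq_eq]
    exact hzall a0 a2 a1 h02 h01.symm h12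
  refine ⟨by rw [hS a b x hab hxa hxb, hκone, mul_one], ?_⟩
  exact (mul_left_cancel (a := A (blk a b (dg (-1))))
    ((hzall a b x hab hxa hxb).trans (hneg a b).symm))

include R in
theorem range_top [Finite F] (D : Glue F (k + 4) G) (hA : D.A = A)
    (hB : ∀ (a b : Fin (k + 4)), a ≠ b → ∀ t : F, D.B (el a b t) = rootB A s a b t) :
    D.A.range ⊔ D.B.range = ⊤ := by
  rw [eq_top_iff, ← R.gen, sup_le_iff, Subgroup.zpowers_le]
  refine ⟨hA ▸ le_sup_left, ?_⟩
  have h02 : q4 k 2 ≠ q4 k 0 := q4_ne (by decide)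
  have h12 : q4 k 2 ≠ q4 k 1 := q4_ne (by decide)
  have := W_mem R D hA hB (q4_ne (show (0 : Fin 4) ≠ 1 by decide)) h02 h12
  rwa [← (S_eq_W R (q4_ne (show (0 : Fin 4) ≠ 1 by decide)) h02 h12).1, S_base R] at this

include R in
theorem wt2_S {a b x : Fin (k + 4)} (hab : a ≠ b) (hxa : x ≠ a) (hxb : x ≠ b) :
    A (wt2 a b) * S A s b x * (A (wt2 a b))⁻¹ = S A s a x ∧
    A (wt2 a b) * S A s a x * (A (wt2 a b))⁻¹ = S A s b x := by
  have hW := (S_eq_W R hab hxa hxb).1
  have hc := W_commute R hab hxa hxb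
  have e : Bk A s a b x wi * (A (wt2 a b))⁻¹ = S A s a b := by
    rw [hW, W, hc.inv_left.eq]
  constructor
  · calc A (wt2 a b) * S A s b x * (A (wt2 a b))⁻¹
        = S A s b x * (Bk A s a b x wi * (A (wt2 a b))⁻¹) := by
          rw [Bk]
          simp only [← mul_assoc, S_sq R, one_mul]
          rfl
      _ = S A s b x * S A s a b := by rw [e]
      _ = _ := by rw [(S_commute R b x a b).eq, S_triple R hab hxb.symm hxa.symm]
  · calc A (wt2 a b) * S A s a x * (A (wt2 a b))⁻¹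
        = S A s a x * (Bk A s a b x wi * (A (wt2 a b))⁻¹) := by
          have h := Bk_left R hab hxa hxb (wi : SL2)
          rw [tq_wi] at h
          rw [← h]
          simp only [← mul_assoc, S_sq R, one_mul]
          rfl
      _ = S A s a x * S A s a b := by rw [e]
      _ = _ := by
          rw [(S_commute R a x a b).eq, S_comm R a b, S_triple R hab.symm hxa.symm hxb.symm]

end Cfsg.Agent.H68.ShortPlus
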