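import Cfsg.Agent.H68.ShortPlus.Blocks
import Cfsg.Agent.H99.CTDRecog

/-!
Monomial matrices in the hyperbolic isometry group.
-/

set_option autoImplicit false
set_option linter.unusedSimpArgs false

namespace Cfsg.Agent.H68.ShortPlus

open Matrix Equiv Cfsg.Agent.H99.CTD Cfsg.Agent.H57.Hyp
open Cfsg.Agent.H99.BoundedPres (muA)

variable {F : Type*} [Field F] {n : ℕ}

theorem muA_coe (g : alternatingGroup (Fin n)) :
    ((muA g : Matrix.SpecialLinearGroup (Fin n) F) : Matrix (Fin n) (Fin n) F)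
      = ((g : Perm (Fin n))⁻¹).permMatrix F := rfl

theorem mt_modA_muA (g : alternatingGroup (Fin n)) :
    H57.Hyp.mt (modA (muA g) : Op n F)
      = fromBlocks (((g : Perm (Fin n))⁻¹).permMatrix F) 0 0
          (((g : Perm (Fin n))⁻¹).permMatrix F) := by
  show H57.Hyp.mt (levi _) = _
  rw [mt_levi, ← map_inv, ← map_inv]
  show fromBlocks _ 0 0 (((muA g⁻¹ : Matrix.SpecialLinearGroup (Fin n) F) : Matrix (Fin n) (Fin n) F))ᵀ = _
  rw [muA_coe, Matrix.transpose_permMatrix, Subgroup.coe_inv, inv_inv]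
  rfl

theorem swapT_muA (g : alternatingGroup (Fin n)) (T : Finset (Fin n)) :
    modA (muA g) * (swapT T : Op n F) * (modA (muA g))⁻¹
      = swapT (T.image (g : Perm (Fin n))) := by
  rw [mul_inv_eq_iff_eq_mul]
  refine op_ext ?_
  rw [H57.Hyp.mt_mul, H57.Hyp.mt_mul, mt_modA_muA, mt_swapT, mt_swapT, fromBlocks_multiply,
    fromBlocks_multiply]
  have h : ((g : Perm (Fin n))⁻¹).permMatrix F * (ind T : Matrix _ _ F)
      = ind (T.image (g : Perm (Fin n))) * ((g : Perm (Fin n))⁻¹).permMatrix F := by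
    rw [ind, ind, permGL_conj]
    congr 2
    funext i
    have : (g : Perm (Fin n))⁻¹ i ∈ T ↔ i ∈ T.image (g : Perm (Fin n)) := by
      rw [Finset.mem_image]
      constructor
      · exact fun h => ⟨_, h, (g : Perm (Fin n)).apply_symm_apply i⟩
      · rintro ⟨j, hj, rfl⟩
        simpa using hj
    simp only [Function.comp_apply, this]
  simp [mul_sub, sub_mul, h]

theorem swapT_pair {a b : Fin n} (h : a ≠ b) :
    (swapT ({a, b} : Finset (Fin n)) : Op n F) = swapT {a} * swapT {b} :=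
  swapT_insert (by simpa using h)

theorem swapT_comm_single (a b : Fin n) :
    Commute (swapT {a} : Op n F) (swapT {b}) := by
  by_cases h : a = b
  · subst h; exact Commute.refl _
  show _ = _
  rw [← swapT_pair h, ← swapT_pair (Ne.symm h), Finset.pair_comm]

theorem mt_pair_conj {a b : Fin n} (h : a ≠ b) {g : Op n F} {x y : Fin n ⊕ Fin n} {t : F}
    (hg : H57.Hyp.mt g = Rm x y t) :
    H57.Hyp.mt (swapT ({a, b} : Finset (Fin n)) * g * (swapT ({a, b} : Finset (Fin n)))⁻¹)
      = Rm (flipAt a (flipAt b x)) (flipAt a (flipAt b y)) t := by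
  rw [swapT_pair h, _root_.mul_inv_rev,
    show swapT {a} * swapT {b} * g * ((swapT {b})⁻¹ * (swapT {a})⁻¹)
      = swapT {a} * (swapT {b} * g * (swapT {b} : Op n F)⁻¹) * (swapT {a})⁻¹ by group,
    mt_swap_conj, mt_swap_conj, hg, Rm_submatrix, Rm_submatrix]

/-- Monomial matrices of a permutation. -/
def MonoM {α : Type*} (M : Matrix α α F) (σ : Perm α) : Prop := ∀ a b, a ≠ σ b → M a b = 0

theorem MonoM.mul {α : Type*} [Fintype α] {M N : Matrix α α F} {σ τ : Perm α}
    (hM : MonoM M σ) (hN : MonoM N τ) : MonoM (M * N) (σ * τ) := fun a b hab => by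
  rw [Matrix.mul_apply]
  refine Finset.sum_eq_zero fun c _ => ?_
  by_cases hc : c = τ b
  · rw [hM a c (by rw [hc]; exact hab), zero_mul]
  · rw [hN c b hc, mul_zero]

theorem monoM_one {α : Type*} [DecidableEq α] : MonoM (1 : Matrix α α F) 1 := fun a b h =>
  Matrix.one_apply_ne (by simpa using h)

theorem monoM_modA {g : Matrix.SpecialLinearGroup (Fin n) F} {π : Perm (Fin n)} (hg : Mono g π) :
    MonoM (H57.Hyp.mt (modA g)) (pm π) := by
  intro a b hab
  show H57.Hyp.mt (levi _) a b = 0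
  rw [mt_levi, ← map_inv]
  rcases a with a | a <;> rcases b with b | b <;> simp only [pm_apply, Sum.map_inl, Sum.map_inr,
    ne_eq, Sum.inl.injEq, Sum.inr.injEq] at hab
  · exact hg a b hab
  · rfl
  · rfl
  · exact mono_tau hg a b hab

theorem monoM_swapT (T : Finset (Fin n)) : MonoM (H57.Hyp.mt (swapT T : Op n F)) (fs T) := by
  intro a b hab
  rw [mt_swapT]
  rcases a with a | a <;> rcases b with b | b <;> by_cases hb : b ∈ T <;> by_cases h : a = b <;>
    simp_all [fs_apply, Glue.ix, ind, Matrix.fromBlocks, Matrix.one_apply, Matrix.diagonal]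

/-- A monomial element of the triangular group belongs to the identity permutation. -/
theorem monoM_tri [Finite F] {g : Op n F} {σ : Perm (Fin n ⊕ Fin n)}
    (hg : MonoM (H57.Hyp.mt g) σ) (ht : g ∈ tri (fun x => wt x)) : σ = 1 := by
  have hne : ∀ b, H57.Hyp.mt g (σ b) b ≠ 0 := fun b h0 => by
    have hz : ∀ a, H57.Hyp.mt g a b = 0 := fun a => by
      by_cases h : a = σ b
      · rw [h, h0]
      · exact hg a b h
    have h1 : H57.Hyp.mt g⁻¹ * H57.Hyp.mt g = 1 := by
      rw [← H57.Hyp.mt_mul, inv_mul_cancel]; rfl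
    have := congrFun (congrFun h1 b) b
    rw [Matrix.mul_apply, Finset.sum_eq_zero (fun a _ => by rw [hz a, mul_zero]),
      Matrix.one_apply_eq] at this
    exact one_ne_zero this.symm
  have hle : ∀ b, wt b ≤ wt (σ b) ∧ (wt b = wt (σ b) → σ b = b) := fun b => by
    rcases ht (σ b) b (hne b) with ⟨e, -⟩ | h
    · exact ⟨by rw [e], fun _ => e⟩
    · exact ⟨h.le, fun e => absurd e (ne_of_lt h)⟩
  have hs : ∑ b, wt b = ∑ b, wt (σ b) := (Equiv.sum_comp σ (fun b => wt b)).symm
  refine Equiv.ext fun b => (hle b).2 ?_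
  exact (Finset.sum_eq_sum_iff_of_le fun i _ => (hle i).1).mp hs b (Finset.mem_univ b)

end Cfsg.Agent.H68.ShortPlus
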