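import Cfsg.Agent.H68.ShortPlus.Torus
import Cfsg.Agent.H68.ShortPlus.Cells
import Cfsg.Agent.H68.ShortPlus.Model
import Cfsg.Agent.H27.SplitOrtho

/-!
The group of the relations maps isomorphically onto the elementary orthogonal group.
-/

set_option autoImplicit false
set_option linter.unusedSimpArgs false
set_option linter.unusedSectionVars false

namespace Cfsg.Agent.H68.ShortPlus

open Matrix Equiv Cfsg.Agent.H68.ShortSL
open Cfsg.Agent.H99.CTD (el el_coe el_self Mono wEl la pe Glue exists_mono pm pm_apply fs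
  fs_apply ix_swap modA modB flipAt Rm mt_modA_el mt_modB_el op_ext tri wt)
open Cfsg.Agent.H99.BoundedPres (muA q4 exists_alt_pair)
open Cfsg.Agent.H57.Hyp (Op mt swapT mt_mul)

variable {F : Type*} [Field F] {k : ℕ} {G : Type*} [Group G]

local notation "SL2" => Matrix.SpecialLinearGroup (Fin 2) F
local notation "SLn" => Matrix.SpecialLinearGroup (Fin (k + 4)) F
local notation "Pm" => Equiv.Perm (Fin (k + 4) ⊕ Fin (k + 4))

theorem pm_one {n : ℕ} : pm (1 : Perm (Fin n)) = 1 := by
  refine Equiv.ext fun a => ?_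
  cases a <;> rfl

theorem pm_mul {n : ℕ} (σ τ : Perm (Fin n)) : pm (σ * τ) = pm σ * pm τ := by
  refine Equiv.ext fun a => ?_
  cases a <;> rfl

theorem pm_inv {n : ℕ} (σ : Perm (Fin n)) : pm σ⁻¹ = (pm σ)⁻¹ := by
  refine eq_inv_of_mul_eq_one_left ?_
  rw [← pm_mul, inv_mul_cancel, pm_one]

theorem pm_fs_pm {n : ℕ} (π : Perm (Fin n)) (T : Finset (Fin n)) :
    pm π * fs T * (pm π)⁻¹ = fs (T.image π) := by
  rw [mul_inv_eq_iff_eq_mul]
  refine Equiv.ext fun a => ?_
  rcases a with i | i <;> by_cases h : i ∈ T <;>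
    simp [fs_apply, pm_apply, Glue.ix, h]

theorem fs_mul_self {n : ℕ} (T : Finset (Fin n)) : fs T * fs T = 1 := by
  refine Equiv.ext fun a => ?_
  rcases a with i | i <;> by_cases h : i ∈ T <;> simp [fs_apply, Glue.ix, h]

theorem fs_inv {n : ℕ} (T : Finset (Fin n)) : (fs T)⁻¹ = fs T :=
  inv_eq_of_mul_eq_one_right (fs_mul_self T)

theorem fs_comm {n : ℕ} (T U : Finset (Fin n)) : Commute (fs T) (fs U) := by
  refine Equiv.ext fun a => ?_
  rcases a with i | i <;> by_cases h : i ∈ T <;> by_cases h' : i ∈ U <;>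
    simp [fs_apply, Glue.ix, h, h']

theorem fs_pair_mul {n : ℕ} {a b c : Fin n} (hab : a ≠ b) (hbc : b ≠ c) (hac : a ≠ c) :
    fs ({a, b} : Finset (Fin n)) * fs {b, c} = fs {a, c} := by
  refine Equiv.ext fun x => ?_
  rcases x with i | i <;> by_cases h1 : i = a <;> by_cases h2 : i = b <;> by_cases h3 : i = c <;>
    simp_all [fs_apply, Glue.ix]

variable {A : Matrix.SpecialLinearGroup (Fin (k + 4)) F →* G} {s : G}
  {P : Matrix.SpecialLinearGroup (Fin 2) F} (R : Rels A s P) (D : Glue F (k + 4) G) (hA : D.A = A)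
  (hB : ∀ (a b : Fin (k + 4)), a ≠ b → ∀ t : F, D.B (el a b t) = rootB A s a b t)

/-- Conjugation maps the subgroup into itself. -/
def Forward {H : Type*} [Group H] (K : Subgroup H) (x : H) : Prop := ∀ z ∈ K, x * z * x⁻¹ ∈ K

theorem forward_one {H : Type*} [Group H] (K : Subgroup H) : Forward K 1 := fun z hz => by
  simpa using hz

theorem forward_mul {H : Type*} [Group H] {K : Subgroup H} {x y : H} (hx : Forward K x)
    (hy : Forward K y) : Forward K (x * y) := fun z hz => by
  have := hx _ (hy z hz)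
  simpa [mul_assoc] using this

/-- A double exchange with its signed permutation. -/
noncomputable def gS (A : SLn →* G) (s : G) (a b : Fin (k + 4)) : G × Pm :=
  (S A s a b, fs {a, b})

include R in
theorem gS_sq (a b : Fin (k + 4)) : gS A s a b * gS A s a b = 1 :=
  Prod.ext (by simp only [gS, Prod.fst_mul, Prod.fst_one]; exact S_sq R a b)
    (by simp only [gS, Prod.snd_mul, Prod.snd_one]; exact fs_mul_self _)

include R in
theorem gS_comm (a b c d : Fin (k + 4)) : Commute (gS A s a b) (gS A s c d) :=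
  Prod.ext (by simp only [gS, Prod.fst_mul]; exact (S_commute R a b c d).eq)
    (by simp only [gS, Prod.snd_mul]; exact (fs_comm _ _).eq)

include R in
theorem gS_symm (a b : Fin (k + 4)) : gS A s a b = gS A s b a :=
  Prod.ext (S_comm R a b) (by rw [gS, gS, Finset.pair_comm])

include R in
theorem gS_triple {a b c : Fin (k + 4)} (hab : a ≠ b) (hbc : b ≠ c) (hac : a ≠ c) :
    gS A s a b * gS A s b c = gS A s a c :=
  Prod.ext (by simp only [gS, Prod.fst_mul]; exact S_triple R hab hbc hac)
    (by simp only [gS, Prod.snd_mul]; exact fs_pair_mul hab hbc hac)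

/-- The group of the double exchanges. -/
def ES (A : SLn →* G) (s : G) : Subgroup (G × Pm) :=
  Subgroup.closure {x | ∃ a b, a ≠ b ∧ x = gS A s a b}

theorem gS_mem {a b : Fin (k + 4)} (h : a ≠ b) : gS A s a b ∈ ES A s :=
  Subgroup.subset_closure ⟨a, b, h, rfl⟩

/-- The powers of an element of square one. -/
def sgnHom {H : Type*} [Group H] (g : H) (hg : g * g = 1) : Multiplicative (ZMod 2) →* H where
  toFun z := if z = 1 then 1 else g
  map_one' := if_pos rfl
  map_mul' x y := by
    have hz : ∀ z : Multiplicative (ZMod 2), z = 1 ∨ z = Multiplicative.ofAdd 1 := by decide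
    have hne : (Multiplicative.ofAdd (1 : ZMod 2)) ≠ 1 := by decide
    have hmul : (Multiplicative.ofAdd (1 : ZMod 2)) * Multiplicative.ofAdd 1 = 1 := by decide
    rcases hz x with rfl | rfl <;> rcases hz y with rfl | rfl <;> simp [hne, hmul, hg]

theorem sgnHom_comm {H : Type*} [Group H] {g h : H} (hg : g * g = 1) (hh : h * h = 1)
    (hc : Commute g h) (x y : Multiplicative (ZMod 2)) :
    Commute (sgnHom g hg x) (sgnHom h hh y) := by
  show Commute (if x = 1 then 1 else g) (if y = 1 then 1 else h)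
  split_ifs
  · exact Commute.one_left _
  · exact Commute.one_left _
  · exact Commute.one_right _
  · exact hc

theorem sgnHom_one_add {H : Type*} [Group H] (g : H) (hg : g * g = 1) :
    sgnHom g hg (Multiplicative.ofAdd 1) = g := by
  show (if Multiplicative.ofAdd (1 : ZMod 2) = 1 then (1 : H) else g) = g
  exact if_neg (show Multiplicative.ofAdd (1 : ZMod 2) ≠ 1 by decide)

/-- Sign changes as a homomorphism. -/
def fsHom (n : ℕ) : (Fin n → Multiplicative (ZMod 2)) →* Perm (Fin n ⊕ Fin n) where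
  toFun v := fs (Finset.univ.filter fun i => v i ≠ 1)
  map_one' := by
    refine Equiv.ext fun a => ?_
    simp [fs_apply]
  map_mul' v w := by
    have hz : ∀ x y : Multiplicative (ZMod 2), x * y ≠ 1 ↔ ¬ (x ≠ 1 ↔ y ≠ 1) := by decide
    refine Equiv.ext fun a => ?_
    rcases a with i | i <;> by_cases h1 : v i = 1 <;> by_cases h2 : w i = 1 <;>
      simp [fs_apply, Glue.ix, hz, h1, h2, Finset.mem_filter]

/-- The coordinates whose sign changes. -/
def psi (k : ℕ) : (Fin (k + 4) → Multiplicative (ZMod 2)) →*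
    (Fin (k + 4) → Multiplicative (ZMod 2)) where
  toFun f i := if i = la (hn4 k) then ∏ j ∈ Finset.univ.erase (la (hn4 k)), f j else f i
  map_one' := by funext i; simp
  map_mul' f g := by funext i; by_cases h : i = la (hn4 k) <;> simp [h, Finset.prod_mul_distrib]

/-- The generators along the last coordinate. -/
noncomputable def genE (R : Rels A s P) (a : Fin (k + 4)) : Multiplicative (ZMod 2) →* G × Pm :=
  if a = la (hn4 k) then 1 else sgnHom (gS A s a (la (hn4 k))) (gS_sq R _ _)

include R in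
theorem genE_comm : Pairwise fun i j => ∀ x y, Commute (genE R i x) (genE R j y) := by
  intro i j _ x y
  unfold genE
  split_ifs
  · exact Commute.one_left _
  · exact Commute.one_left _
  · exact Commute.one_right _
  · exact sgnHom_comm _ _ (gS_comm R _ _ _ _) x y

/-- Parametrisation of the double exchanges. -/
noncomputable def phiE (R : Rels A s P) :
    (Fin (k + 4) → Multiplicative (ZMod 2)) →* G × Pm :=
  MonoidHom.noncommPiCoprod (genE R) (genE_comm R)

include R in
theorem ES_le : ES A s ≤ (phiE R).range := by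
  classical
  have hl : ∀ a, a ≠ la (hn4 k) → gS A s a (la (hn4 k)) ∈ (phiE R).range := fun a ha =>
    ⟨Pi.mulSingle a (Multiplicative.ofAdd 1), by
      rw [phiE, MonoidHom.noncommPiCoprod_mulSingle, genE, if_neg ha]
      exact sgnHom_one_add _ _⟩
  refine (Subgroup.closure_le _).2 ?_
  rintro _ ⟨a, b, hab, rfl⟩
  by_cases hb : b = la (hn4 k)
  · subst hb; exact hl a hab
  by_cases ha : a = la (hn4 k)
  · subst ha; rw [gS_symm R]; exact hl b hb
  rw [← gS_triple R ha (Ne.symm hb) hab, gS_symm R (la (hn4 k)) b]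
  exact mul_mem (hl a ha) (hl b hb)

include R in
theorem phiE_snd (f : Fin (k + 4) → Multiplicative (ZMod 2)) :
    (phiE R f).2 = fsHom (k + 4) (psi k f) := by
  classical
  have e : (MonoidHom.snd G Pm).comp (phiE R) = (fsHom (k + 4)).comp (psi k) := by
    refine MonoidHom.pi_ext fun a z => ?_
    have hz : z = 1 ∨ z = Multiplicative.ofAdd 1 := by revert z; decide
    rcases hz with rfl | rfl
    · simp
    simp only [MonoidHom.comp_apply, phiE, MonoidHom.noncommPiCoprod_mulSingle]
    have h1 : (Multiplicative.ofAdd (1 : ZMod 2)) ≠ 1 := by decide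
    by_cases ha : a = la (hn4 k)
    · subst ha
      have : psi k (Pi.mulSingle (la (hn4 k)) (Multiplicative.ofAdd (1 : ZMod 2))) = 1 := by
        funext i
        by_cases hi : i = la (hn4 k)
        · subst hi
          simp only [psi, MonoidHom.coe_mk, OneHom.coe_mk, if_true, Pi.one_apply]
          exact Finset.prod_eq_one fun j hj => Pi.mulSingle_eq_of_ne (Finset.ne_of_mem_erase hj) _
        · simp [psi, hi]
      rw [this, genE, if_pos rfl]
      simp
    · have : psi k (Pi.mulSingle a (Multiplicative.ofAdd (1 : ZMod 2)))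
          = fun i => if i = a ∨ i = la (hn4 k) then Multiplicative.ofAdd (1 : ZMod 2) else 1 := by
        funext i
        by_cases hi : i = la (hn4 k)
        · subst hi
          simp only [psi, MonoidHom.coe_mk, OneHom.coe_mk, if_true, or_true]
          rw [Finset.prod_eq_single a (fun j _ hj => Pi.mulSingle_eq_of_ne hj _)
            (fun h => absurd (Finset.mem_erase.mpr ⟨ha, Finset.mem_univ a⟩) h),
            Pi.mulSingle_eq_same]
        · by_cases hia : i = a
          · subst hia; simp [psi, hi]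
          · simp [psi, hi, hia]
      rw [this, genE, if_neg ha]
      rw [sgnHom_one_add]
      show fs _ = fs _
      congr 1
      ext i
      by_cases hia : i = a <;> by_cases hil : i = la (hn4 k) <;> simp [hia, hil, ha, h1]
  exact DFunLike.congr_fun e f

include R in
theorem phiE_trivial {f : Fin (k + 4) → Multiplicative (ZMod 2)} (h : (phiE R f).2 = 1) :
    phiE R f = 1 := by
  classical
  rw [phiE_snd R] at h
  have hi : ∀ i, i ≠ la (hn4 k) → f i = 1 := fun i hi => by
    by_contra hne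
    have := congrArg (fun σ : Pm => σ (.inl i)) h
    simp [fsHom, fs_apply, Glue.ix, psi, hi, hne] at this
  have e : f = Pi.mulSingle (la (hn4 k)) (f (la (hn4 k))) := by
    funext i
    by_cases h' : i = la (hn4 k)
    · subst h'; simp
    · rw [Pi.mulSingle_eq_of_ne h', hi i h']
  rw [e, phiE, MonoidHom.noncommPiCoprod_mulSingle, genE, if_pos rfl]
  rfl

/-- Monomial elements of the first group with their permutations. -/
noncomputable def Mset (A : SLn →* G) : Subgroup (G × Pm) where
  carrier := {x | ∃ g π, Mono g π ∧ x = (A g, pm π)}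
  one_mem' := ⟨1, 1, Mono.one, by rw [map_one, pm_one]; rfl⟩
  mul_mem' := by
    rintro _ _ ⟨g, π, hg, rfl⟩ ⟨h, ρ, hh, rfl⟩
    exact ⟨g * h, π * ρ, hg.mul hh, by rw [map_mul, pm_mul]; rfl⟩
  inv_mem' := by
    rintro _ ⟨g, π, hg, rfl⟩
    exact ⟨g⁻¹, π⁻¹, Mono.inv' hg, by rw [map_inv, pm_inv]; rfl⟩

/-- The torus with the double exchanges. -/
noncomputable def Zs [Finite F] : Subgroup (G × Pm) :=
  (Tor R D hA hB).prod ⊥ ⊔ ES A s

/-- The monomial group. -/
noncomputable def Ns [Finite F] : Subgroup (G × Pm) := Zs R D hA hB ⊔ Mset A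

theorem torP_mem [Finite F] {t : G} (ht : t ∈ Tor R D hA hB) : (t, (1 : Pm)) ∈ Zs R D hA hB :=
  Subgroup.mem_sup_left ⟨ht, Subgroup.one_mem _⟩

theorem Zs_split [Finite F] {z : G × Pm} (hz : z ∈ Zs R D hA hB) :
    ∃ t ∈ Tor R D hA hB, ∃ f, z = (t, 1) * phiE R f := by
  have hn : ES A s ≤ Subgroup.normalizer (((Tor R D hA hB).prod ⊥ : Subgroup (G × Pm)) : Set _) := by
    refine (Subgroup.closure_le _).2 ?_
    rintro _ ⟨a, b, -, rfl⟩
    have key : ∀ y ∈ (Tor R D hA hB).prod (⊥ : Subgroup Pm),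
        gS A s a b * y * gS A s a b ∈ (Tor R D hA hB).prod (⊥ : Subgroup Pm) := by
      rintro ⟨t, σ⟩ ⟨ht, hσ⟩
      change σ ∈ (⊥ : Subgroup Pm) at hσ
      rw [Subgroup.mem_bot] at hσ
      subst hσ
      refine ⟨S_conj_Tor R D hA hB a b ht, ?_⟩
      show fs {a, b} * 1 * fs {a, b} ∈ (⊥ : Subgroup Pm)
      rw [mul_one, fs_mul_self]
      exact Subgroup.one_mem _
    have hinv : (gS A s a b)⁻¹ = gS A s a b := inv_eq_of_mul_eq_one_right (gS_sq R a b)
    exact mem_normalizer_of (fun y hy => by rw [hinv]; exact key y hy)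
      (fun y hy => by rw [hinv]; exact key y hy)
  have hz' := hz
  rw [Zs, ← SetLike.mem_coe, Subgroup.coe_mul_of_right_le_normalizer_left _ _ hn] at hz'
  obtain ⟨⟨t, σ⟩, ⟨ht, hσ⟩, e, he, rfl⟩ := hz'
  change σ ∈ (⊥ : Subgroup Pm) at hσ
  rw [Subgroup.mem_bot] at hσ
  subst hσ
  obtain ⟨f, rfl⟩ := ES_le R he
  exact ⟨t, ht, f, rfl⟩

theorem conj_Zs_of [Finite F] {x : G × Pm} (hx2 : ∃ π, x.2 = pm π)
    (hT : ∀ t ∈ Tor R D hA hB, x.1 * t * x.1⁻¹ ∈ Tor R D hA hB)
    (hS : ∀ a b, a ≠ b → x * gS A s a b * x⁻¹ ∈ Zs R D hA hB) {z : G × Pm}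
    (hz : z ∈ Zs R D hA hB) : x * z * x⁻¹ ∈ Zs R D hA hB := by
  have : Zs R D hA hB ≤ (Zs R D hA hB).comap (MulAut.conj x).toMonoidHom := by
    refine sup_le ?_ ((Subgroup.closure_le _).2 ?_)
    · rintro ⟨t, σ⟩ ⟨ht, hσ⟩
      change σ ∈ (⊥ : Subgroup Pm) at hσ
      rw [Subgroup.mem_bot] at hσ
      subst hσ
      have e : x * ((t, 1) : G × Pm) * x⁻¹ = (x.1 * t * x.1⁻¹, 1) :=
        Prod.ext rfl (by show x.2 * 1 * x.2⁻¹ = 1; rw [mul_one, mul_inv_cancel])
      show x * ((t, 1) : G × Pm) * x⁻¹ ∈ Zs R D hA hB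
      rw [e]
      exact torP_mem R D hA hB (hT t ht)
    · rintro _ ⟨a, b, hab, rfl⟩
      exact hS a b hab
  exact this hz

theorem diag_forward [Finite F] {d : SLn} (hd : d ∈ dgSub F (k + 4)) :
    Forward (Zs R D hA hB) ((A d, 1) : G × Pm) := by
  intro z hz
  refine conj_Zs_of R D hA hB ⟨1, pm_one.symm⟩ (fun t ht => diag_conj_Tor R D hA hB hd ht)
    (fun a b hab => ?_) hz
  have e : ((A d, 1) : G × Pm) * gS A s a b * ((A d, 1) : G × Pm)⁻¹
      = (A d * (S A s a b * (A d)⁻¹ * S A s a b), 1) * gS A s a b := by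
    simp only [gS, Prod.inv_mk, Prod.mk_mul_mk, inv_one, one_mul, mul_one, Prod.mk.injEq, and_true]
    rw [← mul_assoc (A d), mul_assoc _ (S A s a b) (S A s a b), S_sq R, mul_one, ← mul_assoc]
  rw [e]
  exact mul_mem (torP_mem R D hA hB (mul_mem (A_mem_Tor R D hA hB hd)
    (S_conj_Tor R D hA hB a b (inv_mem (A_mem_Tor R D hA hB hd)))))
    (Subgroup.mem_sup_right (gS_mem hab))

theorem wt2_forward [Finite F] {a b : Fin (k + 4)} (hab : a ≠ b) :
    Forward (Zs R D hA hB) ((A (wt2 a b), pm (swap a b)) : G × Pm) := by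
  intro z hz
  refine conj_Zs_of R D hA hB ⟨_, rfl⟩ (fun t ht => wt2_conj_Tor R D hA hB hab ht)
    (fun p q hpq => ?_) hz
  have e2 : ((A (wt2 a b), pm (swap a b)) : G × Pm) * gS A s p q *
      ((A (wt2 a b), pm (swap a b)) : G × Pm)⁻¹ = gS A s (swap a b p) (swap a b q) := by
    simp only [gS, Prod.inv_mk, Prod.mk_mul_mk, Prod.mk.injEq]
    exact ⟨A_wt2_conj_S R hab p q, by rw [pm_fs_pm, Finset.image_insert, Finset.image_singleton]⟩
  rw [e2]
  exact Subgroup.mem_sup_right (gS_mem ((swap a b).injective.ne hpq))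

theorem Mset_forward [Finite F] {x : G × Pm} (hx : x ∈ Mset A) :
    Forward (Zs R D hA hB) x := by
  have hmono : ∀ π : Perm (Fin (k + 4)), ∃ g, Mono g π ∧
      Forward (Zs R D hA hB) ((A g, pm π) : G × Pm) := by
    intro π
    induction π using Equiv.Perm.swap_induction_on with
    | one =>
      refine ⟨1, Mono.one, ?_⟩
      rw [map_one, pm_one, Prod.mk_one_one]
      exact forward_one _
    | swap_mul ρ a b hab ih =>
      obtain ⟨g, hg, hgz⟩ := ih
      refine ⟨wt2 a b * g, (wt2_mono hab).mul hg, ?_⟩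
      rw [map_mul, pm_mul, ← Prod.mk_mul_mk]
      exact forward_mul (wt2_forward R D hA hB hab) hgz
  obtain ⟨g, π, hg, rfl⟩ := hx
  obtain ⟨g0, hg0, hg0z⟩ := hmono π
  have hd : g * g0⁻¹ ∈ dgSub F (k + 4) := by
    show Mono _ 1
    simpa using hg.mul (Mono.inv' hg0)
  have e : ((A g, pm π) : G × Pm) = (A (g * g0⁻¹), 1) * (A g0, pm π) := by
    rw [Prod.mk_mul_mk, ← map_mul, inv_mul_cancel_right, one_mul]
  rw [e]
  exact forward_mul (diag_forward R D hA hB hd) hg0z

theorem Ns_split [Finite F] {x : G × Pm} (hx : x ∈ Ns R D hA hB) :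
    ∃ t ∈ Tor R D hA hB, ∃ f g π, Mono g π ∧ x = (t, 1) * phiE R f * (A g, pm π) := by
  have hn : Mset A ≤ Subgroup.normalizer ((Zs R D hA hB : Subgroup (G × Pm)) : Set _) := fun x hx =>
    mem_normalizer_of (Mset_forward R D hA hB hx) fun y hy => by
      have := Mset_forward R D hA hB (inv_mem hx) y hy
      rwa [inv_inv] at this
  rw [Ns, ← SetLike.mem_coe, Subgroup.coe_mul_of_right_le_normalizer_left _ _ hn] at hx
  obtain ⟨z, hz, m, ⟨g, π, hg, rfl⟩, rfl⟩ := hx
  obtain ⟨t, ht, f, rfl⟩ := Zs_split R D hA hB hz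
  exact ⟨t, ht, f, g, π, hg, rfl⟩

include R hA hB in
theorem fs_la_mem [Finite F] {a : Fin (k + 4)} (ha : a ≠ la (hn4 k)) :
    gS A s a (la (hn4 k)) ∈ D.Acts := by
  set l := la (hn4 k) with hl
  obtain ⟨x, hxa, hxl, -⟩ := exists_ne_three a l a
  have hS : S A s a l = (A (wt2 a l))⁻¹ * D.B (wt2 a l) := by
    rw [(S_eq_W R ha hxa hxl).1, W, wt2, glue_blk R D hA hB ha hxa hxl]
  have h := mul_mem (inv_mem (D.actsA (wt2_mono (F := F) ha))) (D.actsB (wt2_mono (F := F) ha))
  have e : gS A s a l = ((D.A (wt2 a l), pm (swap a l)) : G × Pm)⁻¹ *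
      (D.B (wt2 a l), D.fl * pm (swap a l) * D.fl) := by
    refine Prod.ext (by show S A s a l = (D.A _)⁻¹ * D.B _; rw [hA, hS]) ?_
    show fs {a, l} = (pm (swap a l))⁻¹ * (D.fl * pm (swap a l) * D.fl)
    rw [← mul_assoc, ← mul_assoc, D.fl_eq_fs]
    have h2 := pm_fs_pm (swap a l) {l}
    rw [Finset.image_singleton, swap_apply_right, ← pm_inv, swap_inv] at h2
    rw [← pm_inv, swap_inv, show (la D.hn) = l from rfl, h2]
    refine Equiv.ext fun y => ?_
    rcases y with i | i <;> by_cases h1 : i = a <;> by_cases h3 : i = l <;>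
      simp_all [fs_apply, Glue.ix]
  rw [e]
  exact h

theorem Ns_le_Acts [Finite F] : Ns R D hA hB ≤ D.Acts := by
  refine sup_le (sup_le ?_ ?_) ?_
  · rintro ⟨t, σ⟩ ⟨ht, hσ⟩
    change σ ∈ (⊥ : Subgroup Pm) at hσ
    rw [Subgroup.mem_bot] at hσ
    subst hσ
    obtain ⟨d, hd, e, he, rfl⟩ := (mem_Tor_iff R D hA hB).mp ht
    have h1 := D.actsA (π := 1) hd
    have h2 := D.actsB (π := 1) he
    have hff : D.fl * 1 * D.fl = 1 := by rw [mul_one]; exact fl_mul_self D
    rw [pm_one, hA] at h1
    rw [pm_one, hff] at h2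
    have := mul_mem h1 h2
    rwa [show ((A d, 1) : G × Pm) * (D.B e, 1) = (A d * D.B e, 1) from
      Prod.ext rfl (one_mul _)] at this
  · refine (Subgroup.closure_le _).2 ?_
    rintro _ ⟨a, b, hab, rfl⟩
    have hl : ∀ a, a ≠ la (hn4 k) → gS A s a (la (hn4 k)) ∈ D.Acts := fun a ha =>
      fs_la_mem R D hA hB ha
    by_cases hb : b = la (hn4 k)
    · subst hb; exact hl a hab
    by_cases ha : a = la (hn4 k)
    · subst ha; rw [gS_symm R]; exact hl b hb
    rw [← gS_triple R ha (Ne.symm hb) hab, gS_symm R (la (hn4 k)) b]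
    exact mul_mem (hl a ha) (hl b hb)
  · rintro _ ⟨g, π, hg, rfl⟩
    have := D.actsA hg
    rwa [hA] at this

theorem Ns_adjA [Finite F] {i j : Fin (k + 4)} (hij : i ≠ j) {v : F} (hv : v ≠ 0) :
    (D.A (wEl i j v), pm (swap i j)) ∈ Ns R D hA hB :=
  Subgroup.mem_sup_right ⟨wEl i j v, swap i j, Mono.wEl hij hv, by rw [hA]⟩

theorem Ns_adjB [Finite F] {i j : Fin (k + 4)} (hij : j.val = i.val + 1) {v : F} (hv : v ≠ 0) :
    (D.B (wEl i j v), D.fl * pm (swap i j) * D.fl) ∈ Ns R D hA hB := by
  set l := la (hn4 k) with hl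
  have hne : i ≠ j := fun e => by simp [e] at hij
  have hil : i ≠ l := fun e => by
    have := congrArg Fin.val e
    simp [hl, la] at this
    omega
  by_cases hjl : j = l
  · subst hjl
    obtain ⟨x, hxi, hxl, -⟩ := exists_ne_three i l i
    set y : SL2 := up v * lo (-v⁻¹) * up v with hy
    have hby : (blk i l y : SLn) = wEl i l v := by
      rw [hy, map_mul, map_mul, blk_up hne, blk_lo hne, wEl]
    have e : ((D.B (wEl i l v), D.fl * pm (swap i l) * D.fl) : G × Pm)
        = gS A s l x * (A (wEl i l v), pm (swap i l)) * gS A s l x := by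
      refine Prod.ext ?_ ?_
      · show D.B (wEl i l v) = S A s l x * A (wEl i l v) * S A s l x
        rw [← hby, glue_blk R D hA hB hil hxi hxl]
        rfl
      · show D.fl * pm (swap i l) * D.fl = fs {l, x} * pm (swap i l) * fs {l, x}
        rw [D.fl_eq_fs, show la D.hn = l from rfl]
        refine Equiv.ext fun z => ?_
        rcases z with z | z <;> by_cases h1 : z = i <;> by_cases h2 : z = l <;>
          by_cases h3 : z = x <;>
          simp_all [fs_apply, pm_apply, Glue.ix, swap_apply_of_ne_of_ne, Ne.symm hxi, Ne.symm hxl]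
    rw [e]
    have hS : gS A s l x ∈ Ns R D hA hB :=
      Subgroup.mem_sup_left (Subgroup.mem_sup_right (gS_mem (Ne.symm hxl)))
    exact mul_mem (mul_mem hS (Subgroup.mem_sup_right ⟨_, _, Mono.wEl hne hv, rfl⟩)) hS
  · have hfl : D.fl * pm (swap i j) * D.fl = pm (swap i j) := by
      have h2 := pm_fs_pm (swap i j) {l}
      rw [Finset.image_singleton, swap_apply_of_ne_of_ne (Ne.symm hil) (Ne.symm hjl),
        mul_inv_eq_iff_eq_mul] at h2
      rw [D.fl_eq_fs, show la D.hn = l from rfl, mul_assoc, h2, ← mul_assoc, fs_mul_self, one_mul]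
    rw [hfl, show D.B (wEl i j v) = D.A (wEl i j v) from (D.wEl_mem_same hil hjl v).symm]
    exact Ns_adjA R D hA hB hne hv

section Theta

variable {θ : G →* Op (k + 4) F} (hθA : ∀ g, θ (A g) = modA g)
  (hθs : θ s = swapT {q4 k 0, q4 k 1})

include R hθA hθs in
theorem theta_S {a b : Fin (k + 4)} (h : a ≠ b) : θ (S A s a b) = swapT {a, b} := by
  obtain ⟨g, rfl, rfl⟩ := exists_alt_pair h
  rw [S_eq R, map_mul, map_mul, map_inv, hθs, show θ (mu A g) = modA (muA g) from hθA _,
    swapT_muA, Finset.image_insert, Finset.image_singleton]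

include R hA hB hθA hθs in
theorem theta_B (g : SLn) : θ (D.B g) = modB (la D.hn) g := by
  have e : θ.comp D.B = modB (la D.hn) :=
    Cfsg.Agent.H99.CT.hom_ext_transvection fun i j hij t => by
      rw [← el_eq hij, MonoidHom.comp_apply, hB i j hij]
      obtain ⟨x, hxi, hxj, hxl⟩ := exists_ne_three i j (la (hn4 k))
      rw [rootB_eq R hxi hxj hxl, map_mul, map_mul, theta_S R hθA hθs hxl.symm, hθA]
      refine op_ext ?_
      have hinv : (swapT {la (hn4 k), x} : Op (k + 4) F)⁻¹ = swapT {la (hn4 k), x} :=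
        inv_eq_of_mul_eq_one_right (Cfsg.Agent.H57.Hyp.swapT_mul_self _)
      have h := mt_pair_conj hxl.symm (mt_modA_el hij t)
      rw [hinv] at h
      rw [h, mt_modB_el _ hij]
      have f1 : flipAt x (Sum.inl i : Fin (k + 4) ⊕ Fin (k + 4)) = Sum.inl i :=
        swap_apply_of_ne_of_ne (by simp [Ne.symm hxi]) (by simp)
      have f2 : flipAt x (Sum.inr j : Fin (k + 4) ⊕ Fin (k + 4)) = Sum.inr j :=
        swap_apply_of_ne_of_ne (by simp) (by simp [Ne.symm hxj])
      rw [f1, f2]
  exact DFunLike.congr_fun e g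

include R hθA hθs in
theorem theta_phiE (f : Fin (k + 4) → Multiplicative (ZMod 2)) :
    MonoM (mt (θ (phiE R f).1)) (phiE R f).2 := by
  classical
  induction f using Pi.mulSingle_induction with
  | one =>
    rw [map_one, Prod.fst_one, Prod.snd_one, map_one]
    exact monoM_one
  | mul f g hf hg =>
    rw [map_mul, Prod.fst_mul, Prod.snd_mul, map_mul, mt_mul]
    exact hf.mul hg
  | mulSingle a z =>
    rw [phiE, MonoidHom.noncommPiCoprod_mulSingle, genE]
    split_ifs with h
    · rw [MonoidHom.one_apply, Prod.fst_one, Prod.snd_one, map_one]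
      exact monoM_one
    · show MonoM (mt (θ (if z = 1 then (1 : G × Pm) else _).1)) (if z = 1 then (1 : G × Pm) else _).2
      split_ifs
      · rw [Prod.fst_one, Prod.snd_one, map_one]
        exact monoM_one
      · show MonoM (mt (θ (S A s a _))) (fs _)
        rw [theta_S R hθA hθs h]
        exact monoM_swapT _

include R hA hB hθA hθs in
theorem theta_Bdiag {e : SLn} (he : e ∈ dgSub F (k + 4)) : MonoM (mt (θ (D.B e))) (1 : Pm) := by
  rw [theta_B R D hA hB hθA hθs]
  have hs : (swapT {la D.hn} : Op (k + 4) F)⁻¹ = swapT {la D.hn} :=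
    inv_eq_of_mul_eq_one_right (Cfsg.Agent.H57.Hyp.swapT_mul_self _)
  show MonoM (mt (swapT {la D.hn} * modA e * (swapT {la D.hn})⁻¹)) (1 : Pm)
  rw [hs, mt_mul, mt_mul]
  have := ((monoM_swapT (F := F) {la D.hn}).mul (monoM_modA he)).mul (monoM_swapT {la D.hn})
  rwa [pm_one, mul_one, fs_mul_self] at this

include hθA hθs in
theorem Tor_trivial [Finite F] {t : G} (ht : t ∈ Tor R D hA hB) (h1 : θ t = 1) : t = 1 := by
  obtain ⟨d, hd, e, he, rfl⟩ := (mem_Tor_iff R D hA hB).mp ht
  set l := la (hn4 k) with hl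
  set p := pe (hn4 k) with hp'
  have hpl : p ≠ l := Cfsg.Agent.H99.CTD.pe_ne_la _
  obtain ⟨x, hxp, hxl, -⟩ := exists_ne_three p l p
  set v : Fˣ := (Units.mk0 _ (Mono.entry_ne he l))⁻¹ with hv
  set e' := blk p l (dg v⁻¹) * e with he'
  have hem : e' ∈ dgSub F (k + 4) := mul_mem (blk_dg_mem hpl _) he
  have hel : (e' : Matrix (Fin (k + 4)) (Fin (k + 4)) F) l l = 1 := by
    rw [he', Matrix.SpecialLinearGroup.coe_mul, blk_dg_coe hpl, Matrix.diagonal_mul]
    simp [hv, hpl.symm]
    exact inv_mul_cancel₀ (by simpa using Mono.entry_ne he l)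
  have hsame : D.A e' = D.B e' := by
    refine D.mem_same_of_fix (fun j => ?_) (fun i => ?_)
    · by_cases h : l = j
      · subst h; rw [hel, Matrix.one_apply_eq]
      · rw [hem l j (by simpa using h), Matrix.one_apply_ne h]
    · by_cases h : i = l
      · subst h; rw [hel, Matrix.one_apply_eq]
      · rw [hem i l (by simpa using h), Matrix.one_apply_ne h]
  have heq : e = e' * blk p l (dg v) := by
    rw [he', mul_assoc,
      show e * blk p l (dg v) = blk p l (dg v) * e from
        Subtype.ext (by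
          rw [Matrix.SpecialLinearGroup.coe_mul, Matrix.SpecialLinearGroup.coe_mul,
            blk_dg_coe hpl, Mono.diag he, Matrix.diagonal_mul_diagonal,
            Matrix.diagonal_mul_diagonal]
          congr 1; funext i; rw [mul_comm]),
      ← mul_assoc, ← map_mul, ← dg_mul, inv_mul_cancel, dg_one, map_one, one_mul]
  set d' := d * e' with hd'
  have hdm : d' ∈ dgSub F (k + 4) := mul_mem hd hem
  have ht' : A d * D.B e = A d' * Bk A s p l x (dg v) := by
    conv_lhs => rw [heq]
    rw [map_mul D.B e', ← hsame, hA, ← glue_blk R D hA hB hpl hxp hxl, hd', map_mul A d e', mul_assoc]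
  have hval : ∀ i, (d' : Matrix (Fin (k + 4)) (Fin (k + 4)) F) i i *
      (if i = p ∨ i = l then (v : F) else 1) = 1 := by
    intro i
    have h := h1
    rw [ht', ← glue_blk R D hA hB hpl hxp hxl, map_mul, hθA, theta_B R D hA hB hθA hθs] at h
    have h' := congrFun (congrFun (congrArg Cfsg.Agent.H57.Hyp.mt h) (.inl i)) (.inl i)
    rw [mt_mul, Matrix.mul_apply, Finset.sum_eq_single (Sum.inl i)
      (fun c _ hc => by
        rw [monoM_modA hdm (.inl i) c (by rw [pm_one]; simpa using Ne.symm hc), zero_mul])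
      (by simp)] at h'
    change (d' : Matrix (Fin (k + 4)) (Fin (k + 4)) F) i i *
      mt (swapT {la D.hn} * modA (blk p l (dg v)) * (swapT {la D.hn})⁻¹) (.inl i) (.inl i)
      = (1 : Matrix _ _ F) (Sum.inl i) (Sum.inl i) at h'
    rw [Cfsg.Agent.H99.CTD.mt_swap_conj, Matrix.submatrix_apply, Matrix.one_apply_eq] at h'
    by_cases hil : i = l
    · subst hil
      rw [if_pos (Or.inr rfl)]
      rw [show flipAt (la D.hn) (Sum.inl l : Fin (k + 4) ⊕ Fin (k + 4)) = Sum.inr l from
        swap_apply_left _ _] at h'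
      have he2 : mt (modA (blk p l (dg v)) : Op (k + 4) F) (.inr l) (.inr l) = v := by
        show Cfsg.Agent.H57.Hyp.mt (Cfsg.Agent.H57.Hyp.levi _) _ _ = _
        rw [Cfsg.Agent.H57.Hyp.mt_levi, Matrix.fromBlocks_apply₂₂, Matrix.transpose_apply,
          ← map_inv, ← map_inv, dg_inv]
        show ((blk p l (dg v⁻¹) : SLn) : Matrix (Fin (k + 4)) (Fin (k + 4)) F) l l = _
        rw [blk_dg_coe hpl]
        simp [hpl.symm]
      rwa [he2] at h'
    · rw [show flipAt (la D.hn) (Sum.inl i : Fin (k + 4) ⊕ Fin (k + 4)) = Sum.inl i from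
        swap_apply_of_ne_of_ne (by simpa using hil) (by simp)] at h'
      have he2 : mt (modA (blk p l (dg v)) : Op (k + 4) F) (.inl i) (.inl i)
          = if i = p ∨ i = l then (v : F) else 1 := by
        show ((blk p l (dg v) : SLn) : Matrix (Fin (k + 4)) (Fin (k + 4)) F) i i = _
        rw [blk_dg_coe hpl, Matrix.diagonal_apply_eq]
        by_cases hip : i = p <;> simp [hip, hil]
      rwa [he2] at h'
  have hd2 : ∀ i, (d' : Matrix (Fin (k + 4)) (Fin (k + 4)) F) i i
      = if i = p ∨ i = l then ((v : F))⁻¹ else 1 := by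
    intro i
    have h := hval i
    split_ifs with hi
    · rw [if_pos hi] at h; exact eq_inv_of_mul_eq_one_left h
    · rwa [if_neg hi, mul_one] at h
  have hv2 : (v : F) * v = 1 := by
    have hdet := d'.det_coe
    rw [Mono.diag hdm, Matrix.det_diagonal,
      ← Finset.mul_prod_erase Finset.univ _ (Finset.mem_univ p),
      ← Finset.mul_prod_erase (Finset.univ.erase p) _
        (Finset.mem_erase.mpr ⟨hpl.symm, Finset.mem_univ l⟩), Finset.prod_eq_one, mul_one,
      hd2, hd2, if_pos (Or.inl rfl), if_pos (Or.inr rfl)] at hdet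
    · rw [← _root_.mul_inv_rev, inv_eq_one] at hdet
      exact hdet
    · intro i hi
      simp only [Finset.mem_erase] at hi
      rw [hd2, if_neg (by simp [hi.1, hi.2.1])]
  have hdb : d' = blk p l (dg v) := by
    refine Subtype.ext ?_
    rw [Mono.diag hdm, blk_dg_coe hpl]
    congr 1
    funext i
    rw [hd2 i]
    have hvi : (v : F)⁻¹ = v := inv_eq_of_mul_eq_one_right hv2
    by_cases hip : i = p
    · subst hip; simp [hvi]
    by_cases hil : i = l
    · subst hil; simp [hip, hvi]
    simp [hip, hil]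
  rw [ht', hdb]
  rcases mul_self_eq_one_iff.mp hv2 with h | h
  · rw [show v = 1 from Units.ext (by simpa using h), dg_one, map_one, map_one, one_mul]
    exact map_one (BkHom R p l x)
  · rw [show v = -1 from Units.ext (by simpa using h), (S_eq_W R hpl hxp hxl).2, ← map_mul,
      ← map_mul, dg_neg_one_sq, map_one, map_one]

include R hθA hθs in
/-- The relations force injectivity. -/
theorem theta_injective [Finite F] : Function.Injective θ := by
  obtain ⟨D, hA, hB⟩ := exists_glue R
  rw [← MonoidHom.ker_eq_bot_iff, Subgroup.eq_bot_iff_forall]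
  intro g hg
  rw [MonoidHom.mem_ker] at hg
  have hθB := theta_B R D hA hB hθA hθs
  have hθA' : ∀ g, θ (D.A g) = modA g := fun g => by rw [hA]; exact hθA g
  obtain ⟨u, hu, x, hx, u', hu', rfl⟩ := mem_cellsIn D (range_top R D hA hB)
    (Ns_le_Acts R D hA hB)
    (fun i j hij v hv => Ns_adjA R D hA hB (fun e => by simp [e] at hij) hv)
    (fun i j hij v hv => Ns_adjB R D hA hB hij hv) g
  have hUT : ∀ z ∈ D.U 1, θ z ∈ tri (F := F) fun x => wt x := by
    intro z hz
    refine (Subgroup.closure_le ((tri (F := F) fun x => wt x).comap θ)).2 ?_ hz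
    rintro h ⟨a, b, hab, hw, hh⟩
    obtain ⟨c, ht⟩ := (root_exact D hθA' hθB a b hab).1 h hh
    show ∀ x y, _
    intro x y hne
    rw [ht] at hne ⊢
    by_cases hxy : x = y
    · subst hxy
      refine Or.inl ⟨rfl, ?_⟩
      have e1 : a ≠ b.swap := fun e => hab (by rw [e, ix_swap])
      have e2 : b ≠ a.swap := fun e => hab (by rw [e, ix_swap])
      simp only [Rm, Matrix.add_apply, Matrix.sub_apply, Matrix.one_apply_eq, Matrix.single_apply]
      rw [if_neg (fun h => e1 (h.1.trans h.2.symm)), if_neg (fun h => e2 (h.1.trans h.2.symm))]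
      ring
    · refine Or.inr ?_
      simp only [Rm, Matrix.add_apply, Matrix.sub_apply, Matrix.one_apply_ne hxy,
        Matrix.single_apply] at hne
      by_cases h1 : a = x ∧ b.swap = y
      · show wt y < wt x
        rw [← h1.1, ← h1.2, Cfsg.Agent.H99.CTD.wt_swap]; omega
      · by_cases h2 : b = x ∧ a.swap = y
        · show wt y < wt x
          rw [← h2.1, ← h2.2, Cfsg.Agent.H99.CTD.wt_swap]; omega
        · rw [if_neg h1, if_neg h2] at hne; simp at hne
  have hxT : θ x.1 ∈ tri (F := F) fun x => wt x := by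
    rw [map_mul, map_mul] at hg
    have e : θ x.1 = (θ u)⁻¹ * (θ u')⁻¹ := by
      calc θ x.1 = (θ u)⁻¹ * (θ u * θ x.1 * θ u') * (θ u')⁻¹ := by group
        _ = _ := by rw [hg, mul_one]
    rw [e]
    exact mul_mem (inv_mem (hUT u hu)) (inv_mem (hUT u' hu'))
  obtain ⟨t, ht, f, g, π, hgπ, rfl⟩ := Ns_split R D hA hB hx
  obtain ⟨d, hd, e, he, rfl⟩ := (mem_Tor_iff R D hA hB).mp ht
  have hm : MonoM (mt (θ (((A d * D.B e, 1) : G × Pm) * phiE R f * (A g, pm π)).1))
      (((A d * D.B e, 1) : G × Pm) * phiE R f * (A g, pm π)).2 := by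
    simp only [Prod.fst_mul, Prod.snd_mul, map_mul, mt_mul, hθA]
    refine MonoM.mul (MonoM.mul ?_ (theta_phiE R hθA hθs f)) (monoM_modA hgπ)
    have := (monoM_modA (F := F) hd).mul (theta_Bdiag R D hA hB hθA hθs he)
    rwa [pm_one, one_mul] at this
  have h2 := monoM_tri hm hxT
  simp only [Prod.snd_mul, one_mul, phiE_snd R] at h2
  have hπ : π = 1 := Equiv.ext fun i => by
    have := congrArg Glue.ix (congrArg (fun σ : Pm => σ (.inl i)) h2)
    simp only [Perm.mul_apply, Perm.one_apply, pm_apply, Sum.map_inl, fsHom, MonoidHom.coe_mk,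
      OneHom.coe_mk, fs_apply] at this
    split_ifs at this <;> simpa [Glue.ix] using this
  subst hπ
  rw [pm_one, mul_one, ← phiE_snd R] at h2
  have hf := phiE_trivial R h2
  have hx1 : (((A d * D.B e, 1) : G × Pm) * phiE R f * (A g, pm 1)).1 = A d * D.B e * A g := by
    simp [hf]
  rw [hx1] at hxT hg
  have htg : A d * D.B e * A g ∈ Tor R D hA hB :=
    mul_mem ht (A_mem_Tor R D hA hB hgπ)
  have hone : θ (A d * D.B e * A g) = 1 := by
    refine op_ext (Matrix.ext fun a b => ?_)
    show _ = (1 : Matrix _ _ F) a b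
    by_cases hab : a = b
    · subst hab
      rw [Matrix.one_apply_eq]
      have hne : mt (θ (A d * D.B e * A g)) a a ≠ 0 := by
        intro h0
        have hdiag : MonoM (mt (θ (A d * D.B e * A g))) (1 : Pm) := by
          rw [map_mul, map_mul, hθA, hθA, mt_mul, mt_mul]
          have := ((monoM_modA (F := F) hd).mul (theta_Bdiag R D hA hB hθA hθs he)).mul
            (monoM_modA hgπ)
          rwa [pm_one, mul_one, mul_one] at this
        have h1 : mt (θ (A d * D.B e * A g))⁻¹ * mt (θ (A d * D.B e * A g)) = 1 := by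
          rw [← mt_mul, inv_mul_cancel]; rfl
        have := congrFun (congrFun h1 a) a
        rw [Matrix.mul_apply, Finset.sum_eq_single a
          (fun c _ hc => by rw [hdiag c a (by simpa using hc), mul_zero]) (by simp), h0, mul_zero,
          Matrix.one_apply_eq] at this
        exact zero_ne_one this
      rcases hxT a a hne with ⟨-, h⟩ | h
      · exact h
      · omega
    · rw [Matrix.one_apply_ne hab]
      by_contra hne
      have hdiag : MonoM (mt (θ (A d * D.B e * A g))) (1 : Pm) := by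
        rw [map_mul, map_mul, hθA, hθA, mt_mul, mt_mul]
        have := ((monoM_modA (F := F) hd).mul (theta_Bdiag R D hA hB hθA hθs he)).mul
          (monoM_modA hgπ)
        rwa [pm_one, mul_one, mul_one] at this
      exact hne (hdiag a b (by simpa using hab))
  have hx0 : A d * D.B e * A g = 1 := Tor_trivial R D hA hB hθA hθs htg hone
  rw [hx1, hx0, mul_one]
  refine U_inj D hθA' hθB (mul_mem hu hu') ?_
  rw [hx0, mul_one] at hg
  exact hg

end Theta

end Cfsg.Agent.H68.ShortPlus
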