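import Cfsg.Agent.H68.ShortPlus.Kernel
import Cfsg.Agent.Orthogonal.StdForms
import Cfsg.Agent.Orthogonal.POmega

/-!
Presentations of `Ω⁺(2n,q)`: those of `SL(n,q)` with the exchange of signs at two coordinates.
-/

set_option autoImplicit false
set_option linter.unusedSimpArgs false
set_option linter.unusedSectionVars false

namespace Cfsg.Agent.H68.ShortPlus

open Matrix Equiv Cfsg.Agent.H68.ShortSL
open Cfsg.Agent.H99.CTD (el el_coe el_self Mono la pe Glue modA modB flipAt Rm Rm_comm mt_modA_el
  mt_modB_el op_ext model_comm model_mem_omega pe_ne_la)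
open Cfsg.Agent.H99.BoundedPres (HasPres muA viaA viaA_apply viaA_fix c0 q4 p3 exists_alt_pair
  exists_word hom_ext_closure)
open Cfsg.Agent.H57.Hyp (Op Om swapT swapT_mul_self swapT_mem_om)

variable {F : Type*} [Field F] {k : ℕ}

local notation "SL2" => Matrix.SpecialLinearGroup (Fin 2) F
local notation "SLn" => Matrix.SpecialLinearGroup (Fin (k + 4)) F
local notation "On" => Op (k + 4) F

section Derived

variable {G : Type*} [Group G]

/-- An even permutation that exchanges the last two of three coordinates. -/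
theorem exists_flip_three (hk : 1 ≤ k) : ∃ g : alternatingGroup (Fin (k + 4)),
    (g : Perm _) (q4 k 0) = q4 k 0 ∧ (g : Perm _) (q4 k 1) = q4 k 2 ∧
      (g : Perm _) (q4 k 2) = q4 k 1 := by
  let z : Fin (k + 4) := ⟨4, by omega⟩
  have hz : ∀ i : Fin 4, z ≠ q4 k i := fun i h => by
    have h' := congrArg Fin.val h
    have : ((q4 k i : Fin (k + 4)) : ℕ) = (i : ℕ) := rfl
    rw [this] at h'
    have := i.isLt
    simp [z] at h'
    omega
  refine ⟨⟨swap (q4 k 1) (q4 k 2) * swap (q4 k 3) z, ?_⟩, ?_, ?_, ?_⟩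
  · rw [Perm.mem_alternatingGroup, map_mul, Perm.sign_swap (q4_ne (by decide)),
      Perm.sign_swap (hz 3).symm]
    rfl
  all_goals
    show (swap (q4 k 1) (q4 k 2) * swap (q4 k 3) z) _ = _
    rw [Perm.mul_apply, swap_apply_of_ne_of_ne (q4_ne (by decide)) (hz _).symm]
  · exact swap_apply_of_ne_of_ne (q4_ne (by decide)) (q4_ne (by decide))
  · exact swap_apply_left _ _
  · exact swap_apply_right _ _

/-- From five coordinates on the triple relation makes the exchange an involution. -/
theorem sq_of_triple (hk : 1 ≤ k) (A : SLn →* G) (s : G)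
    (stab : ∀ σ : Perm (Fin (k + 2)), Commute s (mu A (tw k σ)))
    (triple : s * (mu A (c0 k) * s * (mu A (c0 k))⁻¹) = (mu A (c0 k))⁻¹ * s * mu A (c0 k)) :
    s * s = 1 := by
  let T := fun g : alternatingGroup (Fin (k + 4)) => mu A g * s * (mu A g)⁻¹
  have hT : ∀ g t : alternatingGroup (Fin (k + 4)),
      (g : Perm _) (q4 k 0) = (t : Perm _) (q4 k 0) →
      (g : Perm _) (q4 k 1) = (t : Perm _) (q4 k 1) → T g = T t := by
    intro g t e0 e1
    obtain ⟨σ, -, hσ⟩ := exists_tw k (g⁻¹ * t)
      (by rw [Subgroup.coe_mul, Perm.mul_apply, ← e0]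
          exact (g : Perm (Fin (k + 4))).symm_apply_apply _)
      (by rw [Subgroup.coe_mul, Perm.mul_apply, ← e1]
          exact (g : Perm (Fin (k + 4))).symm_apply_apply _)
    have e : mu A t = mu A g * mu A (g⁻¹ * t) := by rw [← map_mul, mul_inv_cancel_left]
    show _ = mu A t * s * (mu A t)⁻¹
    rw [e, _root_.mul_inv_rev, mul_assoc (mu A g) _ s, ← hσ, ← (stab σ).eq]
    simp [T, mul_assoc]
  set d := tw k (swap 0 1) with hd
  have d0 : (d : Perm (Fin (k + 4))) (q4 k 0) = q4 k 1 := by
    have := tw_inl k (swap 0 1) 0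
    rw [Perm.sign_swap (by simp), q2_zero] at this
    exact this.trans (q2_one k)
  have d1 : (d : Perm (Fin (k + 4))) (q4 k 1) = q4 k 0 := by
    have := tw_inl k (swap 0 1) 1
    rw [Perm.sign_swap (by simp), q2_one] at this
    exact this.trans (q2_zero k)
  have hTd : ∀ g, T (g * d) = T g := fun g => by
    show mu A (g * d) * s * (mu A (g * d))⁻¹ = _
    rw [map_mul, _root_.mul_inv_rev, mul_assoc (mu A g) _ s, hd, ← (stab _).eq]
    simp [T, mul_assoc]
  obtain ⟨c01, c12, c20⟩ := c0_maps (k := k)
  have i0 : ((c0 k)⁻¹ : alternatingGroup _).1 (q4 k 0) = q4 k 2 := by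
    rw [Subgroup.coe_inv, Perm.inv_eq_iff_eq]; exact c20.symm
  have i1 : ((c0 k)⁻¹ : alternatingGroup _).1 (q4 k 1) = q4 k 0 := by
    rw [Subgroup.coe_inv, Perm.inv_eq_iff_eq]; exact c01.symm
  obtain ⟨g, g0, g1, g2⟩ := exists_flip_three (k := k) hk
  have h1 : T g = T (c0 k)⁻¹ := by
    rw [← hTd ((c0 k)⁻¹)]
    refine hT _ _ ?_ ?_
    · rw [Subgroup.coe_mul, Perm.mul_apply, d0, i1, g0]
    · rw [Subgroup.coe_mul, Perm.mul_apply, d1, i0, g1]
  have h2 : T (g * c0 k) = T (c0 k) := by
    rw [← hTd (c0 k)]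
    refine hT _ _ ?_ ?_
    · rw [Subgroup.coe_mul, Subgroup.coe_mul, Perm.mul_apply, Perm.mul_apply, c01, g1, d0, c12]
    · rw [Subgroup.coe_mul, Subgroup.coe_mul, Perm.mul_apply, Perm.mul_apply, c12, g2, d1, c01]
  have h3 : T (g * (c0 k)⁻¹) = s := by
    have e : T d = T 1 := by
      have := hTd 1
      rwa [one_mul] at this
    rw [hT (g * (c0 k)⁻¹) d (by rw [Subgroup.coe_mul, Perm.mul_apply, i0, g2, d0])
      (by rw [Subgroup.coe_mul, Perm.mul_apply, i1, g0, d1]), e]
    simp [T]
  have ht : s * T (c0 k) = T (c0 k)⁻¹ := by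
    show s * (mu A (c0 k) * s * (mu A (c0 k))⁻¹) = mu A (c0 k)⁻¹ * s * (mu A (c0 k)⁻¹)⁻¹
    rw [triple, map_inv, inv_inv]
  have hc := congrArg (fun z => mu A g * z * (mu A g)⁻¹) ht
  simp only [← conj_mul] at hc
  have e1 : mu A g * T (c0 k) * (mu A g)⁻¹ = T (g * c0 k) := by
    simp [T, map_mul, mul_assoc]
  have e2 : mu A g * T (c0 k)⁻¹ * (mu A g)⁻¹ = T (g * (c0 k)⁻¹) := by
    simp [T, map_mul, mul_assoc]
  rw [e1, e2, h2, h3] at hc
  change T g * T (c0 k) = s at hc
  rw [h1, ← ht, mul_assoc] at hc
  have h4 : T (c0 k) * T (c0 k) = 1 := mul_eq_left.mp hc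
  have e3 : T (c0 k) * T (c0 k) = mu A (c0 k) * (s * s) * (mu A (c0 k))⁻¹ := by
    simp [T, mul_assoc]
  rw [e3] at h4
  exact conj_eq_one_iff.mp h4

end Derived

section Model

/-- The double exchange commutes past a block of the first group as a change of sign. -/
theorem swap_conj_blk {a b i j : Fin (k + 4)} (hab : a ≠ b) (hij : i ≠ j) (hai : a ≠ i)
    (haj : a ≠ j) (y : SL2) :
    (swapT {a, b} : On) * modA (blk i j y) * (swapT {a, b})⁻¹ = modB b (blk i j y) := by
  have key : ∀ p q : Fin (k + 4), p ≠ q → a ≠ p → a ≠ q → ∀ t : F,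
      (swapT {a, b} : On) * modA (el p q t) * (swapT {a, b})⁻¹ = modB b (el p q t) := by
    intro p q hpq hap haq t
    refine op_ext ?_
    rw [Finset.pair_comm, mt_pair_conj hab.symm (mt_modA_el hpq t), mt_modB_el b hpq]
    have f1 : flipAt a (Sum.inl p : Fin (k + 4) ⊕ Fin (k + 4)) = Sum.inl p :=
      swap_apply_of_ne_of_ne (by simp [Ne.symm hap]) (by simp)
    have f2 : flipAt a (Sum.inr q : Fin (k + 4) ⊕ Fin (k + 4)) = Sum.inr q :=
      swap_apply_of_ne_of_ne (by simp) (by simp [Ne.symm haq])
    rw [f1, f2]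
  have e : (MulAut.conj (swapT {a, b} : On)).toMonoidHom.comp (modA.comp (blk i j))
      = (modB b).comp (blk i j) := hom_ext_ul
    (fun t => by
      show _ * modA (blk i j (up t)) * _ = modB b (blk i j (up t))
      rw [blk_up hij]; exact key i j hij hai haj t)
    (fun t => by
      show _ * modA (blk i j (lo t)) * _ = modB b (blk i j (lo t))
      rw [blk_lo hij]; exact key j i hij.symm haj hai t)
  exact DFunLike.congr_fun e y

theorem modA_eq_modB {l i j : Fin (k + 4)} (hij : i ≠ j) (hli : l ≠ i) (hlj : l ≠ j) (y : SL2) :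
    (modA (blk i j y) : On) = modB l (blk i j y) := by
  have key : ∀ p q : Fin (k + 4), p ≠ q → l ≠ p → l ≠ q → ∀ t : F,
      (modA (el p q t) : On) = modB l (el p q t) := by
    intro p q hpq hlp hlq t
    refine op_ext ?_
    rw [mt_modA_el hpq, mt_modB_el _ hpq, flipAt,
      swap_apply_of_ne_of_ne (by simpa using Ne.symm hlp) (by simp),
      swap_apply_of_ne_of_ne (by simp) (by simpa using Ne.symm hlq)]
  have e : (modA : SLn →* On).comp (blk i j) = (modB l).comp (blk i j) := hom_ext_ul
    (fun t => by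
      show modA (blk i j (up t)) = modB l (blk i j (up t))
      rw [blk_up hij]; exact key i j hij hli hlj t)
    (fun t => by
      show modA (blk i j (lo t)) = modB l (blk i j (lo t))
      rw [blk_lo hij]; exact key j i hij.symm hlj hli t)
  exact DFunLike.congr_fun e y

theorem model_mixed {p l : Fin (k + 4)} (h : p ≠ l) (u v : SL2) :
    Commute (modA (blk p l u) : On) (modB l (blk p l v)) := by
  refine ul_induction (p := fun u => Commute (modA (blk p l u) : On) _) ?_ ?_ ?_
    (fun x y hx hy => by rw [map_mul, map_mul]; exact hx.mul_left hy) u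
  · rw [map_one, map_one]; exact Commute.one_left _
  · intro t
    refine ul_induction (p := fun v => Commute _ (modB l (blk p l v) : On)) ?_ ?_ ?_
      (fun x y hx hy => by rw [map_mul, map_mul]; exact hx.mul_right hy) v
    · rw [map_one, map_one]; exact Commute.one_right _
    · intro u; rw [blk_up h, blk_up h]
      exact model_comm h (Or.inl ⟨rfl, rfl⟩) (Or.inl ⟨rfl, rfl⟩) t u
    · intro u; rw [blk_up h, blk_lo h]
      exact model_comm h (Or.inl ⟨rfl, rfl⟩) (Or.inr ⟨rfl, rfl⟩) t u
  · intro t
    refine ul_induction (p := fun v => Commute _ (modB l (blk p l v) : On)) ?_ ?_ ?_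
      (fun x y hx hy => by rw [map_mul, map_mul]; exact hx.mul_right hy) v
    · rw [map_one, map_one]; exact Commute.one_right _
    · intro u; rw [blk_lo h, blk_up h]
      exact model_comm h (Or.inr ⟨rfl, rfl⟩) (Or.inl ⟨rfl, rfl⟩) t u
    · intro u; rw [blk_lo h, blk_lo h]
      exact model_comm h (Or.inr ⟨rfl, rfl⟩) (Or.inr ⟨rfl, rfl⟩) t u

theorem model_act {a b : Fin (k + 4)} (hab : a ≠ b) (y : SL2) :
    (swapT {a, b} : On) * modA (blk a b y) * (swapT {a, b})⁻¹ = modA (blk a b (tq y)) := by
  have key : ∀ p q : Fin (k + 4), p ≠ q → ({a, b} : Finset _) = {p, q} → ∀ t : F,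
      (swapT {a, b} : On) * modA (el p q t) * (swapT {a, b})⁻¹ = modA (el q p (-t)) := by
    intro p q hpq he t
    refine op_ext ?_
    rw [he, mt_pair_conj hpq (mt_modA_el hpq t), mt_modA_el hpq.symm]
    have f1 : flipAt p (flipAt q (Sum.inl p : Fin (k + 4) ⊕ Fin (k + 4))) = Sum.inr p := by
      rw [show flipAt q (Sum.inl p : Fin (k + 4) ⊕ Fin (k + 4)) = Sum.inl p from
        swap_apply_of_ne_of_ne (by simp [hpq]) (by simp)]
      exact swap_apply_left _ _
    have f2 : flipAt p (flipAt q (Sum.inr q : Fin (k + 4) ⊕ Fin (k + 4))) = Sum.inl q := by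
      rw [show flipAt q (Sum.inr q : Fin (k + 4) ⊕ Fin (k + 4)) = Sum.inl q from swap_apply_right _ _]
      exact swap_apply_of_ne_of_ne (by simp [hpq.symm]) (by simp)
    rw [f1, f2, Rm_comm]
  have e : (MulAut.conj (swapT {a, b} : On)).toMonoidHom.comp (modA.comp (blk a b))
      = (modA.comp (blk a b)).comp tq := hom_ext_ul
    (fun t => by
      show _ * modA (blk a b (up t)) * _ = modA (blk a b (tq (up t)))
      rw [tq_up, blk_up hab, blk_lo hab]; exact key a b hab rfl t)
    (fun t => by
      show _ * modA (blk a b (lo t)) * _ = modA (blk a b (tq (lo t)))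
      rw [tq_lo, blk_lo hab, blk_up hab]; exact key b a hab.symm (Finset.pair_comm a b) t)
  exact DFunLike.congr_fun e y

theorem model_far {a b i j : Fin (k + 4)} (hab : a ≠ b) (hij : i ≠ j) (hai : a ≠ i) (haj : a ≠ j)
    (hbi : b ≠ i) (hbj : b ≠ j) (y : SL2) :
    Commute (swapT {a, b} : On) (modA (blk i j y)) := by
  have h := swap_conj_blk hab hij hai haj y
  rw [← modA_eq_modB hij hbi hbj] at h
  exact mul_inv_eq_iff_eq_mul.mp h

theorem swapT_pair_inv (a b : Fin (k + 4)) :
    (swapT {a, b} : On)⁻¹ = swapT {a, b} := inv_eq_of_mul_eq_one_right (swapT_mul_self _)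

theorem model_triple {a b c : Fin (k + 4)} (hab : a ≠ b) (hbc : b ≠ c) (hac : a ≠ c) :
    (swapT {a, b} : On) * swapT {b, c} = swapT {a, c} := by
  rw [swapT_pair hab, swapT_pair hbc, swapT_pair hac, mul_assoc,
    ← mul_assoc (swapT {b} : On) (swapT {b}), swapT_mul_self, one_mul]

variable [Fintype F]

/-- A group with the first embedding and the base exchange contains `Ω`. -/
theorem omega_le {M : Subgroup On} (hA : ∀ g, modA g ∈ M)
    (hs : (swapT {q4 k 0, q4 k 1} : On) ∈ M) : Om (k + 4) F ≤ M := by
  classical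
  have hS : ∀ a b : Fin (k + 4), a ≠ b → (swapT {a, b} : On) ∈ M := by
    intro a b hab
    obtain ⟨g, rfl, rfl⟩ := exists_alt_pair hab
    have := mul_mem (mul_mem (hA (muA g)) hs) (inv_mem (hA (muA g)))
    rwa [swapT_muA, Finset.image_insert, Finset.image_singleton] at this
  have hB : ∀ g : SLn, modB (la (hn4 k)) g ∈ M := by
    intro g
    refine Cfsg.Agent.Linear.transvection_induction (P := fun g => modB (la (hn4 k)) g ∈ M)
      (by rw [map_one]; exact one_mem _) (fun p q hpq t => ?_)
      (fun x y hx hy => by rw [map_mul]; exact mul_mem hx hy) g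
    obtain ⟨x, hxp, hxq, hxl⟩ := exists_ne_three p q (la (hn4 k))
    rw [← el_eq hpq, ← blk_up hpq, ← swap_conj_blk hxl hpq hxp hxq]
    exact mul_mem (mul_mem (hS _ _ hxl) (hA _)) (inv_mem (hS _ _ hxl))
  let D : Glue F (k + 4) On :=
    { hn := hn4 k
      A := modA
      B := modB (la (hn4 k))
      agree := fun a b ha hb t => by
        by_cases hab : a = b
        · subst hab; rw [el_self, map_one, map_one]
        · rw [← blk_up hab]; exact modA_eq_modB hab ha.symm hb.symm _
      comm := fun a b c d h1 h2 t u => model_comm (pe_ne_la _) h1 h2 t u }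
  have hY : ∀ a b : Fin (k + 4) ⊕ Fin (k + 4), D.Y a b ≤ M := by
    have hX : ∀ i j, D.Xp i j ≤ M ∧ D.dual.Xp i j ≤ M := by
      intro i j
      constructor <;>
      · unfold Glue.Xp
        split_ifs
        · rintro _ ⟨_, ⟨y, -, rfl⟩, rfl⟩
          first
            | exact mul_mem (mul_mem (hA _) (hB _)) (inv_mem (hA _))
        · exact bot_le
    rintro (i | i) (j | j)
    · exact (hX i j).1
    · rintro _ ⟨y, -, rfl⟩; exact hA _
    · rintro _ ⟨y, -, rfl⟩; exact hA _
    · exact (hX i j).2
  have hO : Om (k + 4) F = Cfsg.Agent.H27.SplitOrtho.elGroup (k + 4) F :=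
    Cfsg.Agent.H27.SplitOrtho.omega_eq (by omega)
  rw [hO]
  refine (Subgroup.closure_le _).2 ?_
  rintro _ ⟨a, b, hab, t, rfl⟩
  obtain ⟨x, hx, e⟩ := root_surj D (θ := MonoidHom.id On) (fun _ => rfl) (fun _ => rfl) a b hab t
  have hxel : x = Cfsg.Agent.H27.SplitOrtho.el a b hab t := op_ext e
  exact hxel ▸ hY a b hx

end Model

section Pres

variable [Fintype F]

set_option maxHeartbeats 1000000 in
/-- The presentation, given one of the special linear group and generators of the stabiliser. -/
theorem hasPres_core {a b : ℕ} (hSL : HasPres SLn 5 a) (W : List (Perm (Fin (k + 2))))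
    (hW : Subgroup.closure {σ | σ ∈ W} = ⊤)
    (hlen : a + W.length + (if k = 0 then 6 else 4) ≤ b) : HasPres (Om (k + 4) F) 6 b := by
  classical
  obtain ⟨p, hch⟩ := CharP.exists F
  have hpf : Fact p.Prime := ⟨CharP.char_is_prime F p⟩
  let : Algebra (ZMod p) F := ZMod.algebra F p
  obtain ⟨ω, hω⟩ := IsCyclic.exists_generator (α := Fˣ)
  have hsp : Cfsg.Agent.H99.SLThree.SpanPowers F ((ω : F) ^ 2) :=
    Cfsg.Agent.H99.SLThree.spanPowers_of_gen
      fun u => Cfsg.Agent.H99.ShortPres.gen_of_generator (p := p) ω hω u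
  obtain ⟨P, hP⟩ := exists_pairTau ω hω hsp
  obtain ⟨f, RA, hRA, hgenA, hsatA, huniv⟩ := hSL
  choose wA hwA using fun y => exists_word hgenA y
  let iA : FreeGroup (Fin 5) →* FreeGroup (Fin (5 + 1)) :=
    FreeGroup.lift fun i => FreeGroup.of (Fin.castAdd 1 i)
  let WA := fun y => iA (wA y)
  let sW : FreeGroup (Fin (5 + 1)) := FreeGroup.of (Fin.natAdd 5 0)
  let mA : SLn →* Om (k + 4) F := (modA : SLn →* On).codRestrict _ (model_mem_omega (by omega))
  have h01 : q4 k 0 ≠ q4 k 1 := q4_ne (by decide)
  let s0 : Om (k + 4) F :=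
    ⟨swapT {q4 k 0, q4 k 1}, swapT_mem_om (by rw [Finset.card_pair h01]; exact ⟨1, rfl⟩)⟩
  let fb : Fin (5 + 1) → Om (k + 4) F := Fin.append (fun i => mA (f i)) (fun _ => s0)
  have lA : ∀ w, FreeGroup.lift fb (iA w) = mA (FreeGroup.lift f w) := by
    intro w
    refine DFunLike.congr_fun (f := (FreeGroup.lift fb).comp iA)
      (g := mA.comp (FreeGroup.lift f)) (FreeGroup.ext_hom _ _ fun i => ?_) w
    simp only [MonoidHom.comp_apply, iA, fb, FreeGroup.lift_apply_of, Fin.append_left]
  have hWA : ∀ y, FreeGroup.lift fb (WA y) = mA y := fun y => by rw [lA, hwA]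
  have hsW : FreeGroup.lift fb sW = s0 := by
    simp only [sW, fb, FreeGroup.lift_apply_of, Fin.append_right]
  let g' := viaA (q4 k) g13
  let C := WA (muA (c0 k))
  let B01 := WA (blk (q4 k 0) (q4 k 1) P)
  let B23 := WA (blk (q4 k 2) (q4 k 3) P)
  let S12 := C * sW * C⁻¹
  let S13 := WA (muA g') * sW * (WA (muA g'))⁻¹
  let extra : List (FreeGroup (Fin (5 + 1)) × FreeGroup (Fin (5 + 1))) :=
    if k = 0 then [(sW * sW, 1), (B01 * (S13 * B23 * S13), (S13 * B23 * S13) * B01)] else []
  let l : List (FreeGroup (Fin (5 + 1)) × FreeGroup (Fin (5 + 1))) :=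
    RA.toList.map (fun r => (iA r, 1)) ++
    W.map (fun σ => (sW * WA (muA (tw k σ)), WA (muA (tw k σ)) * sW)) ++
    [(sW * S12, C⁻¹ * sW * C), (sW * B23, B23 * sW),
      (sW * B01 * sW⁻¹, WA (blk (q4 k 0) (q4 k 1) (tq P))),
      (B01 * (S12 * B01 * S12), (S12 * B01 * S12) * B01)] ++ extra
  have hlen' : l.length ≤ b := by
    simp only [l, List.length_append, List.length_map, Finset.length_toList, List.length_cons,
      List.length_nil]
    have : extra.length = if k = 0 then 2 else 0 := by
      simp only [extra]; split_ifs <;> rfl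
    rw [this]
    split_ifs at hlen ⊢ with hk <;> omega
  have hgen : Subgroup.closure (Set.range fb) = ⊤ := by
    apply Subgroup.map_injective (Om (k + 4) F).subtype_injective
    rw [← MonoidHom.range_eq_map, Subgroup.range_subtype]
    refine le_antisymm (by rintro _ ⟨x, -, rfl⟩; exact x.2) ?_
    refine omega_le (fun g => ⟨mA g, ?_, rfl⟩) ⟨s0, ?_, rfl⟩
    · rw [← hWA g, ← FreeGroup.range_lift_eq_closure]; exact ⟨_, rfl⟩
    · exact Subgroup.subset_closure ⟨Fin.natAdd 5 0, by simp only [fb, Fin.append_right]⟩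
  refine HasPres.of_list l hlen' fb hgen ?_ ?_
  · -- the relations hold
    obtain ⟨c01, c12, c20⟩ := c0_maps (k := k)
    have eS12 : FreeGroup.lift fb S12 =
        ⟨swapT {q4 k 1, q4 k 2}, swapT_mem_om (by
          rw [Finset.card_pair (q4_ne (by decide))]; exact ⟨1, rfl⟩)⟩ := by
      simp only [S12, C, map_mul, map_inv, hWA, hsW]
      refine Subtype.ext ?_
      show modA (muA (c0 k)) * swapT {q4 k 0, q4 k 1} * (modA (muA (c0 k)))⁻¹ = _
      rw [swapT_muA, Finset.image_insert, Finset.image_singleton, c01, c12]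
    intro r hr
    simp only [l, List.mem_append, List.mem_map, Finset.mem_toList, List.mem_cons,
      List.not_mem_nil, or_false] at hr
    rcases hr with ((⟨s, hs, rfl⟩ | ⟨σ, -, rfl⟩) | rfl | rfl | rfl | rfl) | hr
    · rw [lA, hsatA s hs, map_one, map_one]
    · simp only [map_mul, hWA, hsW]
      refine Subtype.ext ?_
      have h := swapT_muA (F := F) (tw k σ) {q4 k 0, q4 k 1}
      have hset : ({q4 k 0, q4 k 1} : Finset (Fin (k + 4))).image (tw k σ : Perm (Fin (k + 4)))
          = {q4 k 0, q4 k 1} := by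
        rw [Finset.image_insert, Finset.image_singleton, ← q2_zero, ← q2_one, tw_inl, tw_inl]
        rcases Int.units_eq_one_or (Perm.sign σ) with h | h <;> rw [h]
        · rfl
        · exact Finset.pair_comm _ _
      rw [hset] at h
      exact (mul_inv_eq_iff_eq_mul.mp h).symm
    · simp only [map_mul, hsW, eS12]
      simp only [C, map_mul, map_inv, hWA, hsW]
      refine Subtype.ext ?_
      show swapT {q4 k 0, q4 k 1} * swapT {q4 k 1, q4 k 2}
        = (modA (muA (c0 k)))⁻¹ * swapT {q4 k 0, q4 k 1} * modA (muA (c0 k))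
      have h := swapT_muA (F := F) (c0 k) {q4 k 0, q4 k 2}
      rw [Finset.image_insert, Finset.image_singleton, c01, c20, Finset.pair_comm (q4 k 1) (q4 k 0)] at h
      rw [model_triple h01 (q4_ne (by decide)) (q4_ne (by decide))]
      rw [← h]
      group
    · simp only [B23, map_mul, hWA, hsW]
      exact Subtype.ext (model_far h01 (q4_ne (by decide)) (q4_ne (by decide)) (q4_ne (by decide))
        (q4_ne (by decide)) (q4_ne (by decide)) P).eq
    · simp only [B01, map_mul, map_inv, hWA, hsW]
      exact Subtype.ext (model_act h01 P)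
    · simp only [B01, map_mul, eS12, hWA]
      refine Subtype.ext ?_
      show modA (blk (q4 k 0) (q4 k 1) P) *
          (swapT {q4 k 1, q4 k 2} * modA (blk (q4 k 0) (q4 k 1) P) * swapT {q4 k 1, q4 k 2})
        = swapT {q4 k 1, q4 k 2} * modA (blk (q4 k 0) (q4 k 1) P) * swapT {q4 k 1, q4 k 2} *
          modA (blk (q4 k 0) (q4 k 1) P)
      have h := swap_conj_blk (F := F) (a := q4 k 2) (b := q4 k 1) (q4_ne (by decide)) h01
        (q4_ne (by decide)) (q4_ne (by decide)) P
      rw [Finset.pair_comm, swapT_pair_inv] at h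
      rw [h]
      exact (model_mixed h01 P P).eq
    · by_cases hk : k = 0
      · simp only [extra, if_pos hk, List.mem_cons, List.not_mem_nil, or_false] at hr
        rcases hr with rfl | rfl
        · simp only [map_mul, map_one, hsW]
          exact Subtype.ext (swapT_mul_self _)
        · simp only [B01, B23, S13, map_mul, map_inv, hWA, hsW]
          refine Subtype.ext ?_
          have g0 : (g' : Perm (Fin (k + 4))) (q4 k 0) = q4 k 1 := by rw [viaA_apply]; rfl
          have g1 : (g' : Perm (Fin (k + 4))) (q4 k 1) = q4 k 3 := by rw [viaA_apply]; rfl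
          have hs13 := swapT_muA (F := F) g' {q4 k 0, q4 k 1}
          rw [Finset.image_insert, Finset.image_singleton, g0, g1] at hs13
          show modA (blk (q4 k 0) (q4 k 1) P) *
              ((modA (muA g') * swapT {q4 k 0, q4 k 1} * (modA (muA g'))⁻¹) *
                modA (blk (q4 k 2) (q4 k 3) P) *
                (modA (muA g') * swapT {q4 k 0, q4 k 1} * (modA (muA g'))⁻¹))
            = (modA (muA g') * swapT {q4 k 0, q4 k 1} * (modA (muA g'))⁻¹) *
                modA (blk (q4 k 2) (q4 k 3) P) *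
                (modA (muA g') * swapT {q4 k 0, q4 k 1} * (modA (muA g'))⁻¹) *
              modA (blk (q4 k 0) (q4 k 1) P)
          rw [hs13]
          have h := swap_conj_blk (F := F) (a := q4 k 1) (b := q4 k 3) (q4_ne (by decide))
            (show q4 k 2 ≠ q4 k 3 from q4_ne (by decide)) (q4_ne (by decide)) (q4_ne (by decide)) P
          rw [swapT_pair_inv] at h
          rw [h, modA_eq_modB (l := q4 k 3) h01 (q4_ne (by decide)) (q4_ne (by decide)) P]
          exact ((blk_comm h01 (q4_ne (by decide)) (q4_ne (by decide)) (q4_ne (by decide))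
            (q4_ne (by decide)) (q4_ne (by decide)) P P).map (modB (q4 k 3))).eq
      · simp [extra, hk] at hr
  · -- injectivity
    intro G _ π hπ hrel θ hθ
    have hr' : ∀ r ∈ l, π r.1 = π r.2 := hrel
    let gA : Fin 5 → G := fun i => π (iA (FreeGroup.of i))
    have hgA : FreeGroup.lift gA = π.comp iA := FreeGroup.ext_hom _ _ fun i => by simp [gA]
    obtain ⟨A, hA⟩ := huniv G gA fun r hr => by
      have := hr' (iA r, 1) (by
        simp only [l, List.mem_append, List.mem_map, Finset.mem_toList]
        exact Or.inl (Or.inl (Or.inl ⟨r, hr, rfl⟩)))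
      rw [hgA]; simpa using this
    have eA : π.comp iA = A.comp (FreeGroup.lift f) :=
      FreeGroup.ext_hom _ _ fun i => by simp [hA, gA]
    have hPA : ∀ y, π (WA y) = A y := fun y => by
      show π.comp iA (wA y) = _
      rw [eA, MonoidHom.comp_apply, hwA]
    set s := π sW with hs
    have hstab : ∀ σ : Perm (Fin (k + 2)), Commute s (mu A (tw k σ)) := by
      intro σ
      have : σ ∈ (Subgroup.centralizer ({s} : Set G)).comap ((mu A).comp (tw k)) := by
        refine (hW ▸ (Subgroup.closure_le _).2 ?_ : (⊤ : Subgroup (Perm (Fin (k + 2)))) ≤ _) trivial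
        intro τ hτ
        have h := hr' (sW * WA (muA (tw k τ)), WA (muA (tw k τ)) * sW) (by
          simp only [l, List.mem_append, List.mem_map]
          exact Or.inl (Or.inl (Or.inr ⟨τ, hτ, rfl⟩)))
        simp only [map_mul, hPA] at h
        exact Subgroup.mem_centralizer_singleton_iff.mpr h.symm
      exact (Subgroup.mem_centralizer_singleton_iff.mp this).symm
    have h4 : ∀ i (hi : i ∈ [(sW * S12, C⁻¹ * sW * C), (sW * B23, B23 * sW),
      (sW * B01 * sW⁻¹, WA (blk (q4 k 0) (q4 k 1) (tq P))),
      (B01 * (S12 * B01 * S12), (S12 * B01 * S12) * B01)]), π i.1 = π i.2 := fun i hi =>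
      hr' i (by
        simp only [l, List.mem_append]
        exact Or.inl (Or.inr hi))
    have r1 := h4 _ (List.mem_cons_self ..)
    have r2 := h4 _ (List.mem_cons_of_mem _ (List.mem_cons_self ..))
    have r3 := h4 _ (List.mem_cons_of_mem _ (List.mem_cons_of_mem _ (List.mem_cons_self ..)))
    have r4 := h4 _ (List.mem_cons_of_mem _ (List.mem_cons_of_mem _ (List.mem_cons_of_mem _
      (List.mem_cons_self ..))))
    simp only [S12, C, B01, B23, map_mul, map_inv, hPA, ← hs] at r1 r2 r3 r4
    have hsq : s * s = 1 := by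
      by_cases hk : k = 0
      · have h := hr' (sW * sW, 1) (by
          simp only [l, List.mem_append]
          exact Or.inr (by simp [extra, hk]))
        simpa [hs] using h
      · exact sq_of_triple (Nat.one_le_iff_ne_zero.mpr hk) A s hstab r1
    have hgenG : A.range ⊔ Subgroup.zpowers s = ⊤ := by
      rw [eq_top_iff]
      intro y hy
      clear hy
      obtain ⟨w, rfl⟩ := hπ y
      have hw : w ∈ Subgroup.closure (Set.range (FreeGroup.of : Fin (5 + 1) → _)) := by
        rw [FreeGroup.closure_range_of]; trivial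
      induction hw using Subgroup.closure_induction with
      | mem x hx =>
        obtain ⟨i, rfl⟩ := hx
        induction i using Fin.addCases with
        | left i =>
          refine Subgroup.mem_sup_left ⟨f i, ?_⟩
          rw [hA]; simp [gA, iA]
        | right i =>
          rw [Subsingleton.elim i 0]
          exact Subgroup.mem_sup_right (Subgroup.mem_zpowers _)
      | one => rw [map_one]; exact one_mem _
      | mul x y _ _ hx hy => rw [map_mul]; exact mul_mem hx hy
      | inv x _ hx => rw [map_inv]; exact inv_mem hx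
    have R : Rels A s P :=
      { pair := hP
        gen := hgenG
        stab := hstab
        sq := hsq
        triple := r1
        far := r2
        act := r3
        mixed := r4
        quad := fun hk => by
          have h := hr' (B01 * (S13 * B23 * S13), (S13 * B23 * S13) * B01) (by
            simp only [l, List.mem_append]
            exact Or.inr (by simp [extra, hk]))
          simp only [S13, B01, B23, map_mul, map_inv, hPA, ← hs] at h
          exact h }
    have hθA : θ.comp A = mA := hom_ext_closure hgenA fun i => by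
      rw [MonoidHom.comp_apply, hA]
      show θ.comp π (iA (FreeGroup.of i)) = _
      rw [hθ, lA, FreeGroup.lift_apply_of]
    have hθs : θ s = s0 := by
      show θ.comp π sW = _
      rw [hθ, hsW]
    have hA' : ∀ g, ((Om (k + 4) F).subtype.comp θ) (A g) = modA g := fun g => by
      have h := DFunLike.congr_fun hθA g
      rw [MonoidHom.comp_apply] at h
      rw [MonoidHom.comp_apply, h]
      rfl
    have hs' : ((Om (k + 4) F).subtype.comp θ) s = swapT {q4 k 0, q4 k 1} := by
      rw [MonoidHom.comp_apply, hθs]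
      rfl
    have hinj := theta_injective R (θ := (Om (k + 4) F).subtype.comp θ) hA' hs'
    exact Function.Injective.of_comp (f := (Om (k + 4) F).subtype) hinj

end Pres

section Bounds

variable [Fintype F]

theorem closure_pair_list {H : Type*} [Group H] {a b : H} (h : Subgroup.closure ({a, b} : Set H) = ⊤) :
    Subgroup.closure {σ | σ ∈ [a, b]} = ⊤ := by
  rw [← h]
  congr 1
  ext x
  simp

/-- Six generators and at most twenty-nine relations; twenty-seven in small rank. -/
theorem hasPres_omega {n : ℕ} (hn : 4 ≤ n) :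
    HasPres (Om n F) 6 29 ∧ (n ≤ 5 → HasPres (Om n F) 6 27) := by
  obtain ⟨k, rfl⟩ : ∃ k, n = k + 4 := ⟨n - 4, by omega⟩
  rcases k with _ | _ | k
  · have h : HasPres (Om (0 + 4) F) 6 27 := hasPres_core (hasPres_four (F := F)) [swap 0 1] (by
      rw [eq_top_iff]
      intro σ hσ
      clear hσ
      have hall : ∀ τ : Perm (Fin (0 + 2)), τ = swap 0 1 ∨ τ = 1 := by decide
      rcases hall σ with rfl | rfl
      · exact Subgroup.subset_closure (by simp)
      · exact one_mem _) (by simp)
    exact ⟨h.mono (by norm_num), fun _ => h⟩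
  · have h : HasPres (Om (0 + 1 + 4) F) 6 27 :=
      hasPres_core (k := 1) (hasPres_five (F := F)) [swap 0 1, finRotate 3] (closure_pair_list (by
        have h := Perm.closure_cycle_adjacent_swap (isCycle_finRotate (n := 1)) support_finRotate
          (0 : Fin 3)
        rw [finRotate_apply, zero_add, Set.pair_comm] at h
        exact h)) (by simp)
    exact ⟨h.mono (by norm_num), fun _ => h⟩
  · obtain ⟨w, -, hw⟩ := exists_perm_gens (k + 2)
    exact ⟨hasPres_core (hasPres_big (k + 2) (by omega)) [swap 0 1, w] (closure_pair_list hw)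
      (by simp), fun h => absurd h (by omega)⟩

/-- The centre has order at most two. -/
theorem center_cyclic {n : ℕ} (hn : 4 ≤ n) :
    ∃ z : Om n F, Subgroup.center (Om n F) = Subgroup.zpowers z := by
  classical
  have key : ∀ g : Om n F, g ∈ Subgroup.center (Om n F) →
      Cfsg.Agent.H57.Hyp.mt (g : Op n F) = 1 ∨ Cfsg.Agent.H57.Hyp.mt (g : Op n F) = -1 := by
    intro g hg
    exact Cfsg.Agent.Orthogonal.center_omega_cases (Cfsg.Agent.Orthogonal.formPlus_nondeg (F := F) (m := n))
      (by simp [Module.finrank_fintype_fun_eq_card]; omega) hg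
  by_cases h : ∃ g ∈ Subgroup.center (Om n F), Cfsg.Agent.H57.Hyp.mt ((g : Om n F) : Op n F) = -1
  · obtain ⟨g, hg, hg1⟩ := h
    refine ⟨g, le_antisymm (fun x hx => ?_) (Subgroup.zpowers_le.mpr hg)⟩
    rcases key x hx with e | e
    · rw [show x = 1 from Subtype.ext (op_ext (e.trans rfl))]
      exact one_mem _
    · rw [show x = g from Subtype.ext (op_ext (e.trans hg1.symm))]
      exact Subgroup.mem_zpowers _
  · refine ⟨1, le_antisymm (fun x hx => ?_) (Subgroup.zpowers_le.mpr (one_mem _))⟩
    rcases key x hx with e | e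
    · rw [show x = 1 from Subtype.ext (op_ext (e.trans rfl))]
      exact one_mem _
    · exact absurd ⟨x, hx, e⟩ h

end Bounds

end Cfsg.Agent.H68.ShortPlus
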