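import Cfsg.Agent.H68.ShortSL.Pair
import Cfsg.Agent.H99.CTBlock

/-!
An element of `SL(2,q)` generating with its inverse transpose.
-/

set_option autoImplicit false
set_option linter.unusedSimpArgs false

namespace Cfsg.Agent.H68.ShortPlus

open Matrix Cfsg.Agent.H99.SLThree Cfsg.Agent.H68.ShortSL
open Cfsg.Agent.H99.CT (dflip dflip_coe)
open Cfsg.Agent.H99.ShortPres (eq_pow_of_ne_zero)

variable {F : Type*} [Field F]

local notation "SL2" => Matrix.SpecialLinearGroup (Fin 2) F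

/-- Inverse transpose of `SL(2)`. -/
def tq : SL2 →* SL2 := dflip.comp sw

theorem tq_apply (g : SL2) : (tq g : Matrix (Fin 2) (Fin 2) F)
    = !![(g : Matrix (Fin 2) (Fin 2) F) 1 1, -(g : Matrix (Fin 2) (Fin 2) F) 1 0;
        -(g : Matrix (Fin 2) (Fin 2) F) 0 1, (g : Matrix (Fin 2) (Fin 2) F) 0 0] := by
  rw [tq, MonoidHom.comp_apply, dflip_coe]
  simp only [sw_apply, Equiv.swap_apply_left, Equiv.swap_apply_right]

theorem tq_up (c : F) : tq (up c) = lo (-c) := by
  refine Subtype.ext ?_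
  rw [tq_apply]
  simp [up, lo]

theorem tq_lo (c : F) : tq (lo c) = up (-c) := by
  refine Subtype.ext ?_
  rw [tq_apply]
  simp [up, lo]

theorem tq_dg (a : Fˣ) : tq (dg a) = dg a⁻¹ := by
  refine Subtype.ext ?_
  rw [tq_apply]
  simp [dg]

theorem tq_tq (g : SL2) : tq (tq g) = g := by
  refine Subtype.ext ?_
  rw [tq_apply]
  simp only [tq_apply]
  ext i j
  fin_cases i <;> fin_cases j <;> simp

theorem tq_sw (g : SL2) : tq (sw g) = dflip g := by
  rw [tq, MonoidHom.comp_apply, sw_sw]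

theorem tq_mem {P g : SL2} (h : g ∈ Subgroup.closure ({P, tq P} : Set SL2)) :
    tq g ∈ Subgroup.closure ({P, tq P} : Set SL2) := by
  have := Subgroup.mem_map_of_mem tq h
  rw [MonoidHom.map_closure, Set.image_pair, tq_tq, Set.pair_comm] at this
  exact this

theorem eq_top_of_up_tq {P : SL2} (hu : ∀ c : F, up c ∈ Subgroup.closure ({P, tq P} : Set SL2)) :
    Subgroup.closure ({P, tq P} : Set SL2) = ⊤ :=
  eq_top_of_up _ hu fun c => by
    have := tq_mem (hu (-c))
    rwa [tq_up, neg_neg] at this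

theorem pairTau_prime [Fintype F] (hp : (Fintype.card F).Prime) :
    ∃ P : SL2, Subgroup.closure ({P, tq P} : Set SL2) = ⊤ := by
  obtain ⟨p, hch⟩ := CharP.exists F
  obtain ⟨n, hpp, hn⟩ := FiniteField.card F p
  have := Fact.mk hpp
  have hcard : Fintype.card F = p := by
    rw [hn] at hp ⊢
    rw [Nat.Prime.eq_one_of_pow hp, pow_one]
  refine ⟨up 1, eq_top_of_up_tq fun c => ?_⟩
  let e : ZMod p ≃+* F := ZMod.ringEquiv F (by rw [hcard])
  obtain ⟨z, rfl⟩ := e.surjective c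
  rw [← ZMod.natCast_zmod_val z, map_natCast, ← nsmul_one]
  exact up_nsmul_mem (Subgroup.subset_closure (by simp)) _

/-- `w` reflects one eigenline of a conjugate of `diag(ω, 1/ω)` to the other. -/
theorem pairTau_of_param (ω : Fˣ) (hsp : SpanPowers F ((ω : F) ^ 2)) (i : ℕ) (c : F)
    (hc : c ^ 2 * (1 - ((ω ^ i : Fˣ) : F) ^ 2) = -1) (hw : 1 + ((ω ^ i : Fˣ) : F) ^ 2 ≠ 0)
    (hω2 : (ω : F) ^ 2 ≠ 1) :
    ∃ P : SL2, Subgroup.closure ({P, tq P} : Set SL2) = ⊤ := by
  set P := up c * dg ω * (up c)⁻¹ with hP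
  refine ⟨P, eq_top_of_up_tq ?_⟩
  set H := Subgroup.closure ({P, tq P} : Set SL2) with hH
  set w := ((ω ^ i : Fˣ) : F) with hwdef
  have hw0 : w ≠ 0 := Units.ne_zero _
  have hc0 : c ≠ 0 := by
    rintro rfl
    simp at hc
  have hωne : (ω : F) ≠ 0 := ω.ne_zero
  let N : SL2 := ⟨!![0, -(c * w); (c * w)⁻¹, (1 + w ^ 2) * w⁻¹], by
    simp [Matrix.det_fin_two]; field_simp⟩
  let β : F := ((ω : F) ^ 2 - 1) * (1 + w ^ 2) * (c * w ^ 2)⁻¹
  have hβ : β ≠ 0 := mul_ne_zero (mul_ne_zero (sub_ne_zero.2 hω2) hw)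
    (inv_ne_zero (mul_ne_zero hc0 (pow_ne_zero _ hw0)))
  have hN : tq P ^ i * up c = up c * N := by
    have hdg : ∀ n : ℕ, dg ω⁻¹ ^ n = dg (ω ^ n)⁻¹ := by
      intro n
      induction n with
      | zero => rw [pow_zero, pow_zero, inv_one, dg_one]
      | succ n ih => rw [pow_succ, ih, ← dg_mul, pow_succ, mul_inv]
    rw [hP, map_mul, map_mul, map_inv, tq_up, tq_dg, conj_pow, hdg, mul_assoc, mul_assoc,
      inv_eq_of_mul_eq_one_right (show lo (-c) * lo c = 1 by rw [← lo_add, neg_add_cancel, lo_zero])]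
    refine Subtype.ext ?_
    show (!![1, 0; -c, 1] : Matrix (Fin 2) (Fin 2) F) * (!![(((ω ^ i)⁻¹ : Fˣ) : F), 0; 0,
        (((ω ^ i)⁻¹⁻¹ : Fˣ) : F)] * (!![1, 0; c, 1] * !![1, c; 0, 1]))
      = !![1, c; 0, 1] * !![0, -(c * w); (c * w)⁻¹, (1 + w ^ 2) * w⁻¹]
    simp only [inv_inv, Units.val_inv_eq_inv_val, ← hwdef, Matrix.mul_fin_two]
    ext a b
    fin_cases a <;> fin_cases b <;> simp <;> field_simp <;> first
      | linear_combination hc
      | linear_combination -hc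
      | ring1
  have hQ : tq P ^ i * P * (tq P ^ i)⁻¹ * P = up c * lo β * (up c)⁻¹ := by
    have e : N * dg ω = lo β * dg ω⁻¹ * N := by
      refine Subtype.ext ?_
      show (!![0, -(c * w); (c * w)⁻¹, (1 + w ^ 2) * w⁻¹] : Matrix (Fin 2) (Fin 2) F) *
          !![(ω : F), 0; 0, ((ω⁻¹ : Fˣ) : F)]
        = !![1, 0; β, 1] * !![((ω⁻¹ : Fˣ) : F), 0; 0, ((ω⁻¹⁻¹ : Fˣ) : F)] *
          !![0, -(c * w); (c * w)⁻¹, (1 + w ^ 2) * w⁻¹]
      simp only [inv_inv, Units.val_inv_eq_inv_val, Matrix.mul_fin_two, β]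
      ext a b
      fin_cases a <;> fin_cases b <;> simp <;> field_simp <;> ring
    have h2 : tq P ^ i = up c * N * (up c)⁻¹ := eq_mul_inv_of_mul_eq hN
    have h3 : dg ω⁻¹ = (dg ω)⁻¹ := (dg_inv ω).symm
    rw [h2, hP]
    calc up c * N * (up c)⁻¹ * (up c * dg ω * (up c)⁻¹) * (up c * N * (up c)⁻¹)⁻¹ *
          (up c * dg ω * (up c)⁻¹) = up c * (N * dg ω * N⁻¹ * dg ω) * (up c)⁻¹ := by group
      _ = _ := by rw [e, h3]; group
  have hPm : P ∈ H := Subgroup.subset_closure (by simp)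
  have hSm : tq P ∈ H := Subgroup.subset_closure (by simp)
  have hA : ∀ u : F, up c * lo (u * β) * (up c)⁻¹ ∈ H := by
    refine hsp (fun u => up c * lo (u * β) * (up c)⁻¹ ∈ H) ?_ ?_ ?_
    · rw [zero_mul, lo_zero, mul_one, mul_inv_cancel]; exact H.one_mem
    · intro a b ha hb
      rw [add_mul, lo_add]
      have := H.mul_mem ha hb
      convert this using 1
      group
    · intro n
      have h0 : up c * lo β * (up c)⁻¹ ∈ H := hQ ▸ H.mul_mem
        (H.mul_mem (H.mul_mem (H.pow_mem hSm _) hPm) (H.inv_mem (H.pow_mem hSm _))) hPm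
      induction n with
      | zero => simpa using h0
      | succ n ih =>
        have e : (dg ω)⁻¹ * lo (((ω : F) ^ 2) ^ n * β) * dg ω
            = lo (((ω : F) ^ 2) ^ (n + 1) * β) := by
          rw [mul_assoc, inv_mul_eq_iff_eq_mul]
          refine Subtype.ext ?_
          show (!![1, 0; ((ω : F) ^ 2) ^ n * β, 1] : Matrix (Fin 2) (Fin 2) F) *
              !![(ω : F), 0; 0, ((ω⁻¹ : Fˣ) : F)]
            = !![(ω : F), 0; 0, ((ω⁻¹ : Fˣ) : F)] * !![1, 0; ((ω : F) ^ 2) ^ (n + 1) * β, 1]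
          simp only [Units.val_inv_eq_inv_val, Matrix.mul_fin_two]
          ext a b
          fin_cases a <;> fin_cases b <;> simp
          field_simp
          ring
        rw [← e]
        have := H.mul_mem (H.mul_mem (H.inv_mem hPm) ih) hPm
        convert this using 1
        rw [hP]; group
  intro u
  have hA' : up c * lo (-(u * ((c * w) ^ 2)⁻¹)) * (up c)⁻¹ ∈ H := by
    have := hA (-(u * ((c * w) ^ 2)⁻¹) * β⁻¹)
    rwa [inv_mul_cancel_right₀ hβ] at this
  have e : lo (-(u * ((c * w) ^ 2)⁻¹)) * N = N * up u := by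
    refine Subtype.ext ?_
    show (!![1, 0; -(u * ((c * w) ^ 2)⁻¹), 1] : Matrix (Fin 2) (Fin 2) F) *
        !![0, -(c * w); (c * w)⁻¹, (1 + w ^ 2) * w⁻¹]
      = !![0, -(c * w); (c * w)⁻¹, (1 + w ^ 2) * w⁻¹] * !![1, u; 0, 1]
    simp only [Matrix.mul_fin_two]
    ext a b
    fin_cases a <;> fin_cases b <;> simp
    field_simp
  have := H.mul_mem (H.mul_mem (H.inv_mem (H.pow_mem hSm i)) hA') (H.pow_mem hSm i)
  rw [eq_mul_inv_of_mul_eq hN] at this
  have e' : (up c * N * (up c)⁻¹)⁻¹ * (up c * lo (-(u * ((c * w) ^ 2)⁻¹)) * (up c)⁻¹) *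
      (up c * N * (up c)⁻¹) = up c * up u * (up c)⁻¹ := by
    calc _ = up c * (N⁻¹ * (lo (-(u * ((c * w) ^ 2)⁻¹)) * N)) * (up c)⁻¹ := by group
      _ = _ := by rw [e, inv_mul_cancel_left]
  rw [e', ← up_add, add_comm c u, up_add, mul_inv_cancel_right] at this
  exact this

/-- The generating element over a field with at least four elements, other than nine. -/
theorem pairTau_large [Fintype F] (ω : Fˣ) (hω : ∀ y : Fˣ, y ∈ Subgroup.zpowers ω)
    (hsp : SpanPowers F ((ω : F) ^ 2)) (h : (2 : F) = 0 ∧ 2 < Fintype.card F ∨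
      (2 : F) ≠ 0 ∧ 9 < Fintype.card F) :
    ∃ P : SL2, Subgroup.closure ({P, tq P} : Set SL2) = ⊤ := by
  classical
  have hω2 : (ω : F) ^ 2 ≠ 1 := by
    intro h2
    have h1 : orderOf ω ≤ 2 :=
      Nat.le_of_dvd two_pos (orderOf_dvd_of_pow_eq_one (Units.ext (by push_cast; exact h2)))
    rw [orderOf_eq_card_of_forall_mem_zpowers hω, Nat.card_units, Nat.card_eq_fintype_card] at h1
    rcases h with ⟨h0, hc⟩ | ⟨h0, hc⟩
    · obtain ⟨p, hch⟩ := CharP.exists F
      obtain ⟨n, hpp, hn⟩ := FiniteField.card F p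
      have : p = 2 := ((Nat.prime_dvd_prime_iff_eq hpp Nat.prime_two).1
        ((CharP.cast_eq_zero_iff F p 2).1 (by exact_mod_cast h0)))
      have h3 : Fintype.card F = 3 := by omega
      rw [hn, this] at h3
      have : 2 ∣ 2 ^ (n : ℕ) := dvd_pow_self 2 n.pos.ne'
      omega
    · omega
  suffices ∃ w c : F, w ≠ 0 ∧ c ^ 2 * (1 - w ^ 2) = -1 ∧ 1 + w ^ 2 ≠ 0 by
    obtain ⟨w, c, hw0, hc, hw⟩ := this
    obtain ⟨i, rfl⟩ := eq_pow_of_ne_zero ω hω hw0
    refine pairTau_of_param ω hsp i c ?_ ?_ hω2 <;> rw [Units.val_pow_eq_pow_val] <;> assumption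
  rcases h with ⟨h0, hc⟩ | ⟨h0, hc⟩
  · obtain ⟨a, -, ha⟩ := Finset.exists_mem_notMem_of_card_lt_card
      (s := ({0, 1} : Finset F)) (t := Finset.univ)
      (lt_of_le_of_lt Finset.card_le_two (by rwa [Finset.card_univ]))
    simp only [Finset.mem_insert, Finset.mem_singleton, not_or] at ha
    have h1 : 1 + a ≠ 0 := fun e => ha.2 (by linear_combination e - h0)
    have h1' : 1 + a ^ 2 ≠ 0 := by
      rw [show 1 + a ^ 2 = (1 + a) ^ 2 by linear_combination (-a) * h0]
      exact pow_ne_zero _ h1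
    refine ⟨a, (1 + a)⁻¹, ha.1, ?_, h1'⟩
    field_simp
    linear_combination (1 + a) * h0
  · obtain ⟨a, ha⟩ : ∃ a : F, a ^ 9 ≠ a := by
      by_contra! hall
      have hne : (Polynomial.X ^ 9 - Polynomial.X : Polynomial F) ≠ 0 := by
        intro e
        have := congrArg (fun q => Polynomial.coeff q 9) e
        simp [Polynomial.coeff_X] at this
      have hdeg : (Polynomial.X ^ 9 - Polynomial.X : Polynomial F).natDegree ≤ 9 := by
        compute_degree
      have := Polynomial.card_le_degree_of_subset_roots (p := (Polynomial.X ^ 9 - Polynomial.X :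
        Polynomial F)) (Z := Finset.univ) (fun x _ => by
          rw [Polynomial.mem_roots hne]
          simp [hall x])
      rw [Finset.card_univ] at this
      omega
    have ha0 : a ≠ 0 := by rintro rfl; simp at ha
    have h8 : a ^ 8 ≠ 1 := fun e => ha (by linear_combination a * e)
    have hm : 1 - a ^ 2 ≠ 0 := fun e => h8 (by
      linear_combination (-(1 + a ^ 2) * (1 + a ^ 4)) * e)
    have hp : 1 + a ^ 2 ≠ 0 := fun e => h8 (by
      linear_combination (-(1 - a ^ 2) * (1 + a ^ 4)) * e)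
    have hq : 1 + a ^ 4 ≠ 0 := fun e => h8 (by linear_combination (-(1 - a ^ 4)) * e)
    refine ⟨(1 + a ^ 2) / (1 - a ^ 2), (1 - a ^ 2) / (2 * a), div_ne_zero hp hm, ?_, ?_⟩
    · field_simp; ring
    · rw [show 1 + ((1 + a ^ 2) / (1 - a ^ 2)) ^ 2 = 2 * (1 + a ^ 4) / (1 - a ^ 2) ^ 2 by
        field_simp; ring]
      exact div_ne_zero (mul_ne_zero h0 hq) (pow_ne_zero _ hm)


/-- Scaling the off-diagonal entries. -/
def scale (r : F) (hr0 : r ≠ 0) : SL2 →* SL2 where
  toFun g := ⟨!![(g : Matrix (Fin 2) (Fin 2) F) 0 0, r * (g : Matrix (Fin 2) (Fin 2) F) 0 1;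
      r⁻¹ * (g : Matrix (Fin 2) (Fin 2) F) 1 0, (g : Matrix (Fin 2) (Fin 2) F) 1 1], by
    have := g.2
    rw [Matrix.det_fin_two] at this
    rw [Matrix.det_fin_two_of]
    field_simp
    linear_combination this⟩
  map_one' := Subtype.ext (by ext i j; fin_cases i <;> fin_cases j <;> simp)
  map_mul' g h := Subtype.ext (by
    show _ = !![(g : Matrix (Fin 2) (Fin 2) F) 0 0, r * (g : Matrix (Fin 2) (Fin 2) F) 0 1;
        r⁻¹ * (g : Matrix (Fin 2) (Fin 2) F) 1 0, (g : Matrix (Fin 2) (Fin 2) F) 1 1]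
      * !![(h : Matrix (Fin 2) (Fin 2) F) 0 0, r * (h : Matrix (Fin 2) (Fin 2) F) 0 1;
        r⁻¹ * (h : Matrix (Fin 2) (Fin 2) F) 1 0, (h : Matrix (Fin 2) (Fin 2) F) 1 1]
    ext i j
    fin_cases i <;> fin_cases j <;> simp [Matrix.mul_apply, Fin.sum_univ_two] <;> field_simp)

theorem scale_coe (r : F) (hr0 : r ≠ 0) (g : SL2) :
    (scale r hr0 g : Matrix (Fin 2) (Fin 2) F)
      = !![(g : Matrix (Fin 2) (Fin 2) F) 0 0, r * (g : Matrix (Fin 2) (Fin 2) F) 0 1;
          r⁻¹ * (g : Matrix (Fin 2) (Fin 2) F) 1 0, (g : Matrix (Fin 2) (Fin 2) F) 1 1] := rfl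

/-- A square root of `-1` turns the exchange into the inverse transpose. -/
theorem pairTau_of_root {P : SL2}
    (hP : Subgroup.closure ({P, sw P} : Set SL2) = ⊤) {r : F} (hr : r * r = -1) :
    ∃ P' : SL2, Subgroup.closure ({P', tq P'} : Set SL2) = ⊤ := by
  have hr0 : r ≠ 0 := by rintro rfl; simp at hr
  have hsurj : Function.Surjective (scale r hr0) := fun g => by
    refine ⟨scale r⁻¹ (inv_ne_zero hr0) g, Subtype.ext ?_⟩
    rw [scale_coe, scale_coe]
    ext i j
    fin_cases i <;> fin_cases j <;> simp [hr0]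
  have hri : r⁻¹ = -r := inv_eq_of_mul_eq_one_right (by linear_combination -hr)
  refine ⟨scale r hr0 P, ?_⟩
  have e : scale r hr0 (sw P) = tq (scale r hr0 P) := by
    refine Subtype.ext ?_
    rw [tq_apply, scale_coe, scale_coe]
    simp only [sw_apply, Equiv.swap_apply_left, Equiv.swap_apply_right]
    ext i j
    fin_cases i <;> fin_cases j <;> simp [hri]
  have h := congrArg (Subgroup.map (scale r hr0)) hP
  rwa [MonoidHom.map_closure, Set.image_pair, Subgroup.map_top_of_surjective (scale r hr0) hsurj,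
    e] at h

/-- An element generating with its inverse transpose. -/
theorem exists_pairTau [Fintype F] (ω : Fˣ) (hω : ∀ y : Fˣ, y ∈ Subgroup.zpowers ω)
    (hsp : SpanPowers F ((ω : F) ^ 2)) :
    ∃ P : SL2, Subgroup.closure ({P, tq P} : Set SL2) = ⊤ := by
  by_cases hp : (Fintype.card F).Prime
  · exact pairTau_prime hp
  by_cases h9 : Fintype.card F = 9
  · obtain ⟨P, hP⟩ := pair_nine (F := F) h9
    have hF : (Fintype.card F) % 4 ≠ 3 := by omega
    obtain ⟨r, hr⟩ := FiniteField.isSquare_neg_one_iff.2 hF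
    exact pairTau_of_root hP hr.symm
  refine pairTau_large ω hω hsp ?_
  obtain ⟨p, hch⟩ := CharP.exists F
  obtain ⟨n, hpp, hn⟩ := FiniteField.card F p
  have hn2 : 2 ≤ (n : ℕ) := by
    rcases Nat.lt_or_ge (n : ℕ) 2 with h | h
    · have : (n : ℕ) = 1 := by have := n.pos; omega
      rw [hn, this, pow_one] at hp
      exact absurd hpp hp
    · exact h
  by_cases h2 : (2 : F) = 0
  · refine Or.inl ⟨h2, lt_of_lt_of_le (by norm_num) (hn ▸ le_trans
      (Nat.pow_le_pow_left hpp.two_le 2) (Nat.pow_le_pow_right hpp.pos hn2))⟩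
  · refine Or.inr ⟨h2, ?_⟩
    have hp2 : p ≠ 2 := by
      rintro rfl
      exact h2 (by exact_mod_cast CharP.cast_eq_zero F 2)
    rw [hn] at h9 ⊢
    have hp3 : 3 ≤ p := by have := hpp.two_le; omega
    rcases eq_or_lt_of_le hn2 with h | h
    · rw [← h] at h9 ⊢
      rcases eq_or_lt_of_le hp3 with h' | h'
      · subst h'; norm_num at h9
      · nlinarith
    · calc 9 < 3 ^ 3 := by norm_num
        _ ≤ p ^ 3 := Nat.pow_le_pow_left hp3 3
        _ ≤ p ^ (n : ℕ) := Nat.pow_le_pow_right hpp.pos h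

end Cfsg.Agent.H68.ShortPlus
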