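import Cfsg.Agent.H68.ShortPlus.Blocks
import Cfsg.Agent.H68.ShortSL.Main
import Cfsg.Agent.H99.CTDRoots
import Cfsg.Agent.H99.CTStep

/-!
A copy of `SL(n)` and one more element standing for the double exchange of signs: the relations
and what they give.
-/

set_option autoImplicit false
set_option linter.unusedSimpArgs false
set_option linter.unusedSectionVars false

namespace Cfsg.Agent.H68.ShortPlus

open Matrix Equiv Cfsg.Agent.H68.ShortSL
open Cfsg.Agent.H99.CT (dflip)
open Cfsg.Agent.H99.CTD (el el_coe el_add el_zero el_self el_neg el_comm el_mul Mono wEl la pe Glue)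
open Cfsg.Agent.H99.BoundedPres (muA muA_tv viaA viaA_apply viaA_fix c0 c3 d4 tau4 exists_alt_pair
  exists_alt_extending q4 p3)

variable {F : Type*} [Field F] {k : ℕ} {G : Type*} [Group G]

local notation "SL2" => Matrix.SpecialLinearGroup (Fin 2) F
local notation "SLn" => Matrix.SpecialLinearGroup (Fin (k + 4)) F

/-- A permutation as an element of the group. -/
noncomputable def mu (A : SLn →* G) : alternatingGroup (Fin (k + 4)) →* G := A.comp muA

/-- The even permutation taking the pair `0, 1` to `1, 3`. -/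
def g13 : alternatingGroup (Fin 4) :=
  ⟨swap 0 1 * swap 1 3, by rw [Perm.mem_alternatingGroup]; decide⟩

/-- The relations. -/
structure Rels (A : SLn →* G) (s : G) (P : SL2) : Prop where
  pair : Subgroup.closure ({P, tq P} : Set SL2) = ⊤
  gen : A.range ⊔ Subgroup.zpowers s = ⊤
  stab : ∀ σ : Perm (Fin (k + 2)), Commute s (mu A (tw k σ))
  sq : s * s = 1
  triple : s * (mu A (c0 k) * s * (mu A (c0 k))⁻¹) = (mu A (c0 k))⁻¹ * s * mu A (c0 k)
  far : Commute s (A (blk (q4 k 2) (q4 k 3) P))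
  act : s * A (blk (q4 k 0) (q4 k 1) P) * s⁻¹ = A (blk (q4 k 0) (q4 k 1) (tq P))
  mixed : Commute (A (blk (q4 k 0) (q4 k 1) P))
    (mu A (c0 k) * s * (mu A (c0 k))⁻¹ * A (blk (q4 k 0) (q4 k 1) P) *
      (mu A (c0 k) * s * (mu A (c0 k))⁻¹))
  quad : k = 0 → Commute (A (blk (q4 k 0) (q4 k 1) P))
    (mu A (viaA (q4 k) g13) * s * (mu A (viaA (q4 k) g13))⁻¹ * A (blk (q4 k 2) (q4 k 3) P) *
      (mu A (viaA (q4 k) g13) * s * (mu A (viaA (q4 k) g13))⁻¹))

theorem exists_ne_three (a b c : Fin (k + 4)) : ∃ x, x ≠ a ∧ x ≠ b ∧ x ≠ c := by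
  obtain ⟨x, -, hx⟩ := Finset.exists_mem_notMem_of_card_lt_card
    (s := ({a, b, c} : Finset (Fin (k + 4)))) (t := Finset.univ)
    (lt_of_le_of_lt Finset.card_le_three (by simp))
  simp only [Finset.mem_insert, Finset.mem_singleton, not_or] at hx
  exact ⟨x, hx⟩

theorem q4_ne {x y : Fin 4} (h : x ≠ y) : q4 k x ≠ q4 k y := (q4 k).injective.ne h

theorem c0_maps : (c0 k : Perm (Fin (k + 4))) (q4 k 0) = q4 k 1 ∧
    (c0 k : Perm (Fin (k + 4))) (q4 k 1) = q4 k 2 ∧
    (c0 k : Perm (Fin (k + 4))) (q4 k 2) = q4 k 0 := by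
  have e : ∀ i : Fin 3, q4 k i.castSucc = p3 k i := fun i => Fin.ext rfl
  refine ⟨?_, ?_, ?_⟩
  · rw [show (0 : Fin 4) = (0 : Fin 3).castSucc from rfl,
      show (1 : Fin 4) = (1 : Fin 3).castSucc from rfl, e, e, c0, viaA_apply]
    rfl
  · rw [show (1 : Fin 4) = (1 : Fin 3).castSucc from rfl,
      show (2 : Fin 4) = (2 : Fin 3).castSucc from rfl, e, e, c0, viaA_apply]
    rfl
  · rw [show (0 : Fin 4) = (0 : Fin 3).castSucc from rfl,
      show (2 : Fin 4) = (2 : Fin 3).castSucc from rfl, e, e, c0, viaA_apply]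
    rfl

theorem exists_alt_four {a b c d : Fin (k + 4)} (hab : a ≠ b) (hac : a ≠ c) (had : a ≠ d)
    (hbc : b ≠ c) (hbd : b ≠ d) (hcd : c ≠ d) :
    ∃ g : alternatingGroup (Fin (k + 4)), (g : Perm _) (q4 k 2) = c ∧ (g : Perm _) (q4 k 3) = d ∧
      (((g : Perm _) (q4 k 0) = a ∧ (g : Perm _) (q4 k 1) = b) ∨
        ((g : Perm _) (q4 k 0) = b ∧ (g : Perm _) (q4 k 1) = a)) := by
  obtain ⟨g, hg⟩ := exists_alt_extending (q4 k)
    ⟨![a, b, c, d], by
      intro i j
      fin_cases i <;> fin_cases j <;>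
        simp [hab, hac, had, hbc, hbd, hcd, hab.symm, hac.symm, had.symm, hbc.symm, hbd.symm,
          hcd.symm]⟩ (q4 k 0) (q4 k 1) (q4_ne (by decide))
  rcases hg with hg | hg
  · exact ⟨g, hg 2, hg 3, Or.inl ⟨hg 0, hg 1⟩⟩
  · have h0 := hg 0
    have h1 := hg 1
    have h2 := hg 2
    have h3 := hg 3
    rw [swap_apply_left] at h0
    rw [swap_apply_right] at h1
    rw [swap_apply_of_ne_of_ne (q4_ne (by decide)) (q4_ne (by decide))] at h2 h3
    exact ⟨g, h2, h3, Or.inr ⟨h1, h0⟩⟩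

open scoped Classical in
/-- The exchange of signs at two coordinates. -/
noncomputable def S (A : SLn →* G) (s : G) (a b : Fin (k + 4)) : G :=
  if h : ∃ g : alternatingGroup (Fin (k + 4)), (g : Perm _) (q4 k 0) = a ∧ (g : Perm _) (q4 k 1) = b
  then mu A h.choose * s * (mu A h.choose)⁻¹ else 1

/-- The block on the sum of two coordinates, seen through a third one. -/
noncomputable def Bk (A : SLn →* G) (s : G) (a b x : Fin (k + 4)) (y : SL2) : G :=
  S A s b x * A (blk a b y) * S A s b x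

variable {A : Matrix.SpecialLinearGroup (Fin (k + 4)) F →* G} {s : G}
  {P : Matrix.SpecialLinearGroup (Fin 2) F} (R : Rels A s P)

include R in
theorem S_eq (g : alternatingGroup (Fin (k + 4))) :
    S A s ((g : Perm _) (q4 k 0)) ((g : Perm _) (q4 k 1)) = mu A g * s * (mu A g)⁻¹ := by
  have h : ∃ t : alternatingGroup (Fin (k + 4)), (t : Perm _) (q4 k 0) = (g : Perm _) (q4 k 0) ∧
      (t : Perm _) (q4 k 1) = (g : Perm _) (q4 k 1) := ⟨g, rfl, rfl⟩
  rw [S, dif_pos h]
  obtain ⟨e0, e1⟩ := h.choose_spec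
  generalize h.choose = t at e0 e1 ⊢
  obtain ⟨σ, -, hσ⟩ := exists_tw k (g⁻¹ * t)
    (by rw [Subgroup.coe_mul, Perm.mul_apply, e0]; exact (g : Perm (Fin (k + 4))).symm_apply_apply _)
    (by rw [Subgroup.coe_mul, Perm.mul_apply, e1]; exact (g : Perm (Fin (k + 4))).symm_apply_apply _)
  have e : mu A t = mu A g * mu A (g⁻¹ * t) := by rw [← map_mul, mul_inv_cancel_left]
  rw [e, _root_.mul_inv_rev, mul_assoc (mu A g) _ s, ← hσ, ← (R.stab σ).eq]
  simp [mul_assoc]

include R in
theorem S_base : S A s (q4 k 0) (q4 k 1) = s := by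
  simpa using S_eq R 1

theorem S_self (a : Fin (k + 4)) : S A s a a = 1 := by
  rw [S, dif_neg]
  rintro ⟨g, h0, h1⟩
  exact absurd ((q4 k).injective ((g : Perm _).injective (h0.trans h1.symm))) (by decide)

include R in
theorem S_conj (g : alternatingGroup (Fin (k + 4))) (a b : Fin (k + 4)) :
    mu A g * S A s a b * (mu A g)⁻¹ = S A s ((g : Perm _) a) ((g : Perm _) b) := by
  by_cases h : a = b
  · subst h; rw [S_self, S_self, mul_one, mul_inv_cancel]
  obtain ⟨t, rfl, rfl⟩ := exists_alt_pair h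
  rw [S_eq R, ← Perm.mul_apply, ← Perm.mul_apply, ← Subgroup.coe_mul, S_eq R, map_mul]
  simp [mul_assoc]

include R in
theorem S_comm (a b : Fin (k + 4)) : S A s a b = S A s b a := by
  by_cases h : a = b
  · rw [h]
  obtain ⟨g, rfl, rfl⟩ := exists_alt_pair h
  have h0 := tw_inl k (swap 0 1) 0
  have h1 := tw_inl k (swap 0 1) 1
  rw [Perm.sign_swap (by simp), q2_zero] at h0
  rw [Perm.sign_swap (by simp), q2_one] at h1
  change _ = q2 k 1 at h0
  change _ = q2 k 0 at h1
  rw [q2_one] at h0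
  rw [q2_zero] at h1
  have h2 := S_eq R (g * tw k (swap 0 1))
  rw [Subgroup.coe_mul, Perm.mul_apply, Perm.mul_apply, h0, h1] at h2
  rw [S_eq R, h2, map_mul, _root_.mul_inv_rev, mul_assoc (mu A g) _ s, ← (R.stab (swap 0 1)).eq]
  simp [mul_assoc]

include R in
theorem S_sq (a b : Fin (k + 4)) : S A s a b * S A s a b = 1 := by
  by_cases h : a = b
  · subst h; rw [S_self, mul_one]
  obtain ⟨g, rfl, rfl⟩ := exists_alt_pair h
  rw [S_eq R]
  calc mu A g * s * (mu A g)⁻¹ * (mu A g * s * (mu A g)⁻¹) = mu A g * (s * s) * (mu A g)⁻¹ := by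
        group
    _ = 1 := by rw [R.sq, mul_one, mul_inv_cancel]

include R in
theorem S_inv (a b : Fin (k + 4)) : (S A s a b)⁻¹ = S A s a b :=
  inv_eq_of_mul_eq_one_right (S_sq R a b)

include R in
theorem S_triple {a b c : Fin (k + 4)} (hab : a ≠ b) (hbc : b ≠ c) (hac : a ≠ c) :
    S A s a b * S A s b c = S A s a c := by
  obtain ⟨c01, c12, c20⟩ := c0_maps (k := k)
  have hbase : S A s (q4 k 0) (q4 k 1) * S A s (q4 k 1) (q4 k 2)
      = S A s (q4 k 0) (q4 k 2) := by
    have e1 : S A s (q4 k 1) (q4 k 2) = mu A (c0 k) * s * (mu A (c0 k))⁻¹ := by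
      rw [← S_eq R (c0 k), c01, c12]
    have e2 : S A s (q4 k 0) (q4 k 2) = (mu A (c0 k))⁻¹ * s * mu A (c0 k) := by
      have h0 : ((c0 k)⁻¹ : alternatingGroup _).1 (q4 k 0) = q4 k 2 := by
        rw [Subgroup.coe_inv, Perm.inv_eq_iff_eq]; exact c20.symm
      have h1 : ((c0 k)⁻¹ : alternatingGroup _).1 (q4 k 1) = q4 k 0 := by
        rw [Subgroup.coe_inv, Perm.inv_eq_iff_eq]; exact c01.symm
      have := S_eq R (c0 k)⁻¹
      rw [h0, h1, map_inv, inv_inv] at this
      rw [S_comm R, this]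
    rw [S_base R, e1, e2]
    exact R.triple
  obtain ⟨x, hxa, hxb, hxc⟩ := exists_ne_three a b c
  obtain ⟨g, g2, -, hg⟩ := exists_alt_four hab hac hxa.symm hbc hxb.symm hxc.symm
  have h := congrArg (fun z => mu A g * z * (mu A g)⁻¹) hbase
  simp only [← conj_mul, S_conj R] at h
  rw [g2] at h
  rcases hg with ⟨g0, g1⟩ | ⟨g0, g1⟩ <;> rw [g0, g1] at h
  · exact h
  · rw [← h, ← mul_assoc, S_comm R b a, S_sq R, one_mul]

include R in
theorem S_commute_share {a b c : Fin (k + 4)} (hbc : b ≠ c) :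
    Commute (S A s a b) (S A s a c) := by
  by_cases hab : a = b
  · subst hab; rw [S_self]; exact Commute.one_left _
  by_cases hac : a = c
  · subst hac; rw [S_self]; exact Commute.one_right _
  show _ = _
  rw [S_comm R a b, S_triple R (Ne.symm hab) hac hbc, S_comm R b a, S_comm R a c,
    S_triple R (Ne.symm hac) hab hbc.symm, S_comm R c b]

include R in
theorem S_commute (a b c d : Fin (k + 4)) : Commute (S A s a b) (S A s c d) := by
  have hpt : ∀ a b c, Commute (S A s a b) (S A s a c) := fun a b c => by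
    by_cases h : b = c
    · rw [h]
    · exact S_commute_share R h
  by_cases hac : a = c
  · subst hac; exact hpt a b d
  by_cases hbd : b = d
  · subst hbd; rw [S_comm R a b, S_comm R c b]; exact hpt b a c
  by_cases had : a = d
  · subst had; rw [S_comm R c a]; exact hpt a b c
  by_cases hbc : b = c
  · subst hbc; rw [S_comm R a b]; exact hpt b a d
  by_cases hab : a = b
  · subst hab; rw [S_self]; exact Commute.one_left _
  rw [← S_triple R hac (Ne.symm hbc) hab]
  refine Commute.mul_left ?_ ?_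
  · rw [S_comm R a c]; exact hpt c a d
  · exact hpt c b d

include R in
theorem S_act {a b : Fin (k + 4)} (h : a ≠ b) (y : SL2) :
    S A s a b * A (blk a b y) * S A s a b = A (blk a b (tq y)) := by
  have hsi : s⁻¹ = s := inv_eq_of_mul_eq_one_right R.sq
  have h01 : q4 k 0 ≠ q4 k 1 := q4_ne (by decide)
  have e : (MulAut.conj s).toMonoidHom.comp (A.comp (blk (q4 k 0) (q4 k 1)))
      = (A.comp (blk (q4 k 0) (q4 k 1))).comp tq := by
    refine MonoidHom.eq_of_eqOn_dense R.pair ?_
    rintro _ (rfl | rfl)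
    · exact R.act
    · show s * A (blk _ _ (tq P)) * s⁻¹ = A (blk _ _ (tq (tq P)))
      rw [tq_tq, ← R.act, hsi]
      calc s * (s * A (blk (q4 k 0) (q4 k 1) P) * s) * s
          = (s * s) * A (blk (q4 k 0) (q4 k 1) P) * (s * s) := by simp only [mul_assoc]
        _ = _ := by rw [R.sq, one_mul, mul_one]
  have hb : s * A (blk (q4 k 0) (q4 k 1) y) * s = A (blk (q4 k 0) (q4 k 1) (tq y)) := by
    have := DFunLike.congr_fun e y
    change s * _ * s⁻¹ = _ at this
    rw [hsi] at this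
    exact this
  obtain ⟨g, rfl, rfl⟩ := exists_alt_pair h
  have hm : ∀ z, A (blk ((g : Perm _) (q4 k 0)) ((g : Perm _) (q4 k 1)) z)
      = mu A g * A (blk (q4 k 0) (q4 k 1) z) * (mu A g)⁻¹ := fun z => by
    rw [← muA_blk' g h01, map_mul, map_mul, map_inv]; rfl
  rw [S_eq R, hm, hm, ← hb]
  group

include R in
theorem S_far {a b c d : Fin (k + 4)} (hab : a ≠ b) (hac : a ≠ c) (had : a ≠ d) (hbc : b ≠ c)
    (hbd : b ≠ d) (hcd : c ≠ d) (y : SL2) : Commute (S A s a b) (A (blk c d y)) := by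
  have hq : ∀ x y : Fin 4, x ≠ y → q4 k x ≠ q4 k y := fun _ _ => q4_ne
  have hsi : s⁻¹ = s := inv_eq_of_mul_eq_one_right R.sq
  have e : (MulAut.conj s).toMonoidHom.comp (A.comp (blk (q4 k 2) (q4 k 3)))
      = A.comp (blk (q4 k 2) (q4 k 3)) := by
    refine MonoidHom.eq_of_eqOn_dense R.pair ?_
    rintro _ (rfl | rfl)
    · exact mul_inv_eq_iff_eq_mul.mpr R.far
    · show s * A (blk _ _ (tq P)) * s⁻¹ = A (blk _ _ (tq P))
      rw [mul_inv_eq_iff_eq_mul]
      show Commute s _
      rw [← S_act R (hq 2 3 (by decide))]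
      have hc : Commute s (S A s (q4 k 2) (q4 k 3)) := by
        have := S_commute R (q4 k 0) (q4 k 1) (q4 k 2) (q4 k 3)
        rwa [S_base R] at this
      exact (hc.mul_right R.far).mul_right hc
  have hb : Commute s (A (blk (q4 k 2) (q4 k 3) y)) :=
    mul_inv_eq_iff_eq_mul.mp (DFunLike.congr_fun e y)
  obtain ⟨g, g2, g3, hg⟩ := exists_alt_four hab hac had hbc hbd hcd
  have h' := hb.map (MulAut.conj (mu A g)).toMonoidHom
  simp only [MulEquiv.toMonoidHom_eq_coe, MonoidHom.coe_coe, MulAut.conj_apply] at h'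
  have hm : mu A g * A (blk (q4 k 2) (q4 k 3) y) * (mu A g)⁻¹ = A (blk c d y) := by
    rw [← g2, ← g3, ← muA_blk' g (hq 2 3 (by decide)), map_mul, map_mul, map_inv]; rfl
  rw [← S_eq R, hm] at h'
  rcases hg with ⟨g0, g1⟩ | ⟨g0, g1⟩ <;> rw [g0, g1] at h'
  · exact h'
  · rw [S_comm R]; exact h'

include R in
theorem S_fix_el {a b c d : Fin (k + 4)} (hac : a ≠ c) (had : a ≠ d) (hbc : b ≠ c)
    (hbd : b ≠ d) (t : F) : S A s a b * A (el c d t) * S A s a b = A (el c d t) := by
  have hc : Commute (S A s a b) (A (el c d t)) := by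
    by_cases hab : a = b
    · subst hab; rw [S_self]; exact Commute.one_left _
    by_cases hcd : c = d
    · subst hcd; rw [el_self, map_one]; exact Commute.one_right _
    rw [← blk_up hcd]
    exact S_far R hab hac had hbc hbd hcd _
  rw [hc.eq, mul_assoc, S_sq R, mul_one]

include R in
theorem Bk_indep {a b x x' : Fin (k + 4)} (hab : a ≠ b) (hxa : x ≠ a) (hxb : x ≠ b)
    (hxa' : x' ≠ a) (hxb' : x' ≠ b) (y : SL2) : Bk A s a b x y = Bk A s a b x' y := by
  by_cases h : x = x'
  · rw [h]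
  have hf : S A s x x' * A (blk a b y) * S A s x x' = A (blk a b y) := by
    rw [(S_far R h hxa hxb hxa' hxb' hab y).eq, mul_assoc, S_sq R, mul_one]
  rw [Bk, Bk, ← S_triple R (Ne.symm hxb) h (Ne.symm hxb')]
  calc S A s b x * A (blk a b y) * S A s b x
      = S A s b x * (S A s x x' * A (blk a b y) * S A s x x') * S A s b x := by rw [hf]
    _ = _ := by
      conv_rhs => arg 2; rw [(S_commute R b x x x').eq]
      simp only [mul_assoc]

include R in
theorem Bk_left {a b x : Fin (k + 4)} (hab : a ≠ b) (hxa : x ≠ a) (hxb : x ≠ b) (y : SL2) :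
    S A s a x * A (blk a b y) * S A s a x = Bk A s a b x (tq y) := by
  rw [Bk, ← S_act R hab, ← S_triple R hab (Ne.symm hxb) (Ne.symm hxa)]
  conv_lhs => arg 1; arg 1; rw [(S_commute R a b b x).eq]
  simp only [mul_assoc]

include R in
theorem Bk_conj (g : alternatingGroup (Fin (k + 4))) {a b : Fin (k + 4)} (hab : a ≠ b)
    (x : Fin (k + 4)) (y : SL2) : mu A g * Bk A s a b x y * (mu A g)⁻¹
      = Bk A s ((g : Perm _) a) ((g : Perm _) b) ((g : Perm _) x) y := by
  rw [Bk, Bk, ← conj_mul, ← conj_mul, S_conj R]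
  congr 2
  rw [← muA_blk' g hab, map_mul, map_mul, map_inv]; rfl

/-- The block on a sum of two coordinates as a homomorphism. -/
noncomputable def BkHom (R : Rels A s P) (a b x : Fin (k + 4)) : SL2 →* G where
  toFun := Bk A s a b x
  map_one' := by rw [Bk, map_one, map_one, mul_one, S_sq R]
  map_mul' y z := by
    rw [Bk, Bk, Bk, map_mul, map_mul]
    calc S A s b x * (A (blk a b y) * A (blk a b z)) * S A s b x
        = S A s b x * A (blk a b y) * 1 * A (blk a b z) * S A s b x := by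
          simp only [mul_assoc, one_mul]
      _ = _ := by
          rw [← S_sq R b x]
          simp only [mul_assoc]

include R in
theorem mixed_all {a b x : Fin (k + 4)} (hab : a ≠ b) (hxa : x ≠ a) (hxb : x ≠ b) (u v : SL2) :
    Commute (A (blk a b u)) (Bk A s a b x v) := by
  have hq : ∀ x y : Fin 4, x ≠ y → q4 k x ≠ q4 k y := fun _ _ => q4_ne
  obtain ⟨c01, c12, -⟩ := c0_maps (k := k)
  have h01 := hq 0 1 (by decide)
  have h02 := hq 2 0 (by decide)
  have h12 := hq 2 1 (by decide)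
  have e12 : S A s (q4 k 1) (q4 k 2) = mu A (c0 k) * s * (mu A (c0 k))⁻¹ := by
    rw [← S_eq R (c0 k), c01, c12]
  set C : SL2 → SL2 → Prop := fun u v =>
    Commute (A (blk (q4 k 0) (q4 k 1) u)) (Bk A s (q4 k 0) (q4 k 1) (q4 k 2) v) with hC
  have h00 : C P P := by
    show Commute _ (S A s _ _ * _ * S A s _ _)
    rw [e12]; exact R.mixed
  have hswap : ∀ u v, C u v → C v u := by
    intro u v h
    have h' := (h.map (MulAut.conj (S A s (q4 k 1) (q4 k 2))).toMonoidHom).symm
    simp only [MulEquiv.toMonoidHom_eq_coe, MonoidHom.coe_coe, MulAut.conj_apply, S_inv R] at h'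
    have e : S A s (q4 k 1) (q4 k 2) * Bk A s (q4 k 0) (q4 k 1) (q4 k 2) v *
        S A s (q4 k 1) (q4 k 2) = A (blk (q4 k 0) (q4 k 1) v) := by
      rw [Bk]
      simp only [← mul_assoc, S_sq R, one_mul]
      rw [mul_assoc, S_sq R, mul_one]
    rw [e] at h'
    exact h'
  have hs01 : ∀ u v, C u v → C (tq u) (tq v) := by
    intro u v h
    have h' := h.map (MulAut.conj (S A s (q4 k 0) (q4 k 1))).toMonoidHom
    simp only [MulEquiv.toMonoidHom_eq_coe, MonoidHom.coe_coe, MulAut.conj_apply, S_inv R,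
      S_act R h01] at h'
    have e : S A s (q4 k 0) (q4 k 1) * Bk A s (q4 k 0) (q4 k 1) (q4 k 2) v *
        S A s (q4 k 0) (q4 k 1) = Bk A s (q4 k 0) (q4 k 1) (q4 k 2) (tq v) := by
      rw [Bk, Bk, ← S_act R h01]
      have hc := (S_commute R (q4 k 0) (q4 k 1) (q4 k 1) (q4 k 2)).eq
      calc _ = (S A s (q4 k 0) (q4 k 1) * S A s (q4 k 1) (q4 k 2)) * A (blk (q4 k 0) (q4 k 1) v) *
            (S A s (q4 k 1) (q4 k 2) * S A s (q4 k 0) (q4 k 1)) := by simp only [mul_assoc]
        _ = _ := by rw [← hc]; conv_lhs => arg 1; arg 1; rw [hc]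
                    simp only [mul_assoc]
    rw [e] at h'
    exact h'
  have hdh : ∀ u v, C u v → C (dflip (sw u)) v := by
    intro u v h
    set d := tw k (swap 0 1) with hd
    have hd0 : (d : Perm (Fin (k + 4))) (q4 k 0) = q4 k 1 := by
      have := tw_inl k (swap 0 1) 0
      rw [Perm.sign_swap (by simp), q2_zero] at this
      exact this.trans (q2_one k)
    have hd1 : (d : Perm (Fin (k + 4))) (q4 k 1) = q4 k 0 := by
      have := tw_inl k (swap 0 1) 1
      rw [Perm.sign_swap (by simp), q2_one] at this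
      exact this.trans (q2_zero k)
    have hd2 : (d : Perm (Fin (k + 4))) (q4 k 2) = q4 k 3 := by
      have := tw_inr k (swap 0 1) 0
      rw [swap_apply_left] at this
      exact this
    have h' := h.map (MulAut.conj (mu A d)).toMonoidHom
    simp only [MulEquiv.toMonoidHom_eq_coe, MonoidHom.coe_coe, MulAut.conj_apply, Bk_conj R d h01,
      hd0, hd1, hd2] at h'
    have em : mu A d * A (blk (q4 k 0) (q4 k 1) u) * (mu A d)⁻¹
        = A (blk (q4 k 0) (q4 k 1) (sw u)) := by
      rw [← blk_swap h01, show blk (q4 k 1) (q4 k 0) u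
        = muA d * blk (q4 k 0) (q4 k 1) u * (muA d)⁻¹ by rw [muA_blk' d h01, hd0, hd1],
        map_mul, map_mul, map_inv]
      rfl
    rw [em, Bk, blk_swap h01] at h'
    change Commute _ (S A s _ _ * _ * S A s _ _) at h'
    rw [Bk_left R h01 (hq 3 0 (by decide)) (hq 3 1 (by decide)),
      Bk_indep R h01 (hq 3 0 (by decide)) (hq 3 1 (by decide)) h02 h12, tq_sw] at h'
    have hh := h'.map (MulAut.conj (A (blk (q4 k 1) (q4 k 2) (dg (-1))))).toMonoidHom
    simp only [MulEquiv.toMonoidHom_eq_coe, MonoidHom.coe_coe, MulAut.conj_apply] at hh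
    have eA : ∀ z, A (blk (q4 k 1) (q4 k 2) (dg (-1))) * A (blk (q4 k 0) (q4 k 1) z) *
        (A (blk (q4 k 1) (q4 k 2) (dg (-1))))⁻¹ = A (blk (q4 k 0) (q4 k 1) (dflip z)) := fun z => by
      rw [← map_mul, ← map_inv, ← map_mul, blk_neg_one_conj h01 h02.symm h12.symm]
    have eS : Commute (A (blk (q4 k 1) (q4 k 2) (dg (-1)))) (S A s (q4 k 1) (q4 k 2)) := by
      have := S_act R (A := A) h12.symm (dg (-1))
      rw [tq_dg, inv_neg, inv_one] at this
      calc A (blk (q4 k 1) (q4 k 2) (dg (-1))) * S A s (q4 k 1) (q4 k 2)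
          = S A s (q4 k 1) (q4 k 2) * A (blk (q4 k 1) (q4 k 2) (dg (-1))) *
              S A s (q4 k 1) (q4 k 2) * S A s (q4 k 1) (q4 k 2) := by rw [this]
        _ = _ := by rw [mul_assoc _ (S A s _ _) (S A s _ _), S_sq R, mul_one]
    have eB : A (blk (q4 k 1) (q4 k 2) (dg (-1))) * Bk A s (q4 k 0) (q4 k 1) (q4 k 2) (dflip v) *
        (A (blk (q4 k 1) (q4 k 2) (dg (-1))))⁻¹ = Bk A s (q4 k 0) (q4 k 1) (q4 k 2) v := by
      rw [Bk, Bk, ← conj_mul, ← conj_mul, eA, dflip_dflip, eS.eq, mul_inv_cancel_right]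
    rw [eA, eB] at hh
    exact hh
  have hgen : ∀ u v, (u = P ∨ u = tq P) → (v = P ∨ v = tq P) → C u v := by
    have h10 : C (tq P) P := by
      have := hdh P P h00
      rwa [← tq_sw, sw_sw] at this
    rintro u v (rfl | rfl) (rfl | rfl)
    · exact h00
    · exact hswap _ _ h10
    · exact h10
    · exact hs01 _ _ h00
  have hall : ∀ u v, C u v := by
    intro u v
    have hu : u ∈ Subgroup.closure ({P, tq P} : Set SL2) := by rw [R.pair]; trivial
    have hv : v ∈ Subgroup.closure ({P, tq P} : Set SL2) := by rw [R.pair]; trivial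
    let B0 := BkHom R (q4 k 0) (q4 k 1) (q4 k 2)
    show Commute _ (B0 v)
    induction hu using Subgroup.closure_induction with
    | mem u hu =>
      induction hv using Subgroup.closure_induction with
      | mem v hv => exact hgen u v hu hv
      | one => rw [map_one B0]; exact Commute.one_right _
      | mul x y _ _ hx hy => rw [map_mul]; exact hx.mul_right hy
      | inv x _ hx => rw [map_inv]; exact hx.inv_right
    | one => rw [map_one (blk _ _), map_one A]; exact Commute.one_left _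
    | mul x y _ _ hx hy => rw [map_mul, map_mul]; exact hx.mul_left hy
    | inv x _ hx => rw [map_inv, map_inv]; exact hx.inv_left
  obtain ⟨g, rfl, rfl⟩ := exists_alt_pair hab
  have h' := (hall u v).map (MulAut.conj (mu A g)).toMonoidHom
  simp only [MulEquiv.toMonoidHom_eq_coe, MonoidHom.coe_coe, MulAut.conj_apply,
    Bk_conj R g h01] at h'
  have hg2 : ∀ i : Fin 4, i ≠ 2 → (g : Perm _) (q4 k 2) ≠ (g : Perm _) (q4 k i) := fun i hi =>
    (g : Perm _).injective.ne (hq 2 i (Ne.symm hi))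
  rw [Bk_indep R hab (hg2 0 (by decide)) (hg2 1 (by decide)) hxa hxb] at h'
  have hm : mu A g * A (blk (q4 k 0) (q4 k 1) u) * (mu A g)⁻¹
      = A (blk ((g : Perm _) (q4 k 0)) ((g : Perm _) (q4 k 1)) u) := by
    rw [← muA_blk' g h01, map_mul, map_mul, map_inv]; rfl
  rw [hm] at h'
  exact h'

include R in
theorem cross {i j a b x : Fin (k + 4)} (hij : i ≠ j) (hab : a ≠ b) (hia : i ≠ a) (hib : i ≠ b)
    (hja : j ≠ a) (hjb : j ≠ b) (hxa : x ≠ a) (hxb : x ≠ b) (u v : SL2) :
    Commute (A (blk i j u)) (Bk A s a b x v) := by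
  by_cases hout : ∃ y, y ≠ i ∧ y ≠ j ∧ y ≠ a ∧ y ≠ b
  · obtain ⟨y, hyi, hyj, hya, hyb⟩ := hout
    rw [Bk_indep R hab hxa hxb hya hyb, Bk]
    have hS : Commute (A (blk i j u)) (S A s b y) :=
      (S_far R hyb.symm hib.symm hjb.symm hyi hyj hij u).symm
    exact (hS.mul_right ((blk_comm hij hab hia hib hja hjb u v).map A)).mul_right hS
  have hk : k = 0 := by
    by_contra hk
    obtain ⟨y, -, hy⟩ := Finset.exists_mem_notMem_of_card_lt_card
      (s := ({i, j, a, b} : Finset (Fin (k + 4)))) (t := Finset.univ)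
      (lt_of_le_of_lt Finset.card_le_four (by simp; omega))
    simp only [Finset.mem_insert, Finset.mem_singleton, not_or] at hy
    exact hout ⟨y, hy⟩
  have hq : ∀ x y : Fin 4, x ≠ y → q4 k x ≠ q4 k y := fun _ _ => q4_ne
  have h01 := hq 0 1 (by decide)
  have h23 := hq 2 3 (by decide)
  have g0 : (viaA (q4 k) g13 : Perm (Fin (k + 4))) (q4 k 0) = q4 k 1 := by rw [viaA_apply]; rfl
  have g1 : (viaA (q4 k) g13 : Perm (Fin (k + 4))) (q4 k 1) = q4 k 3 := by rw [viaA_apply]; rfl
  have e13 : S A s (q4 k 1) (q4 k 3)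
      = mu A (viaA (q4 k) g13) * s * (mu A (viaA (q4 k) g13))⁻¹ := by
    rw [← S_eq R, g0, g1]
  set C : SL2 → SL2 → Prop := fun u v =>
    Commute (A (blk (q4 k 0) (q4 k 1) u)) (Bk A s (q4 k 2) (q4 k 3) (q4 k 1) v) with hC
  have h00 : C P P := by
    show Commute _ (S A s (q4 k 3) (q4 k 1) * _ * S A s (q4 k 3) (q4 k 1))
    rw [S_comm R, e13]; exact R.quad hk
  have hleft : ∀ u v, C u v → C (tq u) v := by
    intro u v h
    have h' := h.map (MulAut.conj (S A s (q4 k 0) (q4 k 1))).toMonoidHom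
    simp only [MulEquiv.toMonoidHom_eq_coe, MonoidHom.coe_coe, MulAut.conj_apply, S_inv R,
      S_act R h01] at h'
    have e : S A s (q4 k 0) (q4 k 1) * Bk A s (q4 k 2) (q4 k 3) (q4 k 1) v *
        S A s (q4 k 0) (q4 k 1) = Bk A s (q4 k 2) (q4 k 3) (q4 k 1) v := by
      have hc : Commute (S A s (q4 k 0) (q4 k 1)) (Bk A s (q4 k 2) (q4 k 3) (q4 k 1) v) :=
        ((S_commute R _ _ _ _).mul_right (S_far R h01 (hq 0 2 (by decide)) (hq 0 3 (by decide))
          (hq 1 2 (by decide)) (hq 1 3 (by decide)) h23 v)).mul_right (S_commute R _ _ _ _)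
      rw [hc.eq, mul_assoc, S_sq R, mul_one]
    rw [e] at h'
    exact h'
  have hright : ∀ u v, C u v → C u (tq v) := by
    intro u v h
    have h' := h.map (MulAut.conj (S A s (q4 k 2) (q4 k 3))).toMonoidHom
    simp only [MulEquiv.toMonoidHom_eq_coe, MonoidHom.coe_coe, MulAut.conj_apply, S_inv R] at h'
    have e1 : S A s (q4 k 2) (q4 k 3) * A (blk (q4 k 0) (q4 k 1) u) * S A s (q4 k 2) (q4 k 3)
        = A (blk (q4 k 0) (q4 k 1) u) := by
      rw [(S_far R h23 (hq 2 0 (by decide)) (hq 2 1 (by decide)) (hq 3 0 (by decide))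
        (hq 3 1 (by decide)) h01 u).eq, mul_assoc, S_sq R, mul_one]
    have e2 : S A s (q4 k 2) (q4 k 3) * Bk A s (q4 k 2) (q4 k 3) (q4 k 1) v *
        S A s (q4 k 2) (q4 k 3) = Bk A s (q4 k 2) (q4 k 3) (q4 k 1) (tq v) := by
      rw [Bk, Bk, ← S_act R h23]
      have hc := (S_commute R (q4 k 2) (q4 k 3) (q4 k 3) (q4 k 1)).eq
      calc _ = (S A s (q4 k 2) (q4 k 3) * S A s (q4 k 3) (q4 k 1)) * A (blk (q4 k 2) (q4 k 3) v) *
            (S A s (q4 k 3) (q4 k 1) * S A s (q4 k 2) (q4 k 3)) := by simp only [mul_assoc]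
        _ = _ := by rw [← hc]; conv_lhs => arg 1; arg 1; rw [hc]
                    simp only [mul_assoc]
    rw [e1, e2] at h'
    exact h'
  have hall : ∀ u v, C u v := by
    intro u v
    have hu : u ∈ Subgroup.closure ({P, tq P} : Set SL2) := by rw [R.pair]; trivial
    have hv : v ∈ Subgroup.closure ({P, tq P} : Set SL2) := by rw [R.pair]; trivial
    let B0 := BkHom R (q4 k 2) (q4 k 3) (q4 k 1)
    show Commute _ (B0 v)
    induction hu using Subgroup.closure_induction with
    | mem u hu =>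
      induction hv using Subgroup.closure_induction with
      | mem v hv =>
        rcases hu with rfl | rfl <;> rcases hv with rfl | rfl
        · exact h00
        · exact hright _ _ h00
        · exact hleft _ _ h00
        · exact hright _ _ (hleft _ _ h00)
      | one => rw [map_one B0]; exact Commute.one_right _
      | mul x y _ _ hx hy => rw [map_mul]; exact hx.mul_right hy
      | inv x _ hx => rw [map_inv]; exact hx.inv_right
    | one => rw [map_one (blk _ _), map_one A]; exact Commute.one_left _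
    | mul x y _ _ hx hy => rw [map_mul, map_mul]; exact hx.mul_left hy
    | inv x _ hx => rw [map_inv, map_inv]; exact hx.inv_left
  obtain ⟨g, g2', g3', hg⟩ := exists_alt_four hij hia hib hja hjb hab
  have key : ∀ u' v', Commute (A (blk ((g : Perm _) (q4 k 0)) ((g : Perm _) (q4 k 1)) u'))
      (Bk A s a b ((g : Perm _) (q4 k 1)) v') := by
    intro u' v'
    have h' := (hall u' v').map (MulAut.conj (mu A g)).toMonoidHom
    simp only [MulEquiv.toMonoidHom_eq_coe, MonoidHom.coe_coe, MulAut.conj_apply,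
      Bk_conj R g h23, g2', g3'] at h'
    have hm : mu A g * A (blk (q4 k 0) (q4 k 1) u') * (mu A g)⁻¹
        = A (blk ((g : Perm _) (q4 k 0)) ((g : Perm _) (q4 k 1)) u') := by
      rw [← muA_blk' g h01, map_mul, map_mul, map_inv]; rfl
    rw [hm] at h'
    exact h'
  rcases hg with ⟨e0, e1⟩ | ⟨e0, e1⟩
  · have := key u v
    rw [e0, e1, Bk_indep R hab hja hjb hxa hxb] at this
    exact this
  · have := key (sw u) v
    rw [e0, e1, blk_swap hij, sw_sw, Bk_indep R hab hia hib hxa hxb] at this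
    exact this

end Cfsg.Agent.H68.ShortPlus
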