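import Cfsg.Agent.H99.CTDRecog

/-!
A glued group over the hyperbolic isometry group: root subgroups map bijectively, and the positive
unipotent group maps injectively.
-/

set_option autoImplicit false
set_option linter.unusedSimpArgs false
set_option linter.unusedSectionVars false

namespace Cfsg.Agent.H68.ShortPlus

open Matrix Equiv Cfsg.Agent.H99.CTD Cfsg.Agent.H57.Hyp

variable {F : Type*} [Field F] {n : ℕ} {H : Type*} [Group H]

theorem mem_normalizer_closure {S : Set H} {x : H}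
    (h1 : ∀ y ∈ S, x * y * x⁻¹ ∈ Subgroup.closure S)
    (h2 : ∀ y ∈ S, x⁻¹ * y * x ∈ Subgroup.closure S) :
    x ∈ Subgroup.normalizer (Subgroup.closure S : Set H) := by
  have k1 : Subgroup.closure S ≤ (Subgroup.closure S).comap (MulAut.conj x).toMonoidHom :=
    (Subgroup.closure_le _).2 fun y hy => h1 y hy
  have k2 : Subgroup.closure S ≤ (Subgroup.closure S).comap (MulAut.conj x⁻¹).toMonoidHom :=
    (Subgroup.closure_le _).2 fun y hy => by
      simpa using h2 y hy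
  rw [Subgroup.mem_normalizer_iff]
  refine fun y => ⟨fun hy => k1 hy, fun hy => ?_⟩
  have := k2 hy
  simpa [mul_assoc] using this

theorem sup_split_of_commute {s t : Subgroup H} (hc : ∀ a ∈ s, ∀ b ∈ t, Commute a b) {x : H}
    (hx : x ∈ s ⊔ t) : ∃ a ∈ s, ∃ b ∈ t, a * b = x := by
  have hr := MonoidHom.noncommCoprod_range s.subtype t.subtype fun a b => hc a a.2 b b.2
  rw [Subgroup.range_subtype, Subgroup.range_subtype] at hr
  rw [← hr] at hx
  obtain ⟨⟨a, b⟩, rfl⟩ := hx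
  exact ⟨a, a.2, b, b.2, rfl⟩

section

variable (D : Glue F n H) {θ : H →* Op n F}
  (hA : ∀ g, θ (D.A g) = modA g) (hB : ∀ g, θ (D.B g) = modB (la D.hn) g)

include hA hB in
theorem root_low (a b : Fin n ⊕ Fin n) (hab : Glue.ix a ≠ Glue.ix b)
    (hl : Glue.ix a = la D.hn ∨ Glue.ix b = la D.hn) (t : F) :
    ∃ h ∈ D.Y a b, H57.Hyp.mt (θ h) = Rm a b t := by
  have hn := D.hn
  have viaA : ∀ i j : Fin n, i ≠ j → ∀ t, ∃ h ∈ D.Y (.inl i) (.inr j),
      H57.Hyp.mt (θ h) = Rm (.inl i) (.inr j) t := fun i j hij t =>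
    ⟨_, ⟨_, el_mem i j t, rfl⟩, by rw [hA]; exact mt_modA_el hij t⟩
  have viaB : ∀ i j : Fin n, i ≠ j → ∀ t, ∃ h ∈ D.Y (D.fl (.inl i)) (D.fl (.inr j)),
      H57.Hyp.mt (θ h) = Rm (D.fl (.inl i)) (D.fl (.inr j)) t := fun i j hij t =>
    ⟨D.B (el i j t), by rw [D.Y_fl (a := .inl i) (b := .inr j) hij]; exact ⟨_, el_mem i j t, rfl⟩,
      by rw [hB]; exact mt_modB_el (la D.hn) hij t⟩
  have symm : ∀ a b, (∀ t, ∃ h ∈ D.Y a b, H57.Hyp.mt (θ h) = Rm a b t) →
      ∀ t, ∃ h ∈ D.Y b a, H57.Hyp.mt (θ h) = Rm b a t := by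
    intro a b h t
    obtain ⟨x, hx, e⟩ := h (-t)
    exact ⟨x, D.Y_comm a b ▸ hx, by rw [e, ← Rm_comm]⟩
  have hfl : ∀ i, i ≠ la D.hn → D.fl (.inl i) = .inl i ∧ D.fl (.inr i) = .inr i := fun i hi =>
    ⟨swap_apply_of_ne_of_ne (by simp [hi]) (by simp),
      swap_apply_of_ne_of_ne (by simp) (by simp [hi])⟩
  have hfla : D.fl (.inl (la D.hn)) = .inr (la D.hn) ∧ D.fl (.inr (la D.hn)) = .inl (la D.hn) :=
    ⟨swap_apply_left _ _, swap_apply_right _ _⟩
  rcases a with i | i <;> rcases b with j | j <;>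
    simp only [Glue.ix, Sum.elim_inl, Sum.elim_inr, id] at hab hl
  · rcases hl with rfl | rfl
    · have := symm _ _ (viaB j (la D.hn) (Ne.symm hab)) t
      rwa [hfla.2, (hfl j (Ne.symm hab)).1] at this
    · have := viaB i (la D.hn) hab t
      rwa [hfla.2, (hfl i hab).1] at this
  · exact viaA i j hab t
  · exact symm _ _ (viaA j i (Ne.symm hab)) t
  · rcases hl with rfl | rfl
    · have := viaB (la D.hn) j hab t
      rwa [hfla.1, (hfl j (Ne.symm hab)).2] at this
    · have := symm _ _ (viaB (la D.hn) i (Ne.symm hab)) t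
      rwa [hfla.1, (hfl i hab).2] at this

include hA hB in
/-- Every root element of the model has a preimage in the root subgroup. -/
theorem root_surj (a b : Fin n ⊕ Fin n) (hab : Glue.ix a ≠ Glue.ix b) (t : F) :
    ∃ h ∈ D.Y a b, H57.Hyp.mt (θ h) = Rm a b t := by
  by_cases hl : Glue.ix a = la D.hn ∨ Glue.ix b = la D.hn
  · exact root_low D hA hB a b hab hl t
  push Not at hl
  set x : Fin n ⊕ Fin n := .inr (la D.hn) with hx
  have h1 : Glue.ix a ≠ Glue.ix x := hl.1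
  have h2 : Glue.ix x ≠ Glue.ix b := Ne.symm hl.2
  obtain ⟨u, hu, eu⟩ := root_low D hA hB a x h1 (Or.inr rfl) t
  obtain ⟨v, hv, ev⟩ := root_low D hA hB x.swap b (by rwa [ix_swap])
    (Or.inl (by rw [ix_swap]; rfl)) 1
  refine ⟨u * v * u⁻¹ * v⁻¹, D.bracket_chain h1 hab h2 u hu v hv, ?_⟩
  have hne' : ∀ {p q : Fin n ⊕ Fin n}, Glue.ix p ≠ Glue.ix q → p ≠ q ∧ p ≠ q.swap := fun {p q} h =>
    ⟨fun e => h (by rw [e]), fun e => h (by rw [e, ix_swap])⟩
  have hp := Rm_prod (F := F) (hne' h1).1 (hne' h1).2 (hne' hab).1 (hne' hab).2 (hne' h2).1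
    (hne' h2).2 t 1
  rw [mul_one, ← eu, ← ev, ← H57.Hyp.mt_mul, ← map_mul] at hp
  calc H57.Hyp.mt (θ (u * v * u⁻¹ * v⁻¹))
      = H57.Hyp.mt (θ (u * v)) * H57.Hyp.mt (θ (u⁻¹ * v⁻¹)) := by
        rw [← H57.Hyp.mt_mul, ← map_mul, ← mul_assoc]
    _ = Rm a b t * (H57.Hyp.mt (θ v) * H57.Hyp.mt (θ u) * H57.Hyp.mt (θ (u⁻¹ * v⁻¹))) := by
        rw [hp]; simp only [Matrix.mul_assoc]
    _ = Rm a b t := by
        rw [← H57.Hyp.mt_mul, ← H57.Hyp.mt_mul, ← map_mul, ← map_mul,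
          show v * u * (u⁻¹ * v⁻¹) = 1 by group, map_one]
        exact Matrix.mul_one _

include hA hB in
/-- The root subgroups map bijectively onto the root elements. -/
theorem root_exact [Finite F] (a b : Fin n ⊕ Fin n) (hab : Glue.ix a ≠ Glue.ix b) :
    (∀ h ∈ D.Y a b, ∃ t, H57.Hyp.mt (θ h) = Rm a b t) ∧ (∀ h ∈ D.Y a b, θ h = 1 → h = 1) := by
  choose r hr1 hr2 using root_surj D hA hB a b hab
  have hinj : Function.Injective fun t => (⟨r t, hr1 t⟩ : D.Y a b) := fun t u e => by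
    refine Rm_injective hab ?_
    have e' : r t = r u := congrArg Subtype.val e
    rw [← hr2 t, ← hr2 u, e']
  have : Finite (D.Y a b) := (card_Y_le D hab).2.to_subtype
  have hbij : Function.Bijective fun t => (⟨r t, hr1 t⟩ : D.Y a b) :=
    hinj.bijective_of_nat_card_le (card_Y_le D hab).1
  have hr : ∀ h ∈ D.Y a b, ∃ t, r t = h := fun h hh => by
    obtain ⟨t, ht⟩ := hbij.2 ⟨h, hh⟩
    exact ⟨t, congrArg Subtype.val ht⟩
  refine ⟨fun h hh => ?_, fun h hh he => ?_⟩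
  · obtain ⟨t, rfl⟩ := hr h hh
    exact ⟨t, hr2 t⟩
  · obtain ⟨t, rfl⟩ := hr h hh
    obtain ⟨u, hu⟩ := hr 1 (one_mem _)
    have : t = u := Rm_injective hab (by rw [← hr2 t, ← hr2 u, he, hu, map_one])
    rw [this, hu]

/-- Generators of the part of `U` over some pairs of coordinates. -/
def plusGens (T : Set (Fin n × Fin n)) : Set H :=
  {h | ∃ r ∈ T, r.1 ≠ r.2 ∧ h ∈ D.Y (.inl r.1) (.inl r.2)}

theorem plus_comm {i j p q : Fin n} (hij : i ≠ j) (hpq : p ≠ q) :
    D.Comm (.inl i) (.inl j) (.inl p) (.inl q) := by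
  rcases D.rel (a := .inl i) (b := .inl j) (c := .inl p) (d := .inl q) hij hpq (by simp) (by simp)
    with h | ⟨x, y, -, ⟨a', b', d', h1, h2, -, -⟩, -⟩
  · exact h
  · rcases h1 with ⟨rfl, rfl⟩ | ⟨rfl, rfl⟩ <;> rcases h2 with ⟨e, -⟩ | ⟨e, -⟩ <;> simp at e

include hA hB in
theorem plus_form [Finite F] (T : Finset (Fin n × Fin n)) (hT : ∀ r ∈ T, r.1 < r.2) {w : H}
    (hw : w ∈ Subgroup.closure (plusGens D (T : Set (Fin n × Fin n)))) :
    ∃ S : Matrix (Fin n) (Fin n) F, H57.Hyp.mt (θ w) = fromBlocks 1 S 0 1 ∧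
      ∀ p q, p < q → (p, q) ∉ T → S p q = 0 := by
  have base : ∀ x ∈ plusGens D (T : Set (Fin n × Fin n)),
      ∃ S : Matrix (Fin n) (Fin n) F, H57.Hyp.mt (θ x) = fromBlocks 1 S 0 1 ∧
        ∀ p q, p < q → (p, q) ∉ T → S p q = 0 := by
    rintro x ⟨⟨i, j⟩, hr, hne, hx⟩
    obtain ⟨t, ht⟩ := (root_exact D hA hB (.inl i) (.inl j) hne).1 x hx
    refine ⟨elemAlt i j t, by rw [ht, ← mt_uni_elemAlt]; rfl, fun p q hpq hnot => ?_⟩
    have hij : i < j := hT _ hr
    simp only [elemAlt, Matrix.sub_apply, Matrix.single_apply]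
    rw [if_neg, if_neg, sub_zero]
    · rintro ⟨rfl, rfl⟩
      exact absurd hij (not_lt.mpr hpq.le)
    · rintro ⟨rfl, rfl⟩
      exact hnot hr
  induction hw using Subgroup.closure_induction'' with
  | mem x hx => exact base x hx
  | inv_mem x hx =>
    obtain ⟨r, hr, hne, hx⟩ := hx
    exact base _ ⟨r, hr, hne, inv_mem hx⟩
  | one => exact ⟨0, by rw [map_one, fromBlocks_one]; rfl, fun _ _ _ _ => rfl⟩
  | mul x y _ _ hx hy =>
    obtain ⟨S, hS, hS0⟩ := hx
    obtain ⟨S', hS', hS0'⟩ := hy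
    refine ⟨S + S', ?_, fun p q hpq hn => ?_⟩
    · rw [map_mul, H57.Hyp.mt_mul, hS, hS', fromBlocks_multiply]
      simp [add_comm]
    · rw [Matrix.add_apply, hS0 p q hpq hn, hS0' p q hpq hn, add_zero]

include hA hB in
theorem plus_inj [Finite F] (T : Finset (Fin n × Fin n)) (hT : ∀ r ∈ T, r.1 < r.2) :
    ∀ w ∈ Subgroup.closure (plusGens D (T : Set (Fin n × Fin n))), θ w = 1 → w = 1 := by
  classical
  induction T using Finset.induction_on with
  | empty =>
    intro w hw _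
    have : plusGens D ((∅ : Finset (Fin n × Fin n)) : Set (Fin n × Fin n)) = ∅ :=
      Set.eq_empty_of_forall_notMem fun x ⟨r, hr, _⟩ => by simp at hr
    rw [this, Subgroup.closure_empty, Subgroup.mem_bot] at hw
    exact hw
  | insert r T hr ih =>
    intro w hw he
    have hr' : r.1 < r.2 := hT r (Finset.mem_insert_self _ _)
    have hT' : ∀ x ∈ T, x.1 < x.2 := fun x hx => hT x (Finset.mem_insert_of_mem hx)
    have hle : Subgroup.closure (plusGens D ((insert r T : Finset _) : Set (Fin n × Fin n)))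
        ≤ D.Y (.inl r.1) (.inl r.2) ⊔ Subgroup.closure (plusGens D (T : Set (Fin n × Fin n))) := by
      refine (Subgroup.closure_le _).2 ?_
      rintro x ⟨y, hy, hne, hx⟩
      rcases Finset.mem_insert.mp (Finset.mem_coe.mp hy) with rfl | hy
      · exact Subgroup.mem_sup_left hx
      · exact Subgroup.mem_sup_right (Subgroup.subset_closure ⟨y, hy, hne, hx⟩)
    obtain ⟨a, ha, b, hb, rfl⟩ := sup_split_of_commute (fun a ha b hb => by
      have : Subgroup.closure (plusGens D (T : Set (Fin n × Fin n)))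
          ≤ Subgroup.centralizer (D.Y (.inl r.1) (.inl r.2) : Set H) := by
        refine (Subgroup.closure_le _).2 ?_
        rintro x ⟨y, -, hne, hx⟩
        exact Subgroup.mem_centralizer_iff.mpr fun z hz => (plus_comm D hr'.ne hne z hz x hx).eq
      exact Subgroup.mem_centralizer_iff.mp (this hb) a ha) (hle hw)
    obtain ⟨t, ht⟩ := (root_exact D hA hB (.inl r.1) (.inl r.2) hr'.ne).1 a ha
    obtain ⟨S, hS, hS0⟩ := plus_form D hA hB T hT' hb
    have h := congrArg H57.Hyp.mt he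
    rw [map_mul, H57.Hyp.mt_mul, hS, ht, ← mt_uni_elemAlt, H57.Hyp.mt_uni, fromBlocks_multiply,
      show H57.Hyp.mt (1 : Op n F) = fromBlocks 1 0 0 1 from fromBlocks_one.symm] at h
    have h12 := congrArg Matrix.toBlocks₁₂ h
    simp only [toBlocks_fromBlocks₁₂, Matrix.one_mul, Matrix.mul_one] at h12
    have h0 := congrFun (congrFun h12 r.1) r.2
    simp only [Matrix.add_apply, hS0 r.1 r.2 hr' hr, elemAlt, Matrix.sub_apply, Matrix.single_apply,
      and_self, if_true, zero_add, Matrix.zero_apply] at h0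
    rw [if_neg (fun e => hr'.ne e.1.symm), sub_zero] at h0
    have ha1 : a = 1 := by
      refine (root_exact D hA hB (.inl r.1) (.inl r.2) hr'.ne).2 a ha (op_ext ?_)
      rw [ht, h0]
      show _ = (1 : Matrix _ _ F)
      simp [Rm]
    rw [ha1, one_mul] at he ⊢
    exact ih hT' b hb he

include hA hB in
/-- The positive unipotent group maps injectively. -/
theorem U_inj [Finite F] {u : H} (hu : u ∈ D.U 1) (he : θ u = 1) : u = 1 := by
  classical
  set L : Set H := {h | ∃ i j : Fin n, i < j ∧ h ∈ D.Y (.inl i) (.inr j)} with hL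
  set T : Finset (Fin n × Fin n) := Finset.univ.filter fun r => r.1 < r.2 with hT
  set P := Subgroup.closure (plusGens D (T : Set (Fin n × Fin n))) with hP
  have hPmem : ∀ p q : Fin n, p ≠ q → D.Y (.inl p) (.inl q) ≤ P := by
    intro p q hpq x hx
    rcases lt_or_gt_of_ne hpq with h | h
    · exact Subgroup.subset_closure ⟨(p, q), by simp [T, h], hpq, hx⟩
    · exact Subgroup.subset_closure ⟨(q, p), by simp [T, h], Ne.symm hpq,
        by rw [D.Y_comm]; exact hx⟩
  have hnorm : Subgroup.closure L ≤ Subgroup.normalizer (P : Set H) := by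
    refine (Subgroup.closure_le _).2 ?_
    rintro x ⟨i, j, hij, hx⟩
    have key : ∀ x ∈ D.Y (.inl i) (.inr j), ∀ y ∈ plusGens D (T : Set (Fin n × Fin n)),
        x * y * x⁻¹ ∈ P := by
      rintro x hx y ⟨⟨p, q⟩, hr, hne, hy⟩
      rw [show x * y * x⁻¹ = (x * y * x⁻¹ * y⁻¹) * y by group]
      refine mul_mem ?_ (Subgroup.subset_closure ⟨(p, q), hr, hne, hy⟩)
      rcases D.rel (a := .inl i) (b := .inr j) (c := .inl p) (d := .inl q) hij.ne hne (by simp)
        (by simp) with h | ⟨a, b, hab, ⟨a', b', d', h1, h2, rfl, rfl⟩, h⟩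
      · rw [(h x hx y hy).eq]; simp
      · rcases h1 with ⟨rfl, rfl⟩ | ⟨rfl, rfl⟩ <;> rcases h2 with ⟨e, rfl⟩ | ⟨e, rfl⟩ <;>
          simp at e <;> exact hPmem _ _ hab (h x hx y hy)
    exact mem_normalizer_closure (key x hx) fun y hy => by
      have := key x⁻¹ (inv_mem hx) y hy
      rwa [inv_inv] at this
  have hle : D.U 1 ≤ Subgroup.closure L ⊔ P := by
    refine (Subgroup.closure_le _).2 ?_
    rintro x ⟨a, b, hab, hw, hx⟩
    rcases a with i | i <;> rcases b with j | j <;> simp only [wt, Sum.elim_inl, Sum.elim_inr] at hw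
    · exact Subgroup.mem_sup_right (hPmem i j hab hx)
    · exact Subgroup.mem_sup_left (Subgroup.subset_closure ⟨i, j, Fin.lt_def.mpr (by omega), hx⟩)
    · exact Subgroup.mem_sup_left (Subgroup.subset_closure
        ⟨j, i, Fin.lt_def.mpr (by omega), by rw [D.Y_comm]; exact hx⟩)
    · omega
  have hmem := hle hu
  rw [← SetLike.mem_coe, Subgroup.coe_mul_of_left_le_normalizer_right _ _ hnorm] at hmem
  obtain ⟨v, hv, w, hw, rfl⟩ := hmem
  obtain ⟨g, rfl⟩ : v ∈ D.A.range := by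
    refine (Subgroup.closure_le _).2 ?_ hv
    rintro _ ⟨i, j, -, ⟨y, -, rfl⟩⟩
    exact ⟨y, rfl⟩
  obtain ⟨S, hS, -⟩ := plus_form D hA hB T (by simp [T]) hw
  have h := congrArg (fun z => (H57.Hyp.mt z).toBlocks₁₁) he
  simp only [map_mul, H57.Hyp.mt_mul, hS, hA] at h
  rw [show H57.Hyp.mt (modA g) = fromBlocks (g : Matrix (Fin n) (Fin n) F) 0 0
      (((Matrix.SpecialLinearGroup.toGL g)⁻¹ : GL (Fin n) F) : Matrix _ _ F)ᵀ from rfl,
    fromBlocks_multiply, show H57.Hyp.mt (1 : Op n F) = fromBlocks 1 0 0 1 from fromBlocks_one.symm,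
    toBlocks_fromBlocks₁₁, toBlocks_fromBlocks₁₁] at h
  simp only [Matrix.mul_one, Matrix.mul_zero, add_zero] at h
  have hg : g = 1 := Subtype.ext h
  dsimp only at he ⊢
  rw [hg, map_one, one_mul] at he ⊢
  exact plus_inj D hA hB T (by simp [T]) w hw he

end

end Cfsg.Agent.H68.ShortPlus
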