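import Cfsg.Agent.H68.ShortPlus.Glued
import Cfsg.Agent.H68.ShortPlus.Roots

/-!
The torus of the two glued groups and what normalises it.
-/

set_option autoImplicit false
set_option linter.unusedSimpArgs false
set_option linter.unusedSectionVars false

namespace Cfsg.Agent.H68.ShortPlus

open Matrix Equiv Cfsg.Agent.H68.ShortSL
open Cfsg.Agent.H99.CTD (el el_coe el_self Mono wEl la pe Glue exists_mono pe_ne_la)
open Cfsg.Agent.H99.BoundedPres (q4)

variable {F : Type*} [Field F] {k : ℕ} {G : Type*} [Group G]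

local notation "SL2" => Matrix.SpecialLinearGroup (Fin 2) F
local notation "SLn" => Matrix.SpecialLinearGroup (Fin (k + 4)) F

theorem mem_normalizer_of {H : Type*} [Group H] {K : Subgroup H} {x : H}
    (h1 : ∀ y ∈ K, x * y * x⁻¹ ∈ K) (h2 : ∀ y ∈ K, x⁻¹ * y * x ∈ K) :
    x ∈ Subgroup.normalizer (K : Set H) := by
  rw [Subgroup.mem_normalizer_iff]
  refine fun y => ⟨fun hy => h1 y hy, fun hy => ?_⟩
  have := h2 _ hy
  simpa [mul_assoc] using this

/-- The diagonal subgroup. -/
def dgSub (F : Type*) [Field F] (n : ℕ) : Subgroup (Matrix.SpecialLinearGroup (Fin n) F) where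
  carrier := {d | Mono d 1}
  one_mem' := Mono.one
  mul_mem' {x y} hx hy := by
    show Mono (x * y) 1
    simpa using Mono.mul hx hy
  inv_mem' {x} hx := fun i j hij => by
    have h := congrFun (congrFun (congrArg (fun z : Matrix.SpecialLinearGroup (Fin n) F =>
      (z : Matrix (Fin n) (Fin n) F)) (mul_inv_cancel x)) i) j
    simp only [Matrix.SpecialLinearGroup.coe_mul, Matrix.SpecialLinearGroup.coe_one,
      Matrix.mul_apply] at h
    rw [Finset.sum_eq_single i (fun c _ hc => by rw [hx i c (fun e => hc e.symm), zero_mul])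
      (by simp), Matrix.one_apply_ne (by simpa using hij)] at h
    exact (mul_eq_zero.mp h).resolve_left (hx.entry_ne i)

theorem Mono.inv' {n : ℕ} {g : Matrix.SpecialLinearGroup (Fin n) F} {π : Perm (Fin n)}
    (hg : Mono g π) : Mono g⁻¹ π⁻¹ := by
  obtain ⟨r, hr⟩ := exists_mono (F := F) π⁻¹
  have hd : r * g ∈ dgSub F n := by
    show Mono (r * g) 1
    simpa using hr.mul hg
  have h : Mono (r * g)⁻¹ 1 := inv_mem hd
  have := h.mul hr
  rwa [one_mul, _root_.mul_inv_rev, inv_mul_cancel_right] at this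

theorem diag_eq_one {n : ℕ} {d : Matrix.SpecialLinearGroup (Fin n) F} (hd : d ∈ dgSub F n)
    (h : ∀ i, (d : Matrix (Fin n) (Fin n) F) i i = 1) : d = 1 := by
  refine Subtype.ext ?_
  rw [Mono.diag hd, Matrix.SpecialLinearGroup.coe_one, ← Matrix.diagonal_one]
  congr 1
  funext i
  exact h i

theorem blk_dg_mem {n : ℕ} {a b : Fin n} (h : a ≠ b) (v : Fˣ) :
    blk a b (dg v) ∈ dgSub F n := by
  intro i j hij
  rw [blk_dg_coe h, Matrix.diagonal_apply_ne _ (by simpa using hij)]

/-- The diagonal subgroup is generated along the last coordinate. -/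
theorem dg_induction {p : SLn → Prop} (h1 : p 1)
    (hblk : ∀ (c : Fin (k + 4)) (v : Fˣ), c ≠ la (hn4 k) → p (blk c (la (hn4 k)) (dg v)))
    (hmul : ∀ x y, p x → p y → p (x * y)) {d : SLn} (hd : d ∈ dgSub F (k + 4)) : p d := by
  classical
  set l := la (hn4 k)
  suffices key : ∀ T : Finset (Fin (k + 4)), l ∉ T → ∀ d ∈ dgSub F (k + 4),
      (∀ i, i ∉ T → i ≠ l → (d : Matrix (Fin (k + 4)) (Fin (k + 4)) F) i i = 1) → p d from
    key (Finset.univ.erase l) (Finset.notMem_erase _ _) d hd fun i hi hil =>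
      absurd (Finset.mem_erase.mpr ⟨hil, Finset.mem_univ i⟩) hi
  intro T
  induction T using Finset.induction_on with
  | empty =>
    intro _ d hd h
    have : d = 1 := by
      refine diag_eq_one hd fun i => ?_
      by_cases hi : i = l
      · subst hi
        have hdet := d.det_coe
        rw [Mono.diag hd, Matrix.det_diagonal, Finset.prod_eq_single l
          (fun j _ hj => h j (Finset.notMem_empty _) hj) (by simp)] at hdet
        exact hdet
      · exact h i (Finset.notMem_empty _) hi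
    rw [this]; exact h1
  | insert c T hc ih =>
    intro hl d hd h
    have hcl : c ≠ l := fun e => hl (by rw [← e]; exact Finset.mem_insert_self _ _)
    set v : Fˣ := Units.mk0 _ (Mono.entry_ne hd c) with hv
    have hd' : blk c l (dg v⁻¹) * d ∈ dgSub F (k + 4) := mul_mem (blk_dg_mem hcl _) hd
    have := hmul _ _ (hblk c v hcl) (ih (fun e => hl (Finset.mem_insert_of_mem e)) _ hd'
      fun i hi hil => by
        rw [Matrix.SpecialLinearGroup.coe_mul, blk_dg_coe hcl, Matrix.diagonal_mul]
        by_cases hic : i = c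
        · subst hic
          simp [hv]
          exact inv_mul_cancel₀ (by simpa using Mono.entry_ne hd i)
        · rw [h i (by simp [hic, hi]) hil]
          simp [hic, hil])
    rwa [← mul_assoc, ← map_mul, ← dg_mul, mul_inv_cancel, dg_one, map_one, one_mul] at this

theorem blk_dg_chain {n : ℕ} {a c b : Fin n} (hac : a ≠ c) (hcb : c ≠ b) (hab : a ≠ b) (v : Fˣ) :
    (blk a c (dg v) * blk c b (dg v) : Matrix.SpecialLinearGroup (Fin n) F) = blk a b (dg v) := by
  refine Subtype.ext ?_
  rw [Matrix.SpecialLinearGroup.coe_mul, blk_dg_coe hac, blk_dg_coe hcb, blk_dg_coe hab,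
    Matrix.diagonal_mul_diagonal]
  congr 1
  funext i
  by_cases ha : i = a
  · subst ha; simp [hac, hab]
  by_cases hc : i = c
  · subst hc; simp [hcb, hac.symm]
  simp [ha, hc]

variable {A : Matrix.SpecialLinearGroup (Fin (k + 4)) F →* G} {s : G}
  {P : Matrix.SpecialLinearGroup (Fin 2) F} (R : Rels A s P) (D : Glue F (k + 4) G) (hA : D.A = A)
  (hB : ∀ (a b : Fin (k + 4)), a ≠ b → ∀ t : F, D.B (el a b t) = rootB A s a b t)

include hA in
theorem same_blk {a c : Fin (k + 4)} (ha : a ≠ la (hn4 k)) (hc : c ≠ la (hn4 k)) (hac : a ≠ c)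
    (y : SL2) : A (blk a c y) = D.B (blk a c y) := by
  have e : A.comp (blk a c) = D.B.comp (blk a c) := hom_ext_ul
    (fun t => by
      show A (blk a c (up t)) = D.B (blk a c (up t))
      rw [blk_up hac, ← hA]; exact D.agree a c ha hc t)
    (fun t => by
      show A (blk a c (lo t)) = D.B (blk a c (lo t))
      rw [blk_lo hac, ← hA]; exact D.agree c a hc ha t)
  exact DFunLike.congr_fun e y

include R hA hB in
theorem torus_comm [Finite F] (d e : dgSub F (k + 4)) : Commute (A d) (D.B e) := by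
  obtain ⟨d, hd⟩ := d
  obtain ⟨e, he⟩ := e
  show Commute (A d) (D.B e)
  refine dg_induction (p := fun d => Commute (A d) (D.B e)) ?_ ?_ ?_ hd
  · rw [map_one]; exact Commute.one_left _
  swap
  · intro x y hx hy; rw [map_mul]; exact hx.mul_left hy
  intro a v ha
  refine dg_induction (p := fun e => Commute (A (blk a _ (dg v))) (D.B e)) ?_ ?_ ?_ he
  · rw [map_one]; exact Commute.one_right _
  swap
  · intro x y hx hy; rw [map_mul]; exact hx.mul_right hy
  intro c w hc
  obtain ⟨x, hxc, hxl, -⟩ := exists_ne_three c (la (hn4 k)) c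
  have hm : ∀ u : Fˣ, Commute (A (blk c (la (hn4 k)) (dg u))) (D.B (blk c (la (hn4 k)) (dg w))) :=
    fun u => by rw [glue_blk R D hA hB hc hxc hxl]; exact mixed_all R hc hxc hxl _ _
  by_cases hac : a = c
  · subst hac; exact hm v
  rw [← blk_dg_chain hac hc ha, map_mul, same_blk D hA ha hc hac]
  refine Commute.mul_left ?_ (hm v)
  exact (Commute.map (show Commute (blk a c (dg v) : SLn) (blk c (la (hn4 k)) (dg w)) from Subtype.ext (by
    rw [Matrix.SpecialLinearGroup.coe_mul, Matrix.SpecialLinearGroup.coe_mul, blk_dg_coe hac,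
      blk_dg_coe hc, Matrix.diagonal_mul_diagonal, Matrix.diagonal_mul_diagonal]
    congr 1; funext i; rw [mul_comm])) D.B :)

/-- The torus. -/
noncomputable def Tor [Finite F] : Subgroup G :=
  (MonoidHom.noncommCoprod (A.comp (dgSub F (k + 4)).subtype) (D.B.comp (dgSub F (k + 4)).subtype)
    (torus_comm R D hA hB)).range

theorem mem_Tor_iff [Finite F] {t : G} : t ∈ Tor R D hA hB ↔
    ∃ d ∈ dgSub F (k + 4), ∃ e ∈ dgSub F (k + 4), A d * D.B e = t := by
  constructor
  · rintro ⟨⟨⟨d, hd⟩, ⟨e, he⟩⟩, rfl⟩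
    exact ⟨d, hd, e, he, rfl⟩
  · rintro ⟨d, hd, e, he, rfl⟩
    exact ⟨⟨⟨d, hd⟩, ⟨e, he⟩⟩, rfl⟩

theorem A_mem_Tor [Finite F] {d : SLn} (hd : d ∈ dgSub F (k + 4)) : A d ∈ Tor R D hA hB :=
  (mem_Tor_iff R D hA hB).mpr ⟨d, hd, 1, one_mem _, by rw [map_one, mul_one]⟩

theorem B_mem_Tor [Finite F] {d : SLn} (hd : d ∈ dgSub F (k + 4)) : D.B d ∈ Tor R D hA hB :=
  (mem_Tor_iff R D hA hB).mpr ⟨1, one_mem _, d, hd, by rw [map_one, one_mul]⟩

/-- What conjugates the generators of the torus into it conjugates all of it into it. -/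
theorem conj_Tor_of [Finite F] {h : G}
    (h1 : ∀ (c : Fin (k + 4)) (v : Fˣ), c ≠ la (hn4 k) →
      h * A (blk c (la (hn4 k)) (dg v)) * h⁻¹ ∈ Tor R D hA hB)
    (h2 : ∀ (c : Fin (k + 4)) (v : Fˣ), c ≠ la (hn4 k) →
      h * D.B (blk c (la (hn4 k)) (dg v)) * h⁻¹ ∈ Tor R D hA hB)
    {t : G} (ht : t ∈ Tor R D hA hB) : h * t * h⁻¹ ∈ Tor R D hA hB := by
  obtain ⟨d, hd, e, he, rfl⟩ := (mem_Tor_iff R D hA hB).mp ht
  rw [show h * (A d * D.B e) * h⁻¹ = (h * A d * h⁻¹) * (h * D.B e * h⁻¹) by group]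
  refine mul_mem (dg_induction (p := fun d => h * A d * h⁻¹ ∈ Tor R D hA hB) ?_ h1 ?_ hd)
    (dg_induction (p := fun e => h * D.B e * h⁻¹ ∈ Tor R D hA hB) ?_ h2 ?_ he)
  · simp
  · intro x y hx hy; rw [map_mul, ← conj_mul]; exact mul_mem hx hy
  · simp
  · intro x y hx hy; rw [map_mul, ← conj_mul]; exact mul_mem hx hy

theorem S_conj_Tor [Finite F] (a b : Fin (k + 4)) {t : G} (ht : t ∈ Tor R D hA hB) :
    S A s a b * t * S A s a b ∈ Tor R D hA hB := by
  set l := la (hn4 k) with hl
  have key : ∀ (a : Fin (k + 4)), a ≠ l → ∀ t ∈ Tor R D hA hB,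
      S A s a l * t * S A s a l ∈ Tor R D hA hB := by
    intro a ha t ht
    conv => arg 2; arg 2; rw [← S_inv R a l]
    refine conj_Tor_of R D hA hB (fun c v hc => ?_) (fun c v hc => ?_) ht
    · rw [S_inv R]
      by_cases hca : c = a
      · subst hca
        rw [S_act R hc, tq_dg]
        exact A_mem_Tor R D hA hB (blk_dg_mem hc _)
      · rw [S_comm R a l, show S A s l a * A (blk c l (dg v)) * S A s l a = Bk A s c l a (dg v)
          from rfl, ← glue_blk R D hA hB hc (Ne.symm hca) ha]
        exact B_mem_Tor R D hA hB (blk_dg_mem hc _)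
    · rw [S_inv R]
      by_cases hca : c = a
      · subst hca
        obtain ⟨x, hxc, hxl, -⟩ := exists_ne_three c l c
        rw [glue_blk R D hA hB hc hxc hxl, Bk]
        have hcm := (S_commute R c l l x).eq
        rw [show S A s c l * (S A s l x * A (blk c l (dg v)) * S A s l x) * S A s c l
            = (S A s c l * S A s l x) * A (blk c l (dg v)) * (S A s l x * S A s c l) by
          simp only [mul_assoc], hcm, ← hcm,
          show (S A s c l * S A s l x) * A (blk c l (dg v)) * (S A s c l * S A s l x)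
            = (S A s c l * S A s l x) * A (blk c l (dg v)) * S A s c l * S A s l x by
          simp only [mul_assoc], hcm,
          show S A s l x * S A s c l * A (blk c l (dg v)) * S A s c l * S A s l x
            = S A s l x * (S A s c l * A (blk c l (dg v)) * S A s c l) * S A s l x by
          simp only [mul_assoc], S_act R hc, tq_dg, ← Bk, ← glue_blk R D hA hB hc hxc hxl]
        exact B_mem_Tor R D hA hB (blk_dg_mem hc _)
      · rw [glue_blk R D hA hB hc (Ne.symm hca) ha, Bk, S_comm R a l,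
          show S A s l a * (S A s l a * A (blk c l (dg v)) * S A s l a) * S A s l a
            = (S A s l a * S A s l a) * A (blk c l (dg v)) * (S A s l a * S A s l a) by
          simp only [mul_assoc], S_sq R, one_mul, mul_one]
        exact A_mem_Tor R D hA hB (blk_dg_mem hc _)
  by_cases hab : a = b
  · subst hab; rw [S_self, one_mul, mul_one]; exact ht
  by_cases hb : b = l
  · subst hb; exact key a hab t ht
  by_cases ha : a = l
  · subst ha; rw [S_comm R]; exact key b hb t ht
  have e2 : S A s a b = S A s b l * S A s a l := by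
    rw [← S_triple R ha (Ne.symm hb) hab, S_comm R b l, (S_commute R a l l b).eq]
  conv => arg 2; arg 1; arg 1; rw [← S_triple R ha (Ne.symm hb) hab, S_comm R l b]
  conv => arg 2; arg 2; rw [e2]
  rw [show S A s a l * S A s b l * t * (S A s b l * S A s a l)
    = S A s a l * (S A s b l * t * S A s b l) * S A s a l by simp only [mul_assoc]]
  exact key a ha _ (key b hb t ht)

include R in
theorem A_wt2_conj_S {a b : Fin (k + 4)} (hab : a ≠ b) (p q : Fin (k + 4)) :
    A (wt2 a b) * S A s p q * (A (wt2 a b))⁻¹ = S A s (swap a b p) (swap a b q) := by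
  by_cases hpq : p = q
  · subst hpq; rw [S_self, S_self, mul_one, mul_inv_cancel]
  have hc : A (wt2 a b) * S A s a b * (A (wt2 a b))⁻¹ = S A s a b := by
    rw [(A_wt2_S R hab).eq, mul_inv_cancel_right]
  by_cases hp : p = a ∨ p = b
  · by_cases hq : q = a ∨ q = b
    · rcases hp with rfl | rfl <;> rcases hq with rfl | rfl
      · exact absurd rfl hpq
      · rw [swap_apply_left, swap_apply_right, S_comm R q p]; exact hc
      · rw [swap_apply_left, swap_apply_right, S_comm R p q]; exact hc
      · exact absurd rfl hpq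
    · push Not at hq
      rw [swap_apply_of_ne_of_ne hq.1 hq.2]
      rcases hp with rfl | rfl
      · rw [swap_apply_left]; exact (wt2_S R hab hq.1 hq.2).2
      · rw [swap_apply_right]; exact (wt2_S R hab hq.1 hq.2).1
  · push Not at hp
    rw [swap_apply_of_ne_of_ne hp.1 hp.2]
    by_cases hq : q = a ∨ q = b
    · rcases hq with rfl | rfl
      · rw [swap_apply_left, S_comm R p q, S_comm R p b]; exact (wt2_S R hab hp.1 hp.2).2
      · rw [swap_apply_right, S_comm R p q, S_comm R p a]; exact (wt2_S R hab hp.1 hp.2).1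
    · push Not at hq
      rw [swap_apply_of_ne_of_ne hq.1 hq.2, wt2,
        ← (S_far R hpq hp.1 hp.2 hq.1 hq.2 hab wi).eq, mul_inv_cancel_right]

theorem wt2_conj_Tor [Finite F] {a b : Fin (k + 4)} (hab : a ≠ b) {t : G}
    (ht : t ∈ Tor R D hA hB) : A (wt2 a b) * t * (A (wt2 a b))⁻¹ ∈ Tor R D hA hB := by
  have hA' : ∀ d ∈ dgSub F (k + 4), A (wt2 a b) * A d * (A (wt2 a b))⁻¹ ∈ Tor R D hA hB := by
    intro d hd
    rw [← map_mul, ← map_inv, ← map_mul]
    refine A_mem_Tor R D hA hB ?_
    show Mono _ 1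
    have := ((wt2_mono (F := F) hab).mul hd).mul (Mono.inv' (wt2_mono (F := F) hab))
    simpa using this
  refine conj_Tor_of R D hA hB (fun c v hc => hA' _ (blk_dg_mem hc v)) (fun c v hc => ?_) ht
  obtain ⟨x, hxc, hxl, -⟩ := exists_ne_three c (la (hn4 k)) c
  rw [glue_blk R D hA hB hc hxc hxl, Bk, ← conj_mul, ← conj_mul, A_wt2_conj_S R hab]
  exact S_conj_Tor R D hA hB _ _ (hA' _ (blk_dg_mem hc v))

theorem diag_conj_Tor [Finite F] {d : SLn} (hd : d ∈ dgSub F (k + 4)) {t : G}
    (ht : t ∈ Tor R D hA hB) : A d * t * (A d)⁻¹ ∈ Tor R D hA hB :=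
  mul_mem (mul_mem (A_mem_Tor R D hA hB hd) ht) (inv_mem (A_mem_Tor R D hA hB hd))

end Cfsg.Agent.H68.ShortPlus
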